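import Mathlib

/-!
A Frobenius group of automorphisms of an abelian group cannot have all norms of its complements and
of its kernel trivial.
-/

set_option autoImplicit false
set_option linter.style.haveILetI false

open scoped IsMulCommutative

namespace CfsgLib.Partition

universe u

variable {G : Type u} [Group G]

/-- Conjugation on an abelian subgroup, as an endomorphism of an additive group. -/
noncomputable def act (V : Subgroup G) [IsMulCommutative V] :
    Subgroup.normalizer (V : Set G) →* AddMonoid.End (Additive V) where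
  toFun g := MonoidHom.toAdditive
    { toFun := fun v : V => (⟨g * v * (g : G)⁻¹, (Subgroup.mem_normalizer_iff.1 g.2 v).1 v.2⟩ : V)
      map_one' := Subtype.ext (by simp)
      map_mul' := fun a b => Subtype.ext (by simp [mul_assoc]) }
  map_one' := by
    refine DFunLike.ext _ _ fun v => Additive.toMul.injective (Subtype.ext ?_)
    show (1 : G) * (Additive.toMul v : V) * (1 : G)⁻¹ = _
    simp
  map_mul' g h := by
    refine DFunLike.ext _ _ fun v => Additive.toMul.injective (Subtype.ext ?_)
    show ((g : G) * h) * (Additive.toMul v : V) * ((g : G) * h)⁻¹ =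
      (g : G) * ((h : G) * (Additive.toMul v : V) * (h : G)⁻¹) * (g : G)⁻¹
    group

theorem act_coe (V : Subgroup G) [IsMulCommutative V] (g : Subgroup.normalizer (V : Set G))
    (v : Additive V) :
    ((Additive.toMul ((act V g) v) : V) : G) = g * (Additive.toMul v : V) * (g : G)⁻¹ := rfl

theorem act_eq_of_commute (V : Subgroup G) [IsMulCommutative V] (g h : Subgroup.normalizer (V : Set G))
    (hc : ∀ v ∈ V, Commute ((g : G)⁻¹ * h) v) : act V g = act V h := by
  refine DFunLike.ext _ _ fun v => Additive.toMul.injective (Subtype.ext ?_)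
  rw [act_coe, act_coe]
  have := (hc _ (Additive.toMul v : V).2).eq
  calc (g : G) * (Additive.toMul v : V) * (g : G)⁻¹
      = g * (((Additive.toMul v : V) : G) * ((g : G)⁻¹ * h)) * (h : G)⁻¹ := by group
    _ = g * (((g : G)⁻¹ * h) * (Additive.toMul v : V)) * (h : G)⁻¹ := by rw [this]
    _ = _ := by group

/-- The norm of `g`, in terms of the power of `v * g`. -/
theorem sum_act (V : Subgroup G) [IsMulCommutative V] (g : Subgroup.normalizer (V : Set G))
    (v : Additive V) (n : ℕ) :
    ((Additive.toMul ((∑ k ∈ Finset.range n, act V g ^ k) v) : V) : G) =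
      ((Additive.toMul v : V) * (g : G)) ^ n * ((g : G) ^ n)⁻¹ := by
  induction n with
  | zero => simp
  | succ n ih =>
    have h2 : ((Additive.toMul ((act V g ^ n) v) : V) : G) =
        (g : G) ^ n * (Additive.toMul v : V) * ((g : G) ^ n)⁻¹ := by
      rw [← map_pow, act_coe, SubgroupClass.coe_pow]
    rw [Finset.sum_range_succ]
    show ((Additive.toMul ((∑ k ∈ Finset.range n, act V g ^ k) v + (act V g ^ n) v) : V) : G) = _
    rw [toMul_add, Subgroup.coe_mul, ih, h2, pow_succ, pow_succ, mul_inv_rev]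
    group

/-- The coefficients `1 + i + ⋯ + i ^ (k - 1)`. -/
def coeff (i : ℕ) : ℕ → ℕ
  | 0 => 0
  | k + 1 => 1 + i * coeff i k

theorem coeff_mul_sub_one {R : Type*} [CommRing R] (i k : ℕ) :
    (coeff i k : R) * ((i : R) - 1) = (i : R) ^ k - 1 := by
  induction k with
  | zero => simp [coeff]
  | succ k ih =>
    simp only [coeff]
    push_cast
    linear_combination (i : R) * ih

theorem coeff_one (k : ℕ) : coeff 1 k = k := by
  induction k with
  | zero => rfl
  | succ k ih => simp only [coeff, ih]; omega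

/-- An element `y` of order `p` acting non-trivially on a group `⟨b⟩` of prime order `r`. -/
theorem kernel_facts {K : Type*} [Group K] {b y : K} {r p i : ℕ} (hr : r.Prime) (hp : p.Prime)
    (hb : b ^ r = 1) (hy : y ^ p = 1) (hi : y * b * y⁻¹ = b ^ i) (hne : ¬ Commute b y) :
    (∀ k, 0 < k → k < p → (coeff i k : ZMod r) ≠ 0) ∧ ∀ j : ℕ, (b ^ j * y) ^ p = 1 := by
  haveI := Fact.mk hr
  have hb1 : b ≠ 1 := fun e => hne (e ▸ Commute.one_left y)
  have hob : orderOf b = r := orderOf_eq_prime hb hb1
  have hipow : ∀ k : ℕ, y ^ k * b * (y ^ k)⁻¹ = b ^ i ^ k := by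
    intro k
    induction k with
    | zero => simp
    | succ k ih =>
      rw [pow_succ' y, mul_inv_rev, show y * y ^ k * b * ((y ^ k)⁻¹ * y⁻¹) =
        y * (y ^ k * b * (y ^ k)⁻¹) * y⁻¹ by group, ih, ← conj_pow, hi, ← pow_mul, pow_succ']
  have hip : ((i : ZMod r)) ^ p = 1 := by
    have h1 := hipow p
    rw [hy, one_mul, inv_one, mul_one] at h1
    have h2 : b ^ 1 = b ^ i ^ p := by rwa [pow_one]
    rw [pow_eq_pow_iff_modEq, hob] at h2
    have := (ZMod.natCast_eq_natCast_iff 1 (i ^ p) r).2 h2
    push_cast at this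
    exact this.symm
  have hi1 : (i : ZMod r) ≠ 1 := fun e => hne (by
    have h2 : i ≡ 1 [MOD r] := (ZMod.natCast_eq_natCast_iff i 1 r).1 (by rw [e, Nat.cast_one])
    rw [← hob] at h2
    have h3 := pow_eq_pow_iff_modEq.2 h2
    rw [pow_one] at h3
    rw [h3, mul_inv_eq_iff_eq_mul] at hi
    exact hi.symm)
  refine ⟨fun k hk hkp e => ?_, fun j => ?_⟩
  · have h0 := coeff_mul_sub_one (R := ZMod r) i k
    rw [e, zero_mul] at h0
    have h1 : orderOf (i : ZMod r) ∣ Nat.gcd k p :=
      Nat.dvd_gcd (orderOf_dvd_of_pow_eq_one (sub_eq_zero.1 h0.symm)) (orderOf_dvd_of_pow_eq_one hip)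
    rw [(Nat.coprime_comm.1 (hp.coprime_iff_not_dvd.2 fun hd => absurd (Nat.le_of_dvd hk hd)
      (not_le.2 hkp))).gcd_eq_one, Nat.dvd_one, orderOf_eq_one_iff] at h1
    exact hi1 h1
  · have hsc : SemiconjBy y b (b ^ i) := mul_inv_eq_iff_eq_mul.1 hi
    have hmul : ∀ k : ℕ, (b ^ j * y) ^ k = b ^ (j * coeff i k) * y ^ k := by
      intro k
      induction k with
      | zero => simp [coeff]
      | succ k ih =>
        rw [pow_succ', ih, mul_assoc, ← mul_assoc y, (hsc.pow_right (j * coeff i k)).eq, ← pow_mul,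
          mul_assoc, ← pow_succ', ← mul_assoc, ← pow_add]
        congr 2
        simp only [coeff]
        ring
    have hc0 : (coeff i p : ZMod r) = 0 := by
      have h1 := coeff_mul_sub_one (R := ZMod r) i p
      rw [hip, sub_self, mul_eq_zero] at h1
      exact h1.resolve_right (sub_ne_zero.2 hi1)
    obtain ⟨w, hw⟩ := (ZMod.natCast_eq_zero_iff _ _).1 hc0
    rw [hmul, hy, mul_one, hw, mul_left_comm, pow_mul, hb, one_pow]

/-- If the norms of `b` and of all `b ^ j * y` vanish on `V`, then `V` has exponent dividing `r`. -/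
theorem pow_eq_one_of_norms {V : Subgroup G} [IsMulCommutative V] {b y : G}
    (hbN : b ∈ Subgroup.normalizer (V : Set G)) (hyN : y ∈ Subgroup.normalizer (V : Set G))
    {r p : ℕ} (hr : r.Prime) (hp : 0 < p) (i : ℕ)
    (hconj : ∀ v ∈ V, Commute ((y * b)⁻¹ * (b ^ i * y)) v)
    (hbr : ∀ v ∈ V, Commute (b ^ r) v)
    (hco : ∀ k, 0 < k → k < p → (coeff i k : ZMod r) ≠ 0)
    (hb : ∀ v ∈ V, (v * b) ^ r = b ^ r)
    (hy : ∀ j : ℕ, ∀ v ∈ V, (v * (b ^ j * y)) ^ p = (b ^ j * y) ^ p) :
    ∀ v ∈ V, v ^ r = 1 := by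
  classical
  haveI : Fact r.Prime := ⟨hr⟩
  set B := act V ⟨b, hbN⟩ with hB
  set Y := act V ⟨y, hyN⟩ with hY
  have hBr : B ^ r = 1 := by
    rw [hB, ← map_pow, ← map_one (act V)]
    refine act_eq_of_commute V _ _ fun v hv => ?_
    simpa using (hbr v hv).inv_left
  have hrel : SemiconjBy Y B (B ^ i) := by
    show Y * B = B ^ i * Y
    rw [hB, hY, ← map_pow, ← map_mul, ← map_mul]
    exact act_eq_of_commute V _ _ fun v hv => by simpa [mul_assoc] using hconj v hv
  have hzero : ∀ (g : Subgroup.normalizer (V : Set G)) (n : ℕ),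
      (∀ v ∈ V, (v * (g : G)) ^ n = (g : G) ^ n) → ∑ k ∈ Finset.range n, act V g ^ k = 0 := by
    intro g n h
    refine DFunLike.ext _ _ fun v => Additive.toMul.injective (Subtype.ext ?_)
    rw [sum_act, h _ (Additive.toMul v : V).2, mul_inv_cancel]
    rfl
  have hBs : ∑ k ∈ Finset.range r, B ^ k = 0 := hzero _ r hb
  have hYs : ∀ j : ℕ, ∑ k ∈ Finset.range p, (B ^ j * Y) ^ k = 0 := fun j => by
    rw [hB, hY, ← map_pow, ← map_mul]
    exact hzero _ p (by simpa using hy j)
  have hmul : ∀ j k : ℕ, (B ^ j * Y) ^ k = B ^ (j * coeff i k) * Y ^ k := by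
    intro j k
    induction k with
    | zero => simp [coeff]
    | succ k ih =>
      rw [pow_succ', ih, mul_assoc, ← mul_assoc Y, (hrel.pow_right (j * coeff i k)).eq, ← pow_mul,
        mul_assoc, ← pow_succ', ← mul_assoc, ← pow_add]
      congr 2
      simp only [coeff]
      ring
  have hmod : ∀ n, B ^ n = B ^ (n % r) := fun n => by
    conv_lhs => rw [← Nat.mod_add_div n r, pow_add, pow_mul, hBr, one_pow, mul_one]
  have hsum : ∀ k, 0 < k → k < p → ∑ j ∈ Finset.range r, B ^ (j * coeff i k) = 0 := by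
    intro k hk hkp
    have hc : (coeff i k : ZMod r) ≠ 0 := hco k hk hkp
    have hinj : Set.InjOn (fun j => j * coeff i k % r) (Finset.range r : Set ℕ) := by
      intro a ha a' ha' h
      have h' : ((a * coeff i k : ℕ) : ZMod r) = ((a' * coeff i k : ℕ) : ZMod r) :=
        (ZMod.natCast_eq_natCast_iff' _ _ _).2 h
      push_cast at h'
      have h2 := (ZMod.natCast_eq_natCast_iff' _ _ _).1 (mul_right_cancel₀ hc h')
      rwa [Nat.mod_eq_of_lt (Finset.mem_range.1 ha), Nat.mod_eq_of_lt (Finset.mem_range.1 ha')] at h2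
    have him : (Finset.range r).image (fun j => j * coeff i k % r) = Finset.range r :=
      Finset.eq_of_subset_of_card_le (fun x hx => by
        obtain ⟨a, -, rfl⟩ := Finset.mem_image.1 hx
        exact Finset.mem_range.2 (Nat.mod_lt _ hr.pos))
        (by rw [Finset.card_image_of_injOn hinj])
    calc ∑ j ∈ Finset.range r, B ^ (j * coeff i k)
        = ∑ j ∈ Finset.range r, B ^ (j * coeff i k % r) := Finset.sum_congr rfl fun j _ => hmod _
      _ = ∑ j ∈ (Finset.range r).image (fun j => j * coeff i k % r), B ^ j :=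
          (Finset.sum_image (f := fun j => B ^ j) hinj).symm
      _ = 0 := by rw [him, hBs]
  have htot : (r : AddMonoid.End (Additive V)) = 0 := by
    have h0 : ∑ k ∈ Finset.range p, ∑ j ∈ Finset.range r, (B ^ j * Y) ^ k = 0 := by
      rw [Finset.sum_comm]
      exact Finset.sum_eq_zero fun j _ => hYs j
    rw [Finset.sum_eq_single 0] at h0
    · simpa using h0
    · intro k hk hk0
      rw [Finset.sum_congr rfl fun j _ => hmul j k, ← Finset.sum_mul,
        hsum k (Nat.pos_of_ne_zero hk0) (Finset.mem_range.1 hk), zero_mul]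
    · intro h
      exact absurd (Finset.mem_range.2 hp) h
  intro v hv
  have h := DFunLike.congr_fun htot (Additive.ofMul (⟨v, hv⟩ : V))
  rw [AddMonoid.End.natCast_apply] at h
  have h2 := congrArg Subtype.val (congrArg Additive.toMul h)
  simpa using h2

end CfsgLib.Partition
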