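import Cfsg.Agent.S0205
import Cfsg.Agent.Lib.Cores.MinimalNormal
import Cfsg.Agent.Lib.Partition.Norm
import Cfsg.Agent.Lib.Transfer.Tate

/-!
A group acting irreducibly on an elementary abelian `p`-group, `p` odd, with `p'`-elements free of
fixed points and all norms of `p`-elements vanishing: some non-trivial normal cyclic subgroup of
`p'`-order is centralised by an element of order `p`.
-/

set_option autoImplicit false
set_option linter.style.haveILetI false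

namespace CfsgLib.Partition

universe u

variable {G : Type u} [Group G]

/-- An element is the product of a `p`-element and an element of order prime to `p`. -/
theorem exists_parts [Finite G] (p : ℕ) [hp : Fact p.Prime] (g : G) :
    ∃ a c : G, a * c = g ∧ Commute a c ∧ a ∈ Subgroup.zpowers g ∧ c ∈ Subgroup.zpowers g ∧
      (∃ k : ℕ, a ^ p ^ k = 1) ∧ (orderOf c).Coprime p := by
  obtain ⟨k, m, hm, he⟩ := Nat.exists_eq_pow_mul_and_not_dvd (orderOf_pos g).ne' p hp.out.ne_one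
  have hcop : Nat.gcd (p ^ k) m = 1 :=
    Nat.Coprime.pow_left k (hp.out.coprime_iff_not_dvd.2 hm)
  have hbez := Nat.gcd_eq_gcd_ab (p ^ k) m
  rw [hcop] at hbez
  set x := Nat.gcdA (p ^ k) m with hxdef
  set y := Nat.gcdB (p ^ k) m with hydef
  have hsum : ((m : ℤ) * y) + ((p ^ k : ℕ) : ℤ) * x = 1 := by push_cast at hbez ⊢; linarith
  have hn : g ^ ((p ^ k * m : ℕ) : ℤ) = 1 := by rw [zpow_natCast, ← he, pow_orderOf_eq_one]
  refine ⟨g ^ ((m : ℤ) * y), g ^ (((p ^ k : ℕ) : ℤ) * x), ?_, ?_, zpow_mem (Subgroup.mem_zpowers g) _,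
    zpow_mem (Subgroup.mem_zpowers g) _, ⟨k, ?_⟩, ?_⟩
  · rw [← zpow_add, hsum, zpow_one]
  · exact ((Commute.refl g).zpow_left _).zpow_right _
  · rw [← zpow_natCast, ← zpow_mul, show (m : ℤ) * y * ((p ^ k : ℕ) : ℤ) = ((p ^ k * m : ℕ) : ℤ) * y by
      push_cast; ring, zpow_mul, hn, one_zpow]
  · refine Nat.Coprime.coprime_dvd_left (orderOf_dvd_of_pow_eq_one (n := m) ?_)
      (hp.out.coprime_iff_not_dvd.2 hm).symm
    rw [← zpow_natCast, ← zpow_mul, show ((p ^ k : ℕ) : ℤ) * x * (m : ℤ) = ((p ^ k * m : ℕ) : ℤ) * x by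
      push_cast; ring, zpow_mul, hn, one_zpow]

/-- The hypotheses. -/
structure Hyp (p : ℕ) (V Q : Subgroup G) : Prop where
  prime : p.Prime
  odd : p ≠ 2
  normV : V.Normal
  normQ : Q.Normal
  comm : IsMulCommutative V
  expo : ∀ v ∈ V, v ^ p = 1
  bot : V ≠ ⊥
  min : ∀ W : Subgroup G, W.Normal → W ≤ V → W = ⊥ ∨ W = V
  cent : ∀ g : G, g ∈ Q ↔ ∀ v ∈ V, Commute g v
  fpf : ∀ g : G, g ∉ Q → (orderOf g).Coprime p → ∀ v ∈ V, Commute g v → v = 1
  norm : ∀ y : G, y ∉ Q → (∃ k : ℕ, y ^ p ^ k = 1) → y ^ p = 1 ∧ ∀ v ∈ V, (v * y) ^ p = 1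

variable {p : ℕ} {V Q : Subgroup G}

theorem Hyp.mem_normalizer (h : Hyp p V Q) (g : G) : g ∈ Subgroup.normalizer (V : Set G) :=
  haveI := h.normV
  Subgroup.normalizer_eq_top (H := V) ▸ Subgroup.mem_top g

/-- An element of order prime to `p` outside `Q` has trivial norm. -/
theorem Hyp.norm_eq (h : Hyp p V Q) [Finite G] {g : G} (hg : g ∉ Q) (hc : (orderOf g).Coprime p)
    {n : ℕ} (hn : g ^ n ∈ Q) : ∀ v ∈ V, (v * g) ^ n = g ^ n := by
  intro v hv
  haveI := h.normV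
  have hcomm := h.comm
  have hX : (v * g) ^ n * (g ^ n)⁻¹ ∈ V := by
    rw [← QuotientGroup.eq_one_iff, QuotientGroup.mk_mul, QuotientGroup.mk_inv, QuotientGroup.mk_pow,
      QuotientGroup.mk_mul, (QuotientGroup.eq_one_iff v).2 hv, one_mul, QuotientGroup.mk_pow,
      mul_inv_cancel]
  set X := (v * g) ^ n * (g ^ n)⁻¹ with hXdef
  have hgXg : g * X * g⁻¹ ∈ V := h.normV.conj_mem _ hX g
  have hA : (v * g) ^ n = X * g ^ n := by rw [hXdef]; group
  have h1 : v * g * (X * g ^ n) = X * g ^ n * (v * g) := hA ▸ (pow_mul_comm' (v * g) n).symm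
  have h3 : v * (g * X * g⁻¹) * g ^ (n + 1) = v * X * g ^ (n + 1) := by
    calc v * (g * X * g⁻¹) * g ^ (n + 1) = v * g * (X * g ^ n) := by rw [pow_succ']; group
      _ = X * g ^ n * (v * g) := h1
      _ = X * (g ^ n * v) * g := by group
      _ = X * (v * g ^ n) * g := by rw [((h.cent _).1 hn v hv).eq]
      _ = (X * v) * g ^ (n + 1) := by rw [pow_succ]; group
      _ = _ := by rw [setLike_mul_comm hX hv]
  have h4 : g * X * g⁻¹ = X := mul_left_cancel (mul_right_cancel h3)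
  have hX1 : X = 1 := h.fpf g hg hc X hX (mul_inv_eq_iff_eq_mul.1 h4)
  rw [hA, hX1, one_mul]

/-- An element of order `p` modulo `Q` has trivial norm. -/
theorem Hyp.norm_eq_p (h : Hyp p V Q) [Finite G] {g : G} (hg : g ∉ Q) (hn : g ^ p ∈ Q) :
    ∀ v ∈ V, (v * g) ^ p = g ^ p := by
  intro v hv
  haveI := Fact.mk h.prime
  haveI := h.normQ
  obtain ⟨a, c, rfl, hac, -, hc', ⟨k, hk⟩, hcop⟩ := exists_parts p g
  have hcQ : c ∈ Q := by
    rw [← QuotientGroup.eq_one_iff]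
    obtain ⟨z, hz⟩ := hc'
    have h1 : ((c : G) : G ⧸ Q) ^ p = 1 := by
      rw [← hz, QuotientGroup.mk_zpow, ← zpow_natCast, ← zpow_mul, mul_comm, zpow_mul, zpow_natCast,
        ← QuotientGroup.mk_pow, (QuotientGroup.eq_one_iff _).2 hn, one_zpow]
    have h2 : orderOf ((c : G) : G ⧸ Q) ∣ Nat.gcd (orderOf c) p :=
      Nat.dvd_gcd (orderOf_map_dvd (QuotientGroup.mk' Q) c) (orderOf_dvd_of_pow_eq_one h1)
    rwa [hcop.gcd_eq_one, Nat.dvd_one, orderOf_eq_one_iff] at h2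
  have haQ : a ∉ Q := fun h => hg (Q.mul_mem h hcQ)
  obtain ⟨hap, hav⟩ := h.norm a haQ ⟨k, hk⟩
  have hvc : Commute (v * a) c := (((h.cent c).1 hcQ v hv).symm).mul_left hac
  rw [← mul_assoc, hvc.mul_pow, hav v hv, hac.mul_pow, hap]

/-- The conclusion. -/
theorem Hyp.exists_pair (h : Hyp p V Q) [Finite G] (hdiv : p ∣ Q.index) :
    ∃ (b y : G) (r : ℕ), r.Prime ∧ r ≠ p ∧ Commute b y ∧ y ^ p = 1 ∧ y ∉ Q ∧ b ∉ Q ∧
      (orderOf b).Coprime p ∧ b ^ r ∈ Q ∧ ∀ g : G, ∃ k : ℤ, g * b * g⁻¹ * (b ^ k)⁻¹ ∈ Q := by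
  classical
  haveI := Fact.mk h.prime
  haveI := h.normQ
  haveI := h.normV
  haveI := h.comm
  let π := QuotientGroup.mk' Q
  have hπ1 : ∀ g, π g = 1 ↔ g ∈ Q := fun g => QuotientGroup.eq_one_iff g
  have hsurj : Function.Surjective π := QuotientGroup.mk'_surjective Q
  -- from a commuting pair in the quotient
  have finish : ∀ (b₀ y₀ : G ⧸ Q) (r : ℕ), r.Prime → r ≠ p → b₀ ≠ 1 → b₀ ^ r = 1 →
      y₀ ≠ 1 → y₀ ^ p = 1 → Commute b₀ y₀ → (∀ x : G ⧸ Q, ∃ k : ℤ, x * b₀ * x⁻¹ = b₀ ^ k) →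
      ∃ (b y : G) (r : ℕ), r.Prime ∧ r ≠ p ∧ Commute b y ∧ y ^ p = 1 ∧ y ∉ Q ∧ b ∉ Q ∧
        (orderOf b).Coprime p ∧ b ^ r ∈ Q ∧ ∀ g : G, ∃ k : ℤ, g * b * g⁻¹ * (b ^ k)⁻¹ ∈ Q := by
    intro b₀ y₀ r hr hrp hb1 hbr hy1 hyp hby hnorm
    have hob : orderOf b₀ = r := by haveI := Fact.mk hr; exact orderOf_eq_prime hbr hb1
    have hoy : orderOf y₀ = p := orderOf_eq_prime hyp hy1
    have hog : orderOf (b₀ * y₀) = r * p := by
      rw [hby.orderOf_mul_eq_mul_orderOf_of_coprime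
        (by rw [hob, hoy]; exact (Nat.coprime_primes hr h.prime).2 hrp), hob, hoy]
    obtain ⟨g, hg⟩ := hsurj (b₀ * y₀)
    obtain ⟨a, c, hac, hcomm, -, hc', ⟨k, hk⟩, hcop⟩ := exists_parts p g
    have haQ : a ∉ Q := fun ha => by
      have h1 : orderOf (π c) ∣ orderOf c := orderOf_map_dvd π c
      rw [show π c = b₀ * y₀ by rw [← hg, ← hac, map_mul, (hπ1 a).2 ha, one_mul], hog] at h1
      exact h.prime.coprime_iff_not_dvd.1 hcop.symm ((dvd_mul_left p r).trans h1)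
    have hcQ : c ∉ Q := fun hc => by
      have h1 : orderOf (π a) ∣ p ^ k := orderOf_dvd_of_pow_eq_one (by rw [← map_pow, hk, map_one])
      rw [show π a = b₀ * y₀ by rw [← hg, ← hac, map_mul, (hπ1 c).2 hc, mul_one], hog] at h1
      exact hrp ((Nat.prime_dvd_prime_iff_eq hr h.prime).1
        (hr.dvd_of_dvd_pow ((dvd_mul_right r p).trans h1)))
    obtain ⟨z, hz⟩ := Subgroup.mem_zpowers_iff.1 hc'
    have hcz : π c = (b₀ * y₀) ^ z := by rw [← hz, map_zpow, hg]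
    have hco : (orderOf (π c)).Coprime p := hcop.coprime_dvd_left (orderOf_map_dvd π c)
    have hcr : π c ^ r = 1 := by
      have h1 : orderOf (π c) ∣ r * p := orderOf_dvd_of_pow_eq_one (by
        rw [hcz, ← zpow_natCast, ← zpow_mul, mul_comm, zpow_mul, zpow_natCast, ← hog,
          pow_orderOf_eq_one, one_zpow])
      exact orderOf_dvd_iff_pow_eq_one.1 (hco.dvd_of_dvd_mul_right h1)
    have hyz : (p : ℤ) ∣ z := by
      have h2 : y₀ ^ (z * r) = 1 := by
        have h1 := hcr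
        rw [hcz, ← zpow_natCast, ← zpow_mul, hby.mul_zpow, mul_comm z, zpow_mul, zpow_natCast, hbr,
          one_zpow, one_mul, mul_comm (r : ℤ)] at h1
        exact h1
      rw [← orderOf_dvd_iff_zpow_eq_one, hoy] at h2
      refine (Int.Prime.dvd_mul' h.prime h2).resolve_right fun h3 => hrp ?_
      exact ((Nat.prime_dvd_prime_iff_eq h.prime hr).1 (Int.natCast_dvd_natCast.1 h3)).symm
    have hcb : π c = b₀ ^ z := by
      obtain ⟨w, rfl⟩ := hyz
      rw [hcz, hby.mul_zpow, zpow_mul y₀, zpow_natCast, hyp, one_zpow, mul_one]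
    refine ⟨c, a, r, hr, hrp, hcomm.symm, (h.norm a haQ ⟨k, hk⟩).1, haQ, hcQ, hcop,
      (hπ1 _).1 (by rw [map_pow, hcr]), fun x => ?_⟩
    obtain ⟨j, hj⟩ := hnorm (π x)
    refine ⟨j, (hπ1 _).1 ?_⟩
    rw [map_mul, map_mul, map_mul, map_inv, map_inv, map_zpow, mul_inv_eq_one, hcb, ← conj_zpow, hj,
      ← zpow_mul, ← zpow_mul, mul_comm]
  -- an element of order `p` in the quotient
  obtain ⟨y₀, hy₀⟩ := exists_prime_orderOf_dvd_card' p (G := G ⧸ Q) (by rwa [← Subgroup.index_eq_card])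
  have hy1 : y₀ ≠ 1 := fun e => h.prime.one_lt.ne (by rw [← hy₀, e, orderOf_one])
  have hyp : y₀ ^ p = 1 := hy₀ ▸ pow_orderOf_eq_one y₀
  by_cases hev : 2 ∣ Nat.card (G ⧸ Q)
  · haveI : Fact (Nat.Prime 2) := ⟨Nat.prime_two⟩
    obtain ⟨e₀, he₀⟩ := exists_prime_orderOf_dvd_card' 2 hev
    have he1 : e₀ ≠ 1 := fun e => by rw [e, orderOf_one] at he₀; omega
    have he2 : e₀ ^ 2 = 1 := he₀ ▸ pow_orderOf_eq_one e₀
    obtain ⟨e₁, he₁⟩ := hsurj e₀
    obtain ⟨a, c, hac, hcomm, -, hc', ⟨k, hk⟩, hcop⟩ := exists_parts 2 e₁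
    have hac2 : π c = 1 := by
      obtain ⟨z, hz⟩ := Subgroup.mem_zpowers_iff.1 hc'
      have h1 : orderOf (π c) ∣ 2 := orderOf_dvd_of_pow_eq_one (by
        rw [← hz, map_zpow, he₁, ← zpow_natCast, ← zpow_mul, mul_comm, zpow_mul, zpow_natCast, he2,
          one_zpow])
      rw [← orderOf_eq_one_iff]
      exact Nat.eq_one_of_dvd_coprimes hcop (orderOf_map_dvd π c) h1
    have ha : π a = e₀ := by rw [← he₁, ← hac, map_mul, hac2, mul_one]
    have haQ : a ∉ Q := fun h' => he1 (ha ▸ (hπ1 a).2 h')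
    have hcopa : (orderOf a).Coprime p :=
      Nat.Coprime.coprime_dvd_left (orderOf_dvd_of_pow_eq_one hk)
        (Nat.Coprime.pow_left k ((Nat.coprime_primes Nat.prime_two h.prime).2 (Ne.symm h.odd)))
    have ha2 : a ^ 2 ∈ Q := (hπ1 _).1 (by rw [map_pow, ha, he2])
    have hinv : ∀ v ∈ V, a * v * a⁻¹ = v⁻¹ := fun v hv => by
      have h1 := h.norm_eq haQ hcopa ha2 v hv
      have h2 : v * (a * v * a⁻¹) * a ^ 2 = a ^ 2 := by
        conv_rhs => rw [← h1]
        simp [pow_two, mul_assoc]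
      exact (inv_eq_of_mul_eq_one_right (mul_eq_right.1 h2)).symm
    have hcen : ∀ x : G ⧸ Q, x * e₀ * x⁻¹ = e₀ := by
      intro x
      obtain ⟨g, rfl⟩ := hsurj x
      rw [← ha, ← map_inv, ← map_mul, ← map_mul, ← mul_inv_eq_one, ← map_inv, ← map_mul, hπ1, h.cent]
      intro v hv
      have hv' : g⁻¹ * (a⁻¹ * v * a) * g ∈ V := by
        have := h.normV.conj_mem _ (h.normV.conj_mem _ hv a⁻¹) g⁻¹
        simpa using this
      have ha' : a⁻¹ * v * a = v⁻¹ := by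
        have := hinv _ (V.inv_mem hv)
        rw [inv_inv] at this
        conv_lhs => rw [← this]
        group
      show g * a * g⁻¹ * a⁻¹ * v = v * (g * a * g⁻¹ * a⁻¹)
      rw [← mul_inv_eq_iff_eq_mul]
      calc g * a * g⁻¹ * a⁻¹ * v * (g * a * g⁻¹ * a⁻¹)⁻¹
          = g * (a * (g⁻¹ * (a⁻¹ * v * a) * g) * a⁻¹) * g⁻¹ := by group
        _ = g * (g⁻¹ * (a⁻¹ * v * a) * g)⁻¹ * g⁻¹ := by rw [hinv _ hv']
        _ = (a⁻¹ * v * a)⁻¹ := by group
        _ = v := by rw [ha', inv_inv]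
    exact finish e₀ y₀ 2 Nat.prime_two (Ne.symm h.odd) he1 he2 hy1 hyp
      (mul_inv_eq_iff_eq_mul.1 (hcen y₀)).symm fun x => ⟨1, by rw [hcen, zpow_one]⟩
  -- odd quotient: soluble
  haveI : Group.IsSolvable (G ⧸ Q) :=
    Cfsg.Agent.S0205.result (Nat.not_even_iff_odd.1 fun h' => hev (even_iff_two_dvd.1 h'))
  haveI : Nontrivial (G ⧸ Q) := nontrivial_of_ne y₀ 1 hy1
  obtain ⟨M, hMn, -, hMb, hMmin⟩ :=
    CfsgLib.Cores.exists_minimal_normal_le (K := (⊤ : Subgroup (G ⧸ Q))) top_ne_bot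
  haveI := hMn
  haveI hMc := CfsgLib.Cores.isMulCommutative_of_minimal_normal_of_isSolvable hMb hMmin
  obtain ⟨r, hr, hrM⟩ := Nat.exists_prime_and_dvd (n := Nat.card M)
    (fun e => hMb (Subgroup.eq_bot_of_card_eq _ e))
  haveI := Fact.mk hr
  have hMr : ∀ x ∈ M, x ^ r = 1 := by
    let E : Subgroup (G ⧸ Q) :=
      { carrier := {x | x ∈ M ∧ x ^ r = 1}
        one_mem' := ⟨M.one_mem, one_pow r⟩
        mul_mem' := fun {a b} ha hb => ⟨M.mul_mem ha.1 hb.1, by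
          rw [(show Commute a b from setLike_mul_comm ha.1 hb.1).mul_pow, ha.2, hb.2, one_mul]⟩
        inv_mem' := fun {a} ha => ⟨M.inv_mem ha.1, by rw [inv_pow, ha.2, inv_one]⟩ }
    have hEn : E.Normal := ⟨fun x hx g => ⟨hMn.conj_mem _ hx.1 g, by rw [conj_pow, hx.2]; simp⟩⟩
    rcases hMmin E hEn (fun x hx => hx.1) with he | he
    · obtain ⟨x, hx⟩ := exists_prime_orderOf_dvd_card' r hrM
      have : (x : G ⧸ Q) ∈ E :=
        ⟨x.2, by rw [← hx, ← Subgroup.orderOf_coe]; exact pow_orderOf_eq_one _⟩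
      rw [he, Subgroup.mem_bot] at this
      rw [← Subgroup.orderOf_coe, this, orderOf_one] at hx
      exact absurd hx hr.one_lt.ne
    · exact fun x hx => (he.symm ▸ hx : x ∈ E).2
  obtain ⟨b₀, hbM, hb1⟩ := (Subgroup.bot_or_exists_ne_one M).resolve_left hMb
  have hbr := hMr b₀ hbM
  have hrp : r ≠ p := by
    rintro rfl
    let R := M.comap π
    haveI : R.Normal := hMn.comap π
    obtain ⟨P⟩ : Nonempty (Sylow r R) := inferInstance
    set P' := (P : Subgroup R).map R.subtype with hP'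
    have hP'p : IsPGroup r P' := P.2.map _
    have hVp : IsPGroup r V :=
      fun v => ⟨1, Subtype.ext (by simp only [pow_one, SubgroupClass.coe_pow, Subgroup.coe_one]; exact h.expo _ v.2)⟩
    have hsup : IsPGroup r (V ⊔ P' : Subgroup G) := IsPGroup.to_sup_of_normal_left hVp hP'p
    haveI : Nontrivial (V : Subgroup G) := (Subgroup.nontrivial_iff_ne_bot V).2 h.bot
    obtain ⟨v, hv, hv1, hvc⟩ : ∃ v ∈ V, v ≠ 1 ∧ ∀ x ∈ P', Commute x v := by
      have hno : (V.subgroupOf (V ⊔ P')).Normal := inferInstance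
      haveI : Nontrivial (V.subgroupOf (V ⊔ P')) :=
        (Subgroup.subgroupOfEquivOfLe (le_sup_left : V ≤ V ⊔ P')).toEquiv.nontrivial
      obtain ⟨z, hz2, hz1⟩ := CfsgLib.Transfer.exists_mem_inf_center_ne_one hsup
        (M := V.subgroupOf (V ⊔ P')) ((Subgroup.nontrivial_iff_ne_bot _).1 inferInstance)
      exact ⟨z, hz2.1, fun e => hz1 (Subtype.ext e), fun x hx =>
        congrArg Subtype.val (Subgroup.mem_center_iff.1 hz2.2 ⟨x, le_sup_right (a := V) hx⟩)⟩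
    have hQR : Q ≤ R := fun q hq => by show π q ∈ M; rw [(hπ1 q).2 hq]; exact M.one_mem
    -- `R` is generated by `Q` and `P`
    let C : Subgroup R := (Subgroup.centralizer ({v} : Set G)).subgroupOf R
    have hQC : Q.subgroupOf R ≤ C := fun q hq =>
      Subgroup.mem_subgroupOf.2 (Subgroup.mem_centralizer_singleton_iff.2 ((h.cent _).1 hq v hv).eq)
    have hPC : (P : Subgroup R) ≤ C := fun x hx =>
      Subgroup.mem_subgroupOf.2 (Subgroup.mem_centralizer_singleton_iff.2 (hvc _ ⟨x, hx, rfl⟩).eq)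
    have hRC : C = ⊤ := by
      rw [← Subgroup.index_eq_one]
      have h1 : C.index ∣ (Q.subgroupOf R).index := Subgroup.index_dvd_of_le hQC
      have h2 : IsPGroup r (R ⧸ Q.subgroupOf R) := fun x => by
        obtain ⟨y, rfl⟩ := QuotientGroup.mk_surjective x
        refine ⟨1, ?_⟩
        rw [pow_one, ← QuotientGroup.mk_pow, QuotientGroup.eq_one_iff, Subgroup.mem_subgroupOf]
        exact (hπ1 _).1 (by rw [SubgroupClass.coe_pow, map_pow]; exact hMr _ y.2)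
      obtain ⟨n, hn⟩ := IsPGroup.iff_card.1 h2
      rw [← Subgroup.index_eq_card] at hn
      rw [hn] at h1
      exact Nat.eq_one_of_dvd_coprimes (Nat.Coprime.pow_left n (hr.coprime_iff_not_dvd.2 P.not_dvd_index))
        h1 (Subgroup.index_dvd_of_le hPC)
    let W : Subgroup G := V ⊓ Subgroup.centralizer (R : Set G)
    have hWV : W = V := by
      refine (h.min W inferInstance inf_le_left).resolve_left fun e => hv1 ?_
      refine Subgroup.mem_bot.1 (e ▸ (⟨hv, Subgroup.mem_centralizer_iff.2 fun x hx => ?_⟩ : v ∈ W))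
      exact Subgroup.mem_centralizer_singleton_iff.1
        (Subgroup.mem_subgroupOf.1 (hRC.symm ▸ Subgroup.mem_top (⟨x, hx⟩ : R) : (⟨x, hx⟩ : R) ∈ C))
    obtain ⟨b, hb⟩ := hsurj b₀
    refine hb1 (hb ▸ (hπ1 b).2 ((h.cent b).2 fun w hw => ?_))
    exact Subgroup.mem_centralizer_iff.1 (hWV.symm ▸ hw : w ∈ W).2 b (show π b ∈ M from hb.symm ▸ hbM)
  obtain ⟨b₁, hb₁⟩ := hsurj b₀
  -- a lift of order prime to `p`
  obtain ⟨a, b, hab, -, -, hb', ⟨k, hk⟩, hcop⟩ := exists_parts p b₁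
  have hbπ : π b = b₀ := by
    have h1 : orderOf (π a) ∣ p ^ k := orderOf_dvd_of_pow_eq_one (by rw [← map_pow, hk, map_one])
    have hpa : π a = b₀ * (π b)⁻¹ := by rw [← hb₁, ← hab, map_mul, mul_inv_cancel_right]
    obtain ⟨z, hz⟩ := Subgroup.mem_zpowers_iff.1 hb'
    have hbz : π b = b₀ ^ z := by rw [← hz, map_zpow, hb₁]
    have h2 : π a ^ r = 1 := hMr _ (hpa ▸ M.mul_mem hbM (M.inv_mem (hbz ▸ zpow_mem hbM z)))
    have h3 : π a = 1 := orderOf_eq_one_iff.1 (Nat.eq_one_of_dvd_coprimes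
      (Nat.Coprime.pow_left k ((Nat.coprime_primes h.prime hr).2 hrp.symm)) h1 (orderOf_dvd_of_pow_eq_one h2))
    rw [h3] at hpa
    exact (mul_inv_eq_one.1 hpa.symm).symm
  have hbQ : b ∉ Q := fun h' => hb1 (hbπ ▸ (hπ1 b).2 h')
  have hbrQ : b ^ r ∈ Q := (hπ1 _).1 (by rw [map_pow, hbπ, hbr])
  -- the minimal normal subgroup is cyclic
  have hcyc : ∀ x ∈ M, x ∈ Subgroup.zpowers b₀ := by
    by_contra! hcon
    obtain ⟨x, hx, hxb⟩ := hcon
    obtain ⟨c₁, hc₁⟩ := hsurj x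
    obtain ⟨a', c, hac, -, -, hc', ⟨k', hk'⟩, -⟩ := exists_parts p c₁
    have hcπ : π c = x := by
      have h1 : orderOf (π a') ∣ p ^ k' := orderOf_dvd_of_pow_eq_one (by rw [← map_pow, hk', map_one])
      obtain ⟨z, hz⟩ := Subgroup.mem_zpowers_iff.1 hc'
      have hpa : π a' = x * (π c)⁻¹ := by rw [← hc₁, ← hac, map_mul, mul_inv_cancel_right]
      have h2 : π a' ^ r = 1 :=
        hMr _ (hpa ▸ M.mul_mem hx (M.inv_mem (by rw [← hz, map_zpow, hc₁]; exact zpow_mem hx z)))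
      have h3 : π a' = 1 := orderOf_eq_one_iff.1 (Nat.eq_one_of_dvd_coprimes
        (Nat.Coprime.pow_left k' ((Nat.coprime_primes h.prime hr).2 hrp.symm)) h1 (orderOf_dvd_of_pow_eq_one h2))
      rw [h3] at hpa
      exact (mul_inv_eq_one.1 hpa.symm).symm
    have hM : ∀ z : G, π z ∈ M → z ∉ Q → ∀ v ∈ V, (v * z) ^ r = z ^ r := by
      intro z hzM hzQ v hv
      obtain ⟨a, e, hae, hcom, -, he', ⟨k, hk⟩, hcop'⟩ := exists_parts p z
      have haQ : a ∈ Q := (hπ1 a).1 <| by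
        have h1 : orderOf (π a) ∣ p ^ k := orderOf_dvd_of_pow_eq_one (by rw [← map_pow, hk, map_one])
        obtain ⟨w, hw⟩ := Subgroup.mem_zpowers_iff.1 he'
        have h2 : π a ^ r = 1 := by
          have hpa : π a = π z * (π e)⁻¹ := by rw [← hae, map_mul, mul_inv_cancel_right]
          exact hMr _ (hpa ▸ M.mul_mem hzM (M.inv_mem (by rw [← hw, map_zpow]; exact zpow_mem hzM w)))
        exact orderOf_eq_one_iff.1 (Nat.eq_one_of_dvd_coprimes
          (Nat.Coprime.pow_left k ((Nat.coprime_primes h.prime hr).2 hrp.symm)) h1 (orderOf_dvd_of_pow_eq_one h2))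
      have heQ : e ∉ Q := fun h' => hzQ (hae ▸ Q.mul_mem haQ h')
      have her : e ^ r ∈ Q := by
        have := (hπ1 (z ^ r)).1 (by rw [map_pow, hMr _ hzM])
        rw [← hae, hcom.mul_pow] at this
        exact (Q.mul_mem_cancel_left (Q.pow_mem haQ r)).1 this
      have hve : Commute a (v * e) := ((h.cent a).1 haQ v hv).mul_right hcom
      calc (v * z) ^ r = (a * (v * e)) ^ r := by
            rw [← hae, ← mul_assoc, ← ((h.cent a).1 haQ v hv).eq, mul_assoc]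
        _ = a ^ r * e ^ r := by rw [hve.mul_pow, h.norm_eq heQ hcop' her v hv]
        _ = z ^ r := by rw [← hcom.mul_pow, hae]
    have hcm : b₀ * x = x * b₀ := setLike_mul_comm hbM hx
    have hV := pow_eq_one_of_norms (V := V) (h.mem_normalizer b) (h.mem_normalizer c) hr hr.pos 1
      (fun v hv => (h.cent _).1 ((hπ1 _).1 (by
        simp only [map_mul, map_inv, hbπ, hcπ, pow_one]
        rw [hcm, inv_mul_cancel])) v hv)
      (fun v hv => (h.cent _).1 hbrQ v hv)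
      (fun k hk hkr => by
        rw [coeff_one, ne_eq, ZMod.natCast_eq_zero_iff]
        exact fun hd => absurd (Nat.le_of_dvd hk hd) (not_le.2 hkr))
      (h.norm_eq hbQ hcop hbrQ)
      (fun j => hM _ (by rw [map_mul, map_pow, hbπ, hcπ]; exact M.mul_mem (M.pow_mem hbM j) hx)
        (fun h' => hxb (by
          have := (hπ1 _).2 h'
          rw [map_mul, map_pow, hbπ, hcπ] at this
          exact inv_eq_of_mul_eq_one_right this ▸ Subgroup.inv_mem _ (Subgroup.pow_mem _ (Subgroup.mem_zpowers b₀) j))))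
    refine h.bot ((Subgroup.eq_bot_iff_forall V).2 fun v hv => ?_)
    have h1 : orderOf v ∣ Nat.gcd r p :=
      Nat.dvd_gcd (orderOf_dvd_of_pow_eq_one (hV v hv)) (orderOf_dvd_of_pow_eq_one (h.expo v hv))
    rw [((Nat.coprime_primes hr h.prime).2 hrp).gcd_eq_one] at h1
    exact orderOf_eq_one_iff.1 (Nat.dvd_one.1 h1)
  have hnorm : ∀ x : G ⧸ Q, ∃ k : ℤ, x * b₀ * x⁻¹ = b₀ ^ k := fun x =>
    (Subgroup.mem_zpowers_iff.1 (hcyc _ (hMn.conj_mem _ hbM x))).imp fun _ hk => hk.symm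
  by_cases hcm : Commute b₀ y₀
  · exact finish b₀ y₀ r hr hrp hb1 hbr hy1 hyp hcm hnorm
  exfalso
  have hob : orderOf b₀ = r := orderOf_eq_prime hbr hb1
  obtain ⟨i, hi⟩ : ∃ i : ℕ, y₀ * b₀ * y₀⁻¹ = b₀ ^ i := by
    obtain ⟨z, hz⟩ := hnorm y₀
    refine ⟨(z % (r : ℤ)).toNat, ?_⟩
    rw [hz, ← zpow_natCast, Int.toNat_of_nonneg (Int.emod_nonneg _ (by exact_mod_cast hr.ne_zero)), ← hob,
      zpow_mod_orderOf]
  obtain ⟨hco, hbyp⟩ := kernel_facts hr h.prime hbr hyp hi hcm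
  have hsc : SemiconjBy y₀ b₀ (b₀ ^ i) := mul_inv_eq_iff_eq_mul.1 hi
  obtain ⟨y, hy⟩ := hsurj y₀
  have hV := pow_eq_one_of_norms (V := V) (h.mem_normalizer b) (h.mem_normalizer y) hr h.prime.pos i
    (fun v hv => (h.cent _).1 ((hπ1 _).1 (by
      simp only [map_mul, map_inv, map_pow, hbπ, hy]
      rw [hsc.eq, inv_mul_cancel])) v hv)
    (fun v hv => (h.cent _).1 hbrQ v hv) hco
    (h.norm_eq hbQ hcop hbrQ)
    (fun j => h.norm_eq_p
      (fun h' => by
        have h1 := (hπ1 _).2 h'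
        rw [map_mul, map_pow, hbπ, hy] at h1
        refine hcm ?_
        rw [← inv_eq_of_mul_eq_one_right h1]
        exact ((Commute.refl b₀).pow_right j).inv_right)
      ((hπ1 _).1 (by rw [map_pow, map_mul, map_pow, hbπ, hy, hbyp])))
  refine h.bot ((Subgroup.eq_bot_iff_forall V).2 fun v hv => ?_)
  have h1 : orderOf v ∣ Nat.gcd r p :=
    Nat.dvd_gcd (orderOf_dvd_of_pow_eq_one (hV v hv)) (orderOf_dvd_of_pow_eq_one (h.expo v hv))
  rw [((Nat.coprime_primes hr h.prime).2 hrp).gcd_eq_one] at h1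
  exact orderOf_eq_one_iff.1 (Nat.dvd_one.1 h1)

end CfsgLib.Partition
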