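import Mathlib
import Cfsg.Agent.S3946

/-!
Partitions of finite groups, invariant under conjugation: basic lemmas on components.
-/

set_option autoImplicit false
set_option linter.style.haveILetI false

namespace CfsgLib.Partition

universe u

variable {G : Type u} [Group G]

/-- A nontrivial partition invariant under conjugation, given by the component of each element. -/
structure Part (G : Type u) [Group G] where
  comp : G → Subgroup G
  mem : ∀ g : G, g ≠ 1 → g ∈ comp g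
  eq : ∀ g h : G, g ≠ 1 → h ∈ comp g → h ≠ 1 → comp h = comp g
  conj : ∀ g x y : G, y ∈ comp (x * g * x⁻¹) ↔ x⁻¹ * y * x ∈ comp g
  ne_top : ∀ g : G, g ≠ 1 → comp g ≠ ⊤

/-- Any nontrivial partition can be refined to one invariant under conjugation. -/
theorem exists_part (S : Set (Subgroup G)) (hS2 : ∃ H ∈ S, ∃ K ∈ S, H ≠ K)
    (hS1 : ∀ H ∈ S, H ≠ ⊥) (hpart : ∀ g : G, g ≠ 1 → ∃! H : Subgroup G, H ∈ S ∧ g ∈ H) :
    Nonempty (Part G) := by
  classical
  let m : G → Subgroup G := fun g => if h : g ≠ 1 then (hpart g h).choose else ⊤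
  have hm : ∀ g : G, g ≠ 1 → m g ∈ S ∧ g ∈ m g := fun g hg => by
    simp only [m, dif_pos hg]; exact (hpart g hg).choose_spec.1
  have hmeq : ∀ g : G, g ≠ 1 → ∀ K ∈ S, g ∈ K → K = m g := fun g hg K hK hgK => by
    simp only [m, dif_pos hg]; exact (hpart g hg).choose_spec.2 K ⟨hK, hgK⟩
  let c : G → Subgroup G := fun g =>
    ⨅ x : G, (m (x⁻¹ * g * x)).comap (MulAut.conj x⁻¹).toMonoidHom
  have hc : ∀ g y : G, y ∈ c g ↔ ∀ x : G, x⁻¹ * y * x ∈ m (x⁻¹ * g * x) := fun g y => by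
    simp [c, Subgroup.mem_iInf]
  have hne : ∀ g : G, g ≠ 1 → ∀ x : G, x⁻¹ * g * x ≠ 1 := fun g hg x h => hg (by
    calc g = x * (x⁻¹ * g * x) * x⁻¹ := by group
      _ = 1 := by rw [h]; group)
  refine ⟨{ comp := c, mem := ?_, eq := ?_, conj := ?_, ne_top := ?_ }⟩
  · exact fun g hg => (hc g g).2 fun x => (hm _ (hne g hg x)).2
  · intro g h hg hh hh1
    refine SetLike.ext fun y => ?_
    rw [hc, hc]
    refine forall_congr' fun x => ?_
    rw [hmeq _ (hne h hh1 x) _ (hm _ (hne g hg x)).1 ((hc g h).1 hh x)]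
  · intro g x y
    rw [hc, hc]
    refine ⟨fun h z => ?_, fun h z => ?_⟩
    · have := h (x * z)
      simpa [mul_assoc] using this
    · have := h (x⁻¹ * z)
      simpa [mul_assoc] using this
  · intro g hg htop
    obtain ⟨H, hH, K, hK, hne'⟩ := hS2
    have hle : c g ≤ m g := fun y hy => by simpa using (hc g y).1 hy 1
    rw [htop, top_le_iff] at hle
    have hall : ∀ L ∈ S, L = ⊤ := fun L hL => by
      obtain ⟨l, hl, hl1⟩ := (Subgroup.bot_or_exists_ne_one L).resolve_left (hS1 L hL)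
      rw [hmeq l hl1 L hL hl]
      exact (hmeq l hl1 ⊤ (hle ▸ (hm g hg).1) (Subgroup.mem_top l)).symm
    exact hne' ((hall H hH).trans (hall K hK).symm)

namespace Part

variable (P : Part G)

/-- The components. -/
def IsComp (H : Subgroup G) : Prop := ∃ g : G, g ≠ 1 ∧ P.comp g = H

variable {P}

theorem isComp_comp {g : G} (hg : g ≠ 1) : P.IsComp (P.comp g) := ⟨g, hg, rfl⟩

theorem IsComp.eq_comp {H : Subgroup G} (hH : P.IsComp H) {x : G} (hx : x ∈ H) (hx1 : x ≠ 1) :
    P.comp x = H := by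
  obtain ⟨g, hg, rfl⟩ := hH
  exact P.eq g x hg hx hx1

theorem IsComp.ne_top {H : Subgroup G} (hH : P.IsComp H) : H ≠ ⊤ := by
  obtain ⟨g, hg, rfl⟩ := hH
  exact P.ne_top g hg

theorem IsComp.ne_bot {H : Subgroup G} (hH : P.IsComp H) : H ≠ ⊥ := by
  obtain ⟨g, hg, rfl⟩ := hH
  exact fun h => hg (Subgroup.mem_bot.1 (h ▸ P.mem g hg))

theorem IsComp.eq_of_mem {H K : Subgroup G} (hH : P.IsComp H) (hK : P.IsComp K) {x : G}
    (hxH : x ∈ H) (hxK : x ∈ K) (hx1 : x ≠ 1) : H = K :=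
  (hH.eq_comp hxH hx1).symm.trans (hK.eq_comp hxK hx1)

/-- An element that moves one non-identity element of a component inside it normalises it. -/
theorem IsComp.mem_normalizer_of_conj_mem {H : Subgroup G} (hH : P.IsComp H) {x g : G} (hx : x ∈ H)
    (hx1 : x ≠ 1) (h : g * x * g⁻¹ ∈ H) : g ∈ Subgroup.normalizer (H : Set G) := by
  have h1 : g * x * g⁻¹ ≠ 1 := fun e => hx1 (by
    calc x = g⁻¹ * (g * x * g⁻¹) * g := by group
      _ = 1 := by rw [e]; group)
  refine Subgroup.mem_normalizer_iff.2 fun y => ?_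
  nth_rw 2 [← hH.eq_comp h h1]
  rw [P.conj, hH.eq_comp hx hx1]
  simp [mul_assoc]

theorem IsComp.mem_normalizer_of_commute {H : Subgroup G} (hH : P.IsComp H) {x g : G} (hx : x ∈ H)
    (hx1 : x ≠ 1) (h : Commute g x) : g ∈ Subgroup.normalizer (H : Set G) :=
  hH.mem_normalizer_of_conj_mem hx hx1 (by rwa [h.eq, mul_inv_cancel_right])

theorem IsComp.conj {H : Subgroup G} (hH : P.IsComp H) (x : G) :
    P.IsComp (H.map (MulAut.conj x).toMonoidHom) := by
  obtain ⟨g, hg, rfl⟩ := hH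
  refine ⟨x * g * x⁻¹, fun e => hg ?_, SetLike.ext fun y => ?_⟩
  · calc g = x⁻¹ * (x * g * x⁻¹) * x := by group
      _ = 1 := by rw [e]; group
  · rw [P.conj, Subgroup.mem_map]
    refine ⟨fun h => ⟨x⁻¹ * y * x, h, by simp [mul_assoc]⟩, ?_⟩
    rintro ⟨w, hw, rfl⟩
    simpa [mul_assoc] using hw

theorem pow_mem_comp {g : G} (hg : g ≠ 1) (k : ℕ) : g ^ k ∈ P.comp g :=
  (P.comp g).pow_mem (P.mem g hg) k

theorem IsComp.pow_eq_one {H : Subgroup G} (hH : P.IsComp H) {g : G} (hg : g ∉ H) {k : ℕ}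
    (hk : g ^ k ∈ H) : g ^ k = 1 := by
  by_contra h1
  have hg1 : g ≠ 1 := fun e => hg (e ▸ H.one_mem)
  exact hg ((isComp_comp hg1).eq_of_mem hH (pow_mem_comp hg1 k) hk h1 ▸ P.mem g hg1)

/-- Commuting elements of different components have the same prime order. -/
theorem orderOf_dvd_of_commute {x y : G} (hy : y ≠ 1) (h : Commute x y) (hx : x ≠ 1)
    (hne : P.comp x ≠ P.comp y) : orderOf y ∣ orderOf x := by
  refine orderOf_dvd_of_pow_eq_one ?_
  by_contra h1
  have hxy : x * y ≠ 1 := fun e => hne (P.eq x y hx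
    (inv_eq_of_mul_eq_one_right e ▸ (P.comp x).inv_mem (P.mem x hx)) hy).symm
  have h2 : (x * y) ^ orderOf x = y ^ orderOf x := by
    rw [h.mul_pow, pow_orderOf_eq_one, one_mul]
  have he : P.comp (x * y) = P.comp y :=
    (isComp_comp hxy).eq_of_mem (isComp_comp hy) (h2 ▸ pow_mem_comp hxy _) (pow_mem_comp hy _) h1
  have hxm : x ∈ P.comp y := by
    have := (P.comp y).mul_mem (he ▸ P.mem _ hxy) ((P.comp y).inv_mem (P.mem y hy))
    simpa using this
  exact hne (P.eq y x hy hxm hx)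

theorem orderOf_eq_of_commute [Finite G] {x y : G} (hx : x ≠ 1) (hy : y ≠ 1) (h : Commute x y)
    (hne : P.comp x ≠ P.comp y) : orderOf x = orderOf y ∧ (orderOf x).Prime := by
  have heq : orderOf x = orderOf y :=
    Nat.dvd_antisymm (orderOf_dvd_of_commute hx h.symm hy hne.symm) (orderOf_dvd_of_commute hy h hx hne)
  refine ⟨heq, ?_⟩
  set n := orderOf x with hn
  have hn1 : n ≠ 1 := fun e => hx (orderOf_eq_one_iff.1 e)
  have hd : orderOf (x ^ (n / n.minFac)) = n.minFac :=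
    orderOf_pow_orderOf_div (orderOf_pos x).ne' (Nat.minFac_dvd n)
  have hx' : x ^ (n / n.minFac) ≠ 1 := fun e => by
    rw [e, orderOf_one] at hd
    exact (Nat.minFac_prime hn1).one_lt.ne hd
  have he := P.eq x _ hx (pow_mem_comp hx (n / n.minFac)) hx'
  have h3 := Nat.dvd_antisymm (orderOf_dvd_of_commute hx' (h.pow_left _).symm hy (he ▸ hne.symm))
    (orderOf_dvd_of_commute hy (h.pow_left _) hx' (he ▸ hne))
  rw [hd, ← heq] at h3
  exact h3 ▸ Nat.minFac_prime hn1

theorem mem_comp_of_commute [Finite G] {x y : G} (hx : x ≠ 1) (h : Commute x y)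
    (hnp : ¬ (orderOf x).Prime) : y ∈ P.comp x := by
  rcases eq_or_ne y 1 with rfl | hy
  · exact Subgroup.one_mem _
  by_contra hne
  exact hnp (orderOf_eq_of_commute hx hy h fun e => hne (e ▸ P.mem y hy)).2

theorem IsComp.mem_of_commute [Finite G] {H : Subgroup G} (hH : P.IsComp H) {x y : G} (hx : x ∈ H)
    (hx1 : x ≠ 1) (h : Commute x y) (hnp : ¬ (orderOf x).Prime) : y ∈ H :=
  hH.eq_comp hx hx1 ▸ mem_comp_of_commute hx1 h hnp

theorem IsComp.orderOf_eq [Finite G] {H : Subgroup G} (hH : P.IsComp H) {x y : G} (hx : x ∈ H)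
    (hx1 : x ≠ 1) (hy : y ∉ H) (h : Commute x y) : orderOf x = orderOf y ∧ (orderOf x).Prime := by
  have hy1 : y ≠ 1 := fun e => hy (e ▸ H.one_mem)
  refine orderOf_eq_of_commute (P := P) hx1 hy1 h ?_
  rw [hH.eq_comp hx hx1]
  exact fun e => hy (e ▸ P.mem y hy1)

theorem comp_eq_of_orderOf_ne [Finite G] {x y : G} (hx : x ≠ 1) (hy : y ≠ 1) (h : Commute x y)
    (hne : orderOf x ≠ orderOf y) : P.comp x = P.comp y := by
  by_contra h'
  exact hne (orderOf_eq_of_commute hx hy h h').1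

/-- An element normalising `H`, a power of which centralises a non-identity element of `H`. -/
theorem IsComp.fixes_of_pow_fixes [Finite G] {H : Subgroup G} (hH : P.IsComp H) {g h : G}
    (hgN : g ∈ Subgroup.normalizer (H : Set G)) (hg : g ∉ H) (hh : h ∈ H) (hh1 : h ≠ 1) {k : ℕ}
    (hk : g ^ k ≠ 1) (hc : Commute h (g ^ k)) :
    Commute g h ∧ orderOf g = orderOf h ∧ (orderOf g).Prime := by
  have hg1 : g ≠ 1 := fun e => hg (e ▸ H.one_mem)
  have hL := isComp_comp (P := P) hg1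
  have hhN : h ∈ Subgroup.normalizer (P.comp g : Set G) :=
    hL.mem_normalizer_of_commute (pow_mem_comp hg1 k) hk hc
  have h1 : g * h * g⁻¹ * h⁻¹ ∈ H :=
    H.mul_mem ((Subgroup.mem_normalizer_iff.1 hgN h).1 hh) (H.inv_mem hh)
  have h2 : g * h * g⁻¹ * h⁻¹ ∈ P.comp g := by
    rw [show g * h * g⁻¹ * h⁻¹ = g * (h * g⁻¹ * h⁻¹) by group]
    exact mul_mem (P.mem g hg1) ((Subgroup.mem_normalizer_iff.1 hhN _).1 (inv_mem (P.mem g hg1)))
  have h3 : g * h * g⁻¹ * h⁻¹ = 1 := by
    by_contra hne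
    exact hg (hL.eq_of_mem hH h2 h1 hne ▸ P.mem g hg1)
  have hcomm : Commute g h := mul_inv_eq_iff_eq_mul.1 (mul_inv_eq_one.1 h3)
  obtain ⟨e, hp⟩ := hH.orderOf_eq hh hh1 hg hcomm.symm
  exact ⟨hcomm, e.symm, e ▸ hp⟩

/-- A component properly contained in its normaliser is nilpotent (Kegel). -/
theorem IsComp.isNilpotent [Finite G] {H : Subgroup G} (hH : P.IsComp H)
    (hne : Subgroup.normalizer (H : Set G) ≠ H) : Group.IsNilpotent H := by
  classical
  obtain ⟨g₀, hg₀N, hg₀⟩ : ∃ g ∈ Subgroup.normalizer (H : Set G), g ∉ H := by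
    by_contra! h
    exact hne (le_antisymm h Subgroup.le_normalizer)
  have hg₀1 : g₀ ≠ 1 := fun e => hg₀ (e ▸ H.one_mem)
  have hn1 : orderOf g₀ ≠ 1 := fun e => hg₀1 (orderOf_eq_one_iff.1 e)
  set g := g₀ ^ (orderOf g₀ / (orderOf g₀).minFac) with hgdef
  set r := (orderOf g₀).minFac with hrdef
  have hr : r.Prime := Nat.minFac_prime hn1
  have hgr : orderOf g = r := orderOf_pow_orderOf_div (orderOf_pos g₀).ne' (Nat.minFac_dvd _)
  haveI : Fact r.Prime := ⟨hr⟩
  have hgN : g ∈ Subgroup.normalizer (H : Set G) := Subgroup.pow_mem _ hg₀N _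
  have hg : g ∉ H := fun h => by
    have h1 := hH.pow_eq_one hg₀ (hgdef ▸ h)
    rw [← hgdef] at h1
    rw [h1, orderOf_one] at hgr
    exact hr.one_lt.ne hgr
  have hg1 : g ^ r = 1 := hgr ▸ pow_orderOf_eq_one g
  let φ : MulAut H :=
    { toFun := fun n => ⟨g * n * g⁻¹, (Subgroup.mem_normalizer_iff.1 hgN n).1 n.2⟩
      invFun := fun n => ⟨g⁻¹ * n * g, (Subgroup.mem_normalizer_iff''.1 hgN n).1 n.2⟩
      left_inv := fun n => Subtype.ext (by simp [mul_assoc])
      right_inv := fun n => Subtype.ext (by simp [mul_assoc])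
      map_mul' := fun a b => Subtype.ext (by simp [mul_assoc]) }
  have hφ : ∀ (i : ℕ) (n : H), (((φ ^ i) n : H) : G) = g ^ i * n * (g ^ i)⁻¹ := by
    intro i
    induction i with
    | zero => simp
    | succ i ih =>
      intro n
      rw [pow_succ', MulAut.mul_apply]
      show g * ((φ ^ i) n : G) * g⁻¹ = _
      rw [ih, pow_succ', mul_inv_rev]
      group
  have hφr : φ ^ r = 1 := MulEquiv.ext fun n => Subtype.ext (by rw [hφ, hg1]; simp)
  by_cases hφ1 : φ = 1
  · have hexp : ∀ n : H, n ^ r = 1 := fun n => by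
      rcases eq_or_ne n 1 with rfl | hn
      · simp
      have hc : Commute (n : G) g := by
        have := congrArg Subtype.val (DFunLike.congr_fun hφ1 n)
        exact (mul_inv_eq_iff_eq_mul.1 (this : g * n * g⁻¹ = n)).symm
      have h := (hH.orderOf_eq n.2 (fun e => hn (Subtype.ext e)) hg hc).1
      rw [hgr, Subgroup.orderOf_coe] at h
      exact h ▸ pow_orderOf_eq_one n
    exact IsPGroup.isNilpotent (p := r) fun n => ⟨1, by rw [pow_one]; exact hexp n⟩
  have hord : orderOf φ = r := orderOf_eq_prime hφr hφ1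
  refine Cfsg.Agent.S3946.result φ (hord.symm ▸ hr) fun x => Subtype.ext ?_
  have hprod : ∀ k : ℕ, ((x : G) * g) ^ k =
      (((List.range k).map fun i : ℕ => (φ ^ i) x).prod : G) * g ^ k := by
    intro k
    induction k with
    | zero => simp
    | succ k ih =>
      rw [pow_succ, ih, List.range_succ, List.map_append, List.prod_append, List.map_singleton,
        List.prod_singleton, Subgroup.coe_mul, hφ, pow_succ]
      group
  have hxg : (x : G) * g ∉ H := fun h => hg ((H.mul_mem_cancel_left x.2).1 h)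
  have h := hprod r
  rw [hg1, mul_one] at h
  rw [hord, ← h, Subgroup.coe_one]
  exact hH.pow_eq_one hxg (h ▸ SetLike.coe_mem _)

end Part

end CfsgLib.Partition
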