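import Cfsg.Prelude.Def_Solvable
import Cfsg.Agent.Lib.PSolvable.FrattiniFacts
import Cfsg.Agent.Lib.Transfer.Tate

/-!
Small general facts used in the partition theorem.
-/

set_option autoImplicit false
set_option linter.style.haveILetI false

open scoped Pointwise

namespace CfsgLib.Partition

universe u

variable {G : Type u} [Group G] [Finite G]

/-- A `p`-group normalising a non-trivial `p`-group fixes one of its non-identity elements. -/
theorem exists_fixed {p : ℕ} [hp : Fact p.Prime] {A V : Subgroup G} (hA : IsPGroup p A)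
    (hV : IsPGroup p V) (hne : V ≠ ⊥) (hAV : A ≤ Subgroup.normalizer (V : Set G)) :
    ∃ v ∈ V, v ≠ 1 ∧ ∀ a ∈ A, Commute a v := by
  let f : A →* MulAut V :=
    (Subgroup.normalizerMonoidHom V).comp (Subgroup.inclusion hAV)
  let _ := MulAction.compHom V f
  have hdvd : p ∣ Nat.card V := by
    obtain ⟨k, hk⟩ := hV.exists_card_eq
    rcases k with _ | k
    · exact absurd (Subgroup.card_eq_one.mp hk) hne
    · exact hk ▸ dvd_pow_self p (Nat.succ_ne_zero k)
  have h1 : (1 : V) ∈ MulAction.fixedPoints A V := fun a => map_one (f a)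
  obtain ⟨b, hb, hne1⟩ := hA.exists_fixed_point_of_prime_dvd_card_of_fixed_point V hdvd h1
  refine ⟨b, b.2, fun h => hne1 (Subtype.ext h.symm), fun a ha => ?_⟩
  have : a * (b : G) * a⁻¹ = b := congrArg Subtype.val (hb ⟨a, ha⟩)
  exact mul_inv_eq_iff_eq_mul.mp this

/-- A proper non-trivial normal subgroup on which nothing outside acts with fixed points is the kernel
of a Frobenius group. -/
theorem exists_frobeniusComplement {T : Subgroup G} [hT : T.Normal] (hb : T ≠ ⊥) (ht : T ≠ ⊤)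
    (hfpf : ∀ g ∉ T, ∀ t ∈ T, t ≠ 1 → ¬ Commute g t) :
    ∃ K : Subgroup G, Cfsg.IsFrobeniusComplement K := by
  have hcop : (Nat.card T).Coprime T.index := by
    by_contra hc
    obtain ⟨p, hp, hpT, hpi⟩ := Nat.Prime.not_coprime_iff_dvd.1 hc
    haveI := Fact.mk hp
    obtain ⟨P⟩ : Nonempty (Sylow p G) := inferInstance
    have hPT : ¬ (P : Subgroup G) ≤ T := fun h =>
      P.not_dvd_index (hpi.trans (Subgroup.index_dvd_of_le h))
    obtain ⟨x, hx⟩ := exists_prime_orderOf_dvd_card' p hpT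
    have hxp : IsPGroup p (Subgroup.zpowers (x : G)) :=
      IsPGroup.of_card (n := 1) (by rw [Nat.card_zpowers, Subgroup.orderOf_coe, hx, pow_one])
    obtain ⟨Q, hQ⟩ := hxp.exists_le_sylow
    obtain ⟨g, hg⟩ := MulAction.exists_smul_eq G Q P
    have hPTne : (P : Subgroup G) ⊓ T ≠ ⊥ := by
      intro h
      have hx1 : (x : G) ≠ 1 := fun e => by
        rw [← Subgroup.orderOf_coe, e, orderOf_one] at hx
        exact hp.one_lt.ne hx
      have h1 : g * (x : G) * g⁻¹ ∈ (P : Subgroup G) ⊓ T := by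
        refine ⟨?_, hT.conj_mem _ x.2 g⟩
        rw [← hg]
        exact Subgroup.smul_mem_pointwise_smul _ (MulAut.conj g) _ (hQ (Subgroup.mem_zpowers _))
      rw [h, Subgroup.mem_bot, conj_eq_one_iff] at h1
      exact hx1 h1
    obtain ⟨c, hc, hc1, hcc⟩ := exists_fixed P.2 (P.2.to_le inf_le_left) hPTne (fun y hy =>
      Subgroup.mem_normalizer_iff.2 fun z => by
        simp only [Subgroup.mem_inf]
        refine ⟨fun h => ⟨P.1.mul_mem (P.1.mul_mem hy h.1) (P.1.inv_mem hy), hT.conj_mem _ h.2 y⟩,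
          fun h => ⟨?_, ?_⟩⟩
        · have := P.1.mul_mem (P.1.mul_mem (P.1.inv_mem hy) h.1) hy
          simpa [mul_assoc] using this
        · have := hT.conj_mem _ h.2 y⁻¹
          simpa [mul_assoc] using this)
    obtain ⟨y, hy, hyT⟩ := SetLike.not_le_iff_exists.1 hPT
    exact hfpf y hyT c hc.2 hc1 (hcc y hy)
  obtain ⟨K, hK⟩ := Subgroup.exists_right_complement'_of_coprime hcop
  refine ⟨K, fun h => ?_, fun h => ?_, fun g hg => ?_⟩
  · exact ht (Subgroup.isComplement'_bot_right.1 (h ▸ hK))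
  · exact hb (Subgroup.isComplement'_top_right.1 (h ▸ hK))
  · obtain ⟨⟨t, k⟩, hgt⟩ := hK.2 g
    have ht1 : (t : G) ≠ 1 := fun e => hg (by
      simp only at hgt; rw [← hgt, e, one_mul]; exact k.2)
    refine (Subgroup.eq_bot_iff_forall _).2 fun x hx => ?_
    obtain ⟨hxK, hx'⟩ := hx
    obtain ⟨w, hw, rfl⟩ := (Subgroup.mem_pointwise_smul_iff_inv_smul_mem.1 hx' |> fun h =>
      (⟨_, h, by rw [smul_inv_smul]⟩ : ∃ w ∈ K, MulAut.conj g • w = x))
    simp only at hgt
    have hwk : (k : G) * w * (k : G)⁻¹ ∈ K := K.mul_mem (K.mul_mem k.2 hw) (K.inv_mem k.2)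
    set x' := (k : G) * w * (k : G)⁻¹ with hx'def
    have hxx' : MulAut.conj g • w = (t : G) * x' * (t : G)⁻¹ := by
      rw [MulAut.smul_def, MulAut.conj_apply, hx'def, ← hgt]
      group
    rw [hxx'] at hxK ⊢
    have hdiff : (t : G) * x' * (t : G)⁻¹ * x'⁻¹ ∈ T ⊓ K := by
      refine ⟨?_, K.mul_mem hxK (K.inv_mem hwk)⟩
      rw [show (t : G) * x' * (t : G)⁻¹ * x'⁻¹ = t * (x' * (t : G)⁻¹ * x'⁻¹) by group]
      exact T.mul_mem t.2 (hT.conj_mem _ (T.inv_mem t.2) _)
    rw [disjoint_iff.1 hK.disjoint, Subgroup.mem_bot, mul_inv_eq_one] at hdiff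
    rw [hdiff]
    by_contra hne
    exact hfpf x' (fun h => hne (Subgroup.mem_bot.1 (disjoint_iff.1 hK.disjoint ▸ ⟨h, hwk⟩))) t t.2 ht1
      (mul_inv_eq_iff_eq_mul.1 hdiff).symm

/-- Frattini argument for a cyclic group of prime order modulo a normal `p`-subgroup. -/
theorem normalizer_zpowers_sup_eq_top {p r : ℕ} [hp : Fact p.Prime] [hr : Fact r.Prime] (hrp : r ≠ p)
    {Q : Subgroup G} [hQ : Q.Normal] (hQp : IsPGroup p Q) {b : G} (hb : orderOf b = r)
    (hnorm : ∀ g : G, ∃ k : ℤ, g * b * g⁻¹ * (b ^ k)⁻¹ ∈ Q) :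
    Subgroup.normalizer (Subgroup.zpowers b : Set G) ⊔ Q = ⊤ := by
  set π := QuotientGroup.mk' Q
  set R := (Subgroup.zpowers (π b)).comap π with hR
  haveI : (Subgroup.zpowers (π b)).Normal := ⟨fun x hx g => by
    obtain ⟨g, rfl⟩ := QuotientGroup.mk'_surjective Q g
    obtain ⟨m, rfl⟩ := Subgroup.mem_zpowers_iff.1 hx
    obtain ⟨k, hk⟩ := hnorm g
    have h1 : π g * π b * (π g)⁻¹ = π b ^ k := by
      rw [← map_inv, ← map_mul, ← map_mul, ← map_zpow, ← mul_inv_eq_one, ← map_inv, ← map_mul]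
      exact (QuotientGroup.eq_one_iff _).2 hk
    rw [← conj_zpow, h1]
    exact zpow_mem (zpow_mem (Subgroup.mem_zpowers _) k) m⟩
  haveI : R.Normal := Subgroup.Normal.comap inferInstance π
  have hbR : b ∈ R := Subgroup.mem_zpowers (π b)
  have hdec : ∀ x ∈ R, ∃ m : ℤ, ∃ q ∈ Q, x = b ^ m * q := fun x hx => by
    obtain ⟨m, hm⟩ := Subgroup.mem_zpowers_iff.1 hx
    refine ⟨m, (b ^ m)⁻¹ * x, ?_, by group⟩
    rw [← QuotientGroup.eq_one_iff]
    show π _ = 1
    rw [map_mul, map_inv, map_zpow, hm, inv_mul_cancel]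
  have hBp : IsPGroup r ((Subgroup.zpowers b).subgroupOf R) :=
    IsPGroup.of_card (n := 1) (by
      rw [Nat.card_congr (Subgroup.subgroupOfEquivOfLe (Subgroup.zpowers_le.2 hbR)).toEquiv,
        Nat.card_zpowers, hb, pow_one])
  have hQR : Q ≤ R := fun q hq => by
    show π q ∈ Subgroup.zpowers (π b)
    rw [show π q = 1 from (QuotientGroup.eq_one_iff q).2 hq]; exact one_mem _
  have hcompl : Subgroup.IsComplement' ((Subgroup.zpowers b).subgroupOf R) (Q.subgroupOf R) := by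
    refine Subgroup.isComplement'_of_disjoint_and_mul_eq_univ (disjoint_iff.2 ?_)
      (Set.eq_univ_of_forall fun x => ?_)
    · refine (Subgroup.eq_bot_iff_forall _).2 fun x hx => Subtype.ext (orderOf_eq_one_iff.1 ?_)
      obtain ⟨n, hn⟩ := IsPGroup.iff_orderOf.1 hQp ⟨x, Subgroup.mem_subgroupOf.1 hx.2⟩
      rw [Subgroup.orderOf_mk] at hn
      have h1 : orderOf (x : G) ∣ r := hb ▸ orderOf_dvd_of_mem_zpowers (Subgroup.mem_subgroupOf.1 hx.1)
      exact Nat.eq_one_of_dvd_coprimes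
        (Nat.Coprime.pow_right n ((Nat.coprime_primes hr.out hp.out).2 hrp)) h1 (hn ▸ dvd_rfl)
    · obtain ⟨x, hx⟩ := x
      obtain ⟨m, q, hq, rfl⟩ := hdec x hx
      exact Set.mem_mul.2 ⟨⟨b ^ m, zpow_mem hbR m⟩,
        Subgroup.mem_subgroupOf.2 (zpow_mem (Subgroup.mem_zpowers b) m), ⟨q, hQR hq⟩,
        Subgroup.mem_subgroupOf.2 hq, rfl⟩
  have hidx : ¬ r ∣ ((Subgroup.zpowers b).subgroupOf R).index := by
    rw [hcompl.symm.index_eq_card]
    obtain ⟨n, hn⟩ := IsPGroup.iff_card.1 hQp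
    rw [Nat.card_congr (Subgroup.subgroupOfEquivOfLe hQR).toEquiv, hn]
    exact fun hd => hrp ((Nat.prime_dvd_prime_iff_eq hr.out hp.out).1 (hr.out.dvd_of_dvd_pow hd))
  let P : Sylow r R := hBp.toSylow hidx
  have hPm : (P : Subgroup R).map R.subtype = Subgroup.zpowers b := by
    show ((Subgroup.zpowers b).subgroupOf R).map R.subtype = _
    rw [Subgroup.subgroupOf_map_subtype, inf_eq_left.2 (Subgroup.zpowers_le.2 hbR)]
  have h := P.normalizer_sup_eq_top
  rw [hPm] at h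
  refine top_le_iff.1 (h ▸ sup_le le_sup_left fun x hx => ?_)
  obtain ⟨m, q, hq, rfl⟩ := hdec x hx
  exact mul_mem (Subgroup.mem_sup_left (Subgroup.le_normalizer (zpow_mem (Subgroup.mem_zpowers b) m)))
    (Subgroup.mem_sup_right hq)

/-- A non-trivial nilpotent group with order divisible by `p` has a central element of order `p`. -/
theorem exists_central_orderOf {H : Type*} [Group H] [Finite H] [Group.IsNilpotent H] {p : ℕ}
    [hp : Fact p.Prime] (hd : p ∣ Nat.card H) : ∃ z ∈ Subgroup.center H, orderOf z = p := by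
  obtain ⟨P⟩ : Nonempty (Sylow p H) := inferInstance
  haveI : (P : Subgroup H).Normal := inferInstance
  have hne : (P : Subgroup H) ≠ ⊥ := fun h => P.not_dvd_index (by rwa [h, Subgroup.index_bot])
  obtain ⟨c, hc, hc1⟩ := (Subgroup.bot_or_exists_ne_one _).resolve_left
    (CfsgLib.PSolvable.inf_center_ne_bot (N := (P : Subgroup H)) hne)
  obtain ⟨n, hn⟩ := IsPGroup.iff_orderOf.1 P.2 ⟨c, hc.1⟩
  rw [Subgroup.orderOf_mk] at hn
  have hn0 : n ≠ 0 := fun e => hc1 (orderOf_eq_one_iff.1 (by rw [hn, e, pow_zero]))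
  exact ⟨c ^ (orderOf c / p), Subgroup.pow_mem _ hc.2 _,
    orderOf_pow_orderOf_div (orderOf_pos c).ne' (hn ▸ dvd_pow_self p hn0)⟩

end CfsgLib.Partition
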