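import Cfsg.Agent.Lib.CIT.Basic
import Cfsg.Agent.Lib.Partition.Basic
import Cfsg.Agent.Lib.Partition.Action
import Cfsg.Agent.Lib.Partition.Tools

/-!
A partition without normal component in a group with a normal `p`-subgroup: `S₄`, Frobenius groups,
groups of prime exponent.
-/

set_option autoImplicit false
set_option linter.style.haveILetI false
set_option linter.unusedSectionVars false

open scoped IsMulCommutative

namespace CfsgLib.Partition

universe u

variable {G : Type u} [Group G] [Finite G] {P : Part G}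

/-- A subgroup is of index at most `2` if the quotient of two outside elements is always inside. -/
theorem index_le_two {C : Subgroup G} (h : ∀ a b : G, a ∉ C → b ∉ C → a⁻¹ * b ∈ C) : C.index ≤ 2 := by
  classical
  rw [Subgroup.index_eq_card]
  refine (Nat.card_le_card_of_injective (β := Bool) (fun q : G ⧸ C => decide (q = ((1 : G) : G ⧸ C)))
    fun q q' e => ?_).trans (by simp)
  simp only [decide_eq_decide] at e
  by_cases h1 : q = ((1 : G) : G ⧸ C)
  · exact h1.trans (e.1 h1).symm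
  induction q using QuotientGroup.induction_on with
  | H a =>
    induction q' using QuotientGroup.induction_on with
    | H b =>
      have hb : b ∉ C := fun hb => h1 (e.2 (QuotientGroup.eq.2 (by simpa using hb)))
      have ha : a ∉ C := fun ha => h1 (QuotientGroup.eq.2 (by simpa using ha))
      exact QuotientGroup.eq.2 (h a b ha hb)

/-- The data: a minimal normal elementary abelian `p`-subgroup contained in no component. -/
structure NData (P : Part G) (p : ℕ) (V : Subgroup G) : Prop where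
  prime : p.Prime
  normV : V.Normal
  comm : IsMulCommutative V
  expo : ∀ v ∈ V, v ^ p = 1
  bot : V ≠ ⊥
  min : ∀ W : Subgroup G, W.Normal → W ≤ V → W = ⊥ ∨ W = V
  notLe : ∀ H : Subgroup G, P.IsComp H → ¬ V ≤ H

variable {p : ℕ} {V : Subgroup G}

theorem NData.mem_normalizer (h : NData P p V) (g : G) : g ∈ Subgroup.normalizer (V : Set G) :=
  haveI := h.normV
  Subgroup.normalizer_eq_top (H := V) ▸ Subgroup.mem_top g

theorem NData.mem_centralizer (_h : NData P p V) (g : G) :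
    g ∈ Subgroup.centralizer (V : Set G) ↔ ∀ v ∈ V, Commute g v :=
  ⟨fun h v hv => (Subgroup.mem_centralizer_iff.1 h v hv).symm,
    fun h => Subgroup.mem_centralizer_iff.2 fun v hv => ((h v hv).eq).symm⟩

theorem NData.le_centralizer (h : NData P p V) : V ≤ Subgroup.centralizer (V : Set G) := fun v hv =>
  (h.mem_centralizer v).2 fun _ hw => haveI := h.comm; setLike_mul_comm hv hw

theorem NData.isPGroup (h : NData P p V) : IsPGroup p V := fun v =>
  ⟨1, Subtype.ext (by simpa using h.expo v v.2)⟩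

theorem NData.expo_centralizer (h : NData P p V) {q : G} (hq : q ∈ Subgroup.centralizer (V : Set G)) :
    q ^ p = 1 := by
  haveI := Fact.mk h.prime
  rcases eq_or_ne q 1 with rfl | hq1
  · exact one_pow p
  obtain ⟨v, hv, hvL⟩ := SetLike.not_le_iff_exists.1 (h.notLe _ (Part.isComp_comp (P := P) hq1))
  have hv1 : v ≠ 1 := fun e => hvL (e ▸ Subgroup.one_mem _)
  obtain ⟨e, -⟩ := (Part.isComp_comp (P := P) hq1).orderOf_eq (P.mem q hq1) hq1 hvL
    ((h.mem_centralizer q).1 hq v hv)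
  rw [orderOf_eq_prime (h.expo v hv) hv1] at e
  exact e ▸ pow_orderOf_eq_one q

theorem NData.isPGroup_centralizer (h : NData P p V) : IsPGroup p (Subgroup.centralizer (V : Set G)) :=
  fun q => ⟨1, Subtype.ext (by simpa using h.expo_centralizer q.2)⟩

theorem NData.fpf (h : NData P p V) {g : G} (hg1 : g ≠ 1) (hcop : (orderOf g).Coprime p) {v : G}
    (hv : v ∈ V) (hc : Commute g v) : v = 1 := by
  haveI := Fact.mk h.prime
  haveI := h.normV
  by_contra hv1
  have hvo : orderOf v = p := orderOf_eq_prime (h.expo v hv) hv1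
  have hgp : orderOf g ≠ p := fun e => by
    rw [e, Nat.coprime_self] at hcop
    exact h.prime.one_lt.ne' hcop
  have hK := Part.isComp_comp (P := P) hg1
  have hvK : v ∈ P.comp g :=
    Part.comp_eq_of_orderOf_ne hv1 hg1 hc.symm (hvo.symm ▸ hgp.symm) ▸ P.mem v hv1
  refine h.notLe _ hK fun m hm => ?_
  haveI := h.comm
  have hmN : m ∈ Subgroup.normalizer (P.comp g : Set G) :=
    hK.mem_normalizer_of_commute hvK hv1 (setLike_mul_comm hm hv)
  have hcong : ∀ n : ℕ, (m * g) ^ n * (g ^ n)⁻¹ * (m ^ n)⁻¹ ∈ P.comp g := by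
    intro n
    induction n with
    | zero => simp
    | succ n ih =>
      have hd : g ^ n * m * (g ^ n)⁻¹ * m⁻¹ ∈ P.comp g := by
        rw [show g ^ n * m * (g ^ n)⁻¹ * m⁻¹ = g ^ n * (m * (g ^ n)⁻¹ * m⁻¹) by group]
        exact mul_mem (Part.pow_mem_comp hg1 n)
          ((Subgroup.mem_normalizer_iff.1 hmN _).1 (inv_mem (Part.pow_mem_comp hg1 n)))
      have key : (m * g) ^ (n + 1) * (g ^ (n + 1))⁻¹ * (m ^ (n + 1))⁻¹ =
          ((m * g) ^ n * (g ^ n)⁻¹ * (m ^ n)⁻¹) *
            (m ^ n * (g ^ n * m * (g ^ n)⁻¹ * m⁻¹) * (m ^ n)⁻¹) := by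
        rw [pow_succ (m * g), pow_succ g, pow_succ' m]
        group
      rw [key]
      exact mul_mem ih ((Subgroup.mem_normalizer_iff.1 (Subgroup.pow_mem _ hmN n) _).1 hd)
  set r := orderOf g
  have hg := pow_orderOf_eq_one g
  set X := (m * g) ^ r with hXdef
  have hXV : X ∈ V := by
    rw [← QuotientGroup.eq_one_iff, hXdef, QuotientGroup.mk_pow, QuotientGroup.mk_mul,
      (QuotientGroup.eq_one_iff m).2 hm, one_mul, ← QuotientGroup.mk_pow, hg, QuotientGroup.mk_one]
  have hXc : Commute g X := by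
    have h1 : Commute (m * g) X := (Commute.refl (m * g)).pow_right r
    have h2 : Commute m X := setLike_mul_comm hm hXV
    simpa using h2.inv_left.mul_left h1
  have hX : X ∈ P.comp g := by
    rcases eq_or_ne X 1 with e | e
    · rw [e]; exact one_mem _
    · exact Part.comp_eq_of_orderOf_ne e hg1 hXc.symm
        ((orderOf_eq_prime (h.expo X hXV) e).symm ▸ hgp.symm) ▸ P.mem X e
  have h3 : m ^ r ∈ P.comp g := by
    have := hcong r
    rw [hg, inv_one, mul_one] at this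
    simpa using (Subgroup.mul_mem_cancel_left _ hX).1 this
  obtain ⟨j, hj⟩ := exists_pow_eq_self_of_coprime (x := m) (n := r)
    (hcop.coprime_dvd_right (orderOf_dvd_of_pow_eq_one (h.expo m hm)))
  exact hj ▸ Subgroup.pow_mem _ h3 j

theorem NData.fpf_centralizer (h : NData P p V) {g q : G} (hg1 : g ≠ 1) (hcop : (orderOf g).Coprime p)
    (hq : q ∈ Subgroup.centralizer (V : Set G)) (hc : Commute g q) : q = 1 := by
  haveI := Fact.mk h.prime
  haveI := h.normV
  by_contra hq1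
  have hgp : orderOf g ≠ p := fun e => by
    rw [e, Nat.coprime_self] at hcop
    exact h.prime.one_lt.ne' hcop
  have hK := Part.isComp_comp (P := P) hg1
  have hqK : q ∈ P.comp g := Part.comp_eq_of_orderOf_ne hq1 hg1 hc.symm
    ((orderOf_eq_prime (h.expo_centralizer hq) hq1).symm ▸ hgp.symm) ▸ P.mem q hq1
  refine h.notLe _ hK fun m hm => ?_
  have hmN : ∀ n ∈ V, n ∈ Subgroup.normalizer (P.comp g : Set G) := fun n hn =>
    hK.mem_normalizer_of_commute hqK hq1 ((h.mem_centralizer q).1 hq n hn).symm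
  let f : V → V := fun n => ⟨(n : G) * g * (n : G)⁻¹ * g⁻¹, by
    rw [show (n : G) * g * (n : G)⁻¹ * g⁻¹ = (n : G) * (g * (n : G)⁻¹ * g⁻¹) by group]
    exact V.mul_mem n.2 (h.normV.conj_mem _ (V.inv_mem n.2) g)⟩
  have hf : Function.Injective f := by
    intro a b e
    have e' : (a : G) * g * (a : G)⁻¹ * g⁻¹ = b * g * (b : G)⁻¹ * g⁻¹ := congrArg Subtype.val e
    have hcg : Commute g ((b : G)⁻¹ * a) := by
      have e'' : (a : G) * g * (a : G)⁻¹ = b * g * (b : G)⁻¹ := mul_right_cancel e'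
      show g * ((b : G)⁻¹ * a) = (b : G)⁻¹ * a * g
      calc g * ((b : G)⁻¹ * a) = (b : G)⁻¹ * ((b : G) * g * (b : G)⁻¹) * a := by group
        _ = (b : G)⁻¹ * ((a : G) * g * (a : G)⁻¹) * a := by rw [e'']
        _ = _ := by group
    exact Subtype.ext (inv_mul_eq_one.1 (h.fpf hg1 hcop (V.mul_mem (V.inv_mem b.2) a.2) hcg)).symm
  obtain ⟨n, hn⟩ := (Finite.injective_iff_surjective.1 hf) ⟨m, hm⟩
  have hn' : (n : G) * g * (n : G)⁻¹ * g⁻¹ = m := congrArg Subtype.val hn
  rw [← hn']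
  exact mul_mem ((Subgroup.mem_normalizer_iff.1 (hmN _ n.2) g).1 (P.mem g hg1))
    (inv_mem (P.mem g hg1))

/-- A `p`-element centralises some non-identity element of `V`. -/
theorem NData.exists_z (h : NData P p V) {y : G} (hy : ∃ k, y ^ p ^ k = 1) :
    ∃ z ∈ V, z ≠ 1 ∧ orderOf z = p ∧ Commute y z := by
  haveI := Fact.mk h.prime
  haveI := h.normV
  obtain ⟨k, hk⟩ := hy
  have hyp : IsPGroup p (Subgroup.zpowers y) := by
    obtain ⟨j, -, hj⟩ := (Nat.dvd_prime_pow h.prime).1 (orderOf_dvd_of_pow_eq_one hk)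
    exact IsPGroup.of_card (n := j) (by rw [Nat.card_zpowers, hj])
  obtain ⟨z, hz, hz1, hzc⟩ := exists_fixed hyp h.isPGroup h.bot (fun g _ => h.mem_normalizer g)
  exact ⟨z, hz, hz1, orderOf_eq_prime (h.expo z hz) hz1, hzc y (Subgroup.mem_zpowers y)⟩

theorem NData.mem_comp_z (_h : NData P p V) {z a : G} (hz1 : z ≠ 1) (hzo : orderOf z = p)
    (hc : Commute a z) (ha : a ^ p ≠ 1) : a ∈ P.comp z := by
  have ha1 : a ≠ 1 := fun e => ha (by rw [e, one_pow])
  rw [← Part.comp_eq_of_orderOf_ne (P := P) ha1 hz1 hc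
    fun e => ha (by rw [← hzo, ← e, pow_orderOf_eq_one])]
  exact P.mem a ha1

/-- For odd `p`, the norms of `p`-elements outside the centraliser vanish. -/
theorem NData.norm_eq (h : NData P p V) (hp2 : p ≠ 2) {y : G} (hyp : ∃ k, y ^ p ^ k = 1) :
    y ^ p = 1 ∧ ∀ v ∈ V, (v * y) ^ p = 1 := by
  haveI := Fact.mk h.prime
  haveI := h.comm
  suffices hall : ∀ v ∈ V, (v * y) ^ p = 1 from ⟨by simpa using hall 1 V.one_mem, hall⟩
  obtain ⟨z, hz, hz1, hzo, hyz⟩ := h.exists_z hyp
  have hK := Part.isComp_comp (P := P) hz1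
  have hnz : ∀ v ∈ V, Commute (v * y) z := fun v hv => Commute.mul_left (setLike_mul_comm hv hz) hyz
  by_contra! hcon
  obtain ⟨n₀, hn₀, hne⟩ := hcon
  obtain ⟨m, hm, hmK⟩ := SetLike.not_le_iff_exists.1 (h.notLe _ hK)
  have hout : ∀ w ∈ V, w ∉ P.comp z → (w * n₀ * y) ^ p = 1 := fun w hw hwK => by
    by_contra hw1
    refine hwK ?_
    have h1 := h.mem_comp_z hz1 hzo (hnz _ (V.mul_mem hw hn₀)) hw1
    have h2 := h.mem_comp_z hz1 hzo (hnz _ hn₀) hne
    simpa [mul_assoc] using mul_mem h1 (inv_mem h2)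
  have hm2 : m * m ∉ P.comp z := fun hmm => by
    obtain ⟨j, hj⟩ := exists_pow_eq_self_of_coprime (x := m) (n := 2)
      (((Nat.coprime_primes Nat.prime_two h.prime).2 (Ne.symm hp2)).coprime_dvd_right
        (orderOf_dvd_of_pow_eq_one (h.expo m hm)))
    exact hmK (hj ▸ Subgroup.pow_mem _ (pow_two m ▸ hmm) j)
  -- linearity of the norm
  let Y : Subgroup.normalizer (V : Set G) := ⟨y, h.mem_normalizer y⟩
  let f : AddMonoid.End (Additive V) := ∑ k ∈ Finset.range p, act V Y ^ k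
  have hf : ∀ v : V, ((Additive.toMul (f (Additive.ofMul v)) : V) : G) = (v * y) ^ p * (y ^ p)⁻¹ :=
    fun v => sum_act V Y (Additive.ofMul v) p
  have key : ∀ a b : V, ((a * b : V) * y : G) ^ p * (y ^ p)⁻¹ =
      ((a : G) * y) ^ p * (y ^ p)⁻¹ * (((b : G) * y) ^ p * (y ^ p)⁻¹) := fun a b => by
    rw [← hf, ← hf, ← hf, ofMul_mul, map_add, toMul_add, Subgroup.coe_mul]
  have e1 := key ⟨m, hm⟩ ⟨n₀, hn₀⟩
  have e2 := key ⟨m, hm⟩ ⟨m * n₀, V.mul_mem hm hn₀⟩
  simp only [Subgroup.coe_mul] at e1 e2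
  rw [hout m hm hmK, one_mul] at e1
  rw [show m * (m * n₀) = m * m * n₀ by rw [mul_assoc], hout _ (V.mul_mem hm hm) hm2,
    hout m hm hmK, one_mul] at e2
  have hmY : (m * y) ^ p * (y ^ p)⁻¹ = 1 := mul_eq_right.1 e2.symm
  rw [hmY, one_mul] at e1
  exact hne (mul_right_cancel (e1.symm.trans (one_mul _).symm))

/-- For `p = 2`: a `2`-element moves little of the centraliser. -/
theorem NData.moves_two (h : NData P 2 V) {y : G} (hyp : ∃ k, y ^ 2 ^ k = 1)
    {a b : G} (ha : a ∈ Subgroup.centralizer (V : Set G)) (hb : b ∈ Subgroup.centralizer (V : Set G))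
    (hca : ¬ Commute y a) (hcb : ¬ Commute y b) {W : Subgroup G}
    (hW : W = Subgroup.centralizer (V : Set G)) : Commute y (a⁻¹ * b) := by
  have hQexp : ∀ q ∈ W, q * q = 1 := fun q hq => by
    rw [← pow_two]; exact h.expo_centralizer (hW ▸ hq)
  haveI : W.Normal := by rw [hW]; haveI := h.normV; infer_instance
  have hQc : ∀ a ∈ W, ∀ b ∈ W, Commute a b := fun a ha b hb => by
    have h1 := hQexp _ (W.mul_mem ha hb)
    calc a * b = (a * b)⁻¹ := (inv_eq_of_mul_eq_one_right h1).symm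
      _ = b * a := by rw [mul_inv_rev, inv_eq_of_mul_eq_one_right (hQexp a ha),
        inv_eq_of_mul_eq_one_right (hQexp b hb)]
  rw [← hW] at ha hb
  have hW' : ∀ w ∈ W, y * w * y⁻¹ ∈ W := fun w hw => (inferInstance : W.Normal).conj_mem w hw y
  obtain ⟨z, hz, hz1, hzo, hyz⟩ := h.exists_z hyp
  have hK := Part.isComp_comp (P := P) hz1
  have hWz : ∀ w ∈ W, Commute w z := fun w hw => ((h.mem_centralizer w).1 (hW ▸ hw) z hz)
  have hd : ∀ w ∈ W, (w * y) ^ 2 = w * (y * w * y⁻¹) * y ^ 2 := fun w _ => by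
    simp [pow_two, mul_assoc]
  obtain ⟨m, hm, hmK⟩ := SetLike.not_le_iff_exists.1 (h.notLe _ hK)
  have hmW : m ∈ W := hW ▸ h.le_centralizer hm
  have hmem : ∀ w ∈ W, (w * y) ^ 2 ≠ 1 → w * y ∈ P.comp z := fun w hw h2 =>
    h.mem_comp_z hz1 hzo ((hWz w hw).mul_left hyz) h2
  have hcomm_iff : ∀ w ∈ W, (Commute y w ↔ (w * y) ^ 2 = y ^ 2) := fun w hw => by
    rw [hd w hw, mul_eq_right, mul_eq_one_iff_eq_inv', inv_eq_of_mul_eq_one_right (hQexp w hw),
      mul_inv_eq_iff_eq_mul]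
    exact Iff.rfl
  by_cases hy2 : y ^ 2 = 1
  · have h1 : ∀ w ∈ W, ¬ Commute y w → w * y ∈ P.comp z := fun w hw hn =>
      hmem w hw fun e => hn ((hcomm_iff w hw).2 (e.trans hy2.symm))
    have hab : a⁻¹ * b ∈ P.comp z := by
      have h2 := mul_mem (h1 a ha hca) (inv_mem (h1 b hb hcb))
      rw [inv_eq_of_mul_eq_one_right (hQexp a ha)]
      rw [show a * y * (b * y)⁻¹ = a * b⁻¹ by group, inv_eq_of_mul_eq_one_right (hQexp b hb)] at h2
      exact h2
    by_contra hnc
    have h3 := h1 _ (W.mul_mem (W.inv_mem ha) hb) hnc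
    have hyK : y ∈ P.comp z := (Subgroup.mul_mem_cancel_left _ hab).1 h3
    have haK : a ∈ P.comp z := (Subgroup.mul_mem_cancel_right _ hyK).1 (h1 a ha hca)
    have hmy : Commute y m := by
      by_contra hmc
      exact hmK ((Subgroup.mul_mem_cancel_right _ hyK).1 (h1 m hmW hmc))
    have hamc : ¬ Commute y (a * m) := fun hc => hca (by simpa using hc.mul_right hmy.inv_right)
    exact hmK ((Subgroup.mul_mem_cancel_left _ haK).1
      ((Subgroup.mul_mem_cancel_right _ hyK).1 (h1 _ (W.mul_mem ha hmW) hamc)))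
  · have hyK : y ∈ P.comp z := h.mem_comp_z hz1 hzo hyz hy2
    have h1 : ∀ w ∈ W, w ∉ P.comp z → (w * y) ^ 2 = 1 := fun w hw hwK => by
      by_contra h2
      exact hwK ((Subgroup.mul_mem_cancel_right _ hyK).1 (hmem w hw h2))
    have hlin : ∀ u ∈ W, ∀ w ∈ W, (u * w * y) ^ 2 * (y ^ 2)⁻¹ =
        (u * y) ^ 2 * (y ^ 2)⁻¹ * ((w * y) ^ 2 * (y ^ 2)⁻¹) := fun u hu w hw => by
      rw [hd _ (W.mul_mem hu hw), hd u hu, hd w hw, mul_inv_cancel_right, mul_inv_cancel_right,
        mul_inv_cancel_right]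
      calc u * w * (y * (u * w) * y⁻¹) = u * (w * (y * u * y⁻¹)) * (y * w * y⁻¹) := by group
        _ = u * ((y * u * y⁻¹) * w) * (y * w * y⁻¹) := by rw [(hQc w hw _ (hW' u hu)).eq]
        _ = _ := by group
    have hfix : ∀ w ∈ W, w ∈ P.comp z → Commute y w := by
      intro w hw hwK
      have hwm : w * m ∉ P.comp z := fun e => hmK ((Subgroup.mul_mem_cancel_left _ hwK).1 e)
      have e := hlin w hw m hmW
      rw [h1 _ (W.mul_mem hw hmW) hwm, h1 m hmW hmK, one_mul] at e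
      rw [hcomm_iff w hw]
      exact mul_inv_eq_one.1 (mul_eq_right.1 e.symm)
    have haK : a ∉ P.comp z := fun e => hca (hfix a ha e)
    have hbK : b ∉ P.comp z := fun e => hcb (hfix b hb e)
    rw [hcomm_iff _ (W.mul_mem (W.inv_mem ha) hb)]
    have e := hlin a ha b hb
    rw [h1 a ha haK, h1 b hb hbK] at e
    rw [inv_eq_of_mul_eq_one_right (hQexp a ha)]
    refine mul_inv_eq_one.1 (e.trans ?_)
    have hu : (1 : G) * (y ^ 2)⁻¹ = a * (y * a * y⁻¹) := by
      rw [← h1 a ha haK, hd a ha, mul_inv_cancel_right]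
    rw [hu]
    exact hQexp _ (W.mul_mem ha (hW' a ha))

/-- For `p = 2` the group is `S₄`. -/
theorem NData.result_two (h : NData P 2 V) (hdiv : 2 ∣ (Subgroup.centralizer (V : Set G)).index) :
    Nonempty (G ≃* Equiv.Perm (Fin 4)) := by
  classical
  haveI : Fact (Nat.Prime 2) := ⟨Nat.prime_two⟩
  haveI := h.normV
  set Q := Subgroup.centralizer (V : Set G) with hQ
  haveI : Q.Normal := by rw [hQ]; infer_instance
  set π := QuotientGroup.mk' Q
  have hπ : ∀ g, π g = 1 ↔ g ∈ Q := fun g => QuotientGroup.eq_one_iff g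
  obtain ⟨tbar, htbar⟩ := exists_prime_orderOf_dvd_card' 2 (G := G ⧸ Q)
    (by rwa [← Subgroup.index_eq_card])
  have hO : ∀ tb : G ⧸ Q, orderOf tb = 2 → tb ∉ Cfsg.pCore 2 (G ⧸ Q) := by
    intro tb htb hmem
    let R := (Cfsg.pCore 2 (G ⧸ Q)).comap π
    have hRp : IsPGroup 2 R :=
      (CfsgLib.Cores.isPGroup_pCore 2 (G ⧸ Q)).comap_of_ker_isPGroup π
        (by rw [QuotientGroup.ker_mk']; exact h.isPGroup_centralizer)
    haveI : R.Normal := Subgroup.Normal.comap inferInstance π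
    obtain ⟨v, hv, hv1, hvc⟩ := exists_fixed hRp h.isPGroup h.bot (fun g _ => h.mem_normalizer g)
    have hW : V ⊓ Subgroup.centralizer (R : Set G) = V :=
      (h.min _ inferInstance inf_le_left).resolve_left fun e => hv1 (Subgroup.mem_bot.1
        (e ▸ (⟨hv, Subgroup.mem_centralizer_iff.2 fun x hx => (hvc x hx).eq⟩ :
          v ∈ V ⊓ Subgroup.centralizer (R : Set G))))
    obtain ⟨g, rfl⟩ := QuotientGroup.mk'_surjective Q tb
    have : g ∈ Q := (h.mem_centralizer g).2 fun w hw =>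
      Subgroup.mem_centralizer_iff.1 (hW.symm ▸ hw : w ∈ V ⊓ Subgroup.centralizer (R : Set G)).2 g hmem
    rw [(hπ g).2 this, orderOf_one] at htb
    omega
  obtain ⟨xbar, hxodd, hx1, hxinv⟩ := CfsgLib.CIT.exists_inverted htbar (hO tbar htbar)
  have ht2 : tbar ^ 2 = 1 := htbar ▸ pow_orderOf_eq_one tbar
  have hsbar : (tbar * xbar) ^ 2 = 1 := by
    rw [pow_two, show tbar * xbar * (tbar * xbar) = (tbar * xbar * tbar⁻¹) * (tbar ^ 2 * xbar) by
      simp [pow_two, mul_assoc], hxinv, ht2, one_mul, inv_mul_cancel]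
  have lift : ∀ u : G ⧸ Q, u ^ 2 = 1 → ∃ y : G, π y = u ∧ ∃ k : ℕ, y ^ 2 ^ k = 1 := by
    intro u hu
    obtain ⟨g, rfl⟩ := QuotientGroup.mk'_surjective Q u
    obtain ⟨a, c, hac, -, -, hc', hk, hcop⟩ := exists_parts 2 g
    refine ⟨a, ?_, hk⟩
    obtain ⟨z, hz⟩ := Subgroup.mem_zpowers_iff.1 hc'
    have hc : π c = 1 := orderOf_eq_one_iff.1 (Nat.eq_one_of_dvd_coprimes hcop (orderOf_map_dvd π c)
      (orderOf_dvd_of_pow_eq_one (by
        rw [← hz, map_zpow, ← zpow_natCast, ← zpow_mul, mul_comm, zpow_mul, zpow_natCast, hu, one_zpow])))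
    rw [← hac, map_mul, hc, mul_one]
  obtain ⟨y, hy, hyk⟩ := lift tbar ht2
  obtain ⟨y', hy', hyk'⟩ := lift (tbar * xbar) hsbar
  have hxy : π (y * y') = xbar := by rw [map_mul, hy, hy', ← mul_assoc, ← pow_two, ht2, one_mul]
  obtain ⟨a, c, hac, -, ha', hc', ⟨k, hk⟩, hcop⟩ := exists_parts 2 (y * y')
  have hπc : π c = xbar := by
    have ha : π a = 1 := by
      rw [← orderOf_eq_one_iff]
      obtain ⟨z, hz⟩ := Subgroup.mem_zpowers_iff.1 ha'
      refine Nat.eq_one_of_dvd_coprimes ((Nat.Coprime.pow_left k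
        (Nat.coprime_two_left.2 hxodd))) (orderOf_dvd_of_pow_eq_one (by rw [← map_pow, hk, map_one])) ?_
      exact orderOf_dvd_of_pow_eq_one (by
        rw [← hz, map_zpow, hxy, ← zpow_natCast, ← zpow_mul, mul_comm, zpow_mul, zpow_natCast,
          pow_orderOf_eq_one, one_zpow])
    rw [← hxy, ← hac, map_mul, ha, one_mul]
  have hc1 : c ≠ 1 := fun e => hx1 (by rw [← hπc, e, map_one])
  -- `Q` is a four-group
  let Cy : Subgroup Q := (Subgroup.centralizer ({y} : Set G)).subgroupOf Q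
  let Cy' : Subgroup Q := (Subgroup.centralizer ({y'} : Set G)).subgroupOf Q
  have hC : ∀ u : G, (∃ k : ℕ, u ^ 2 ^ k = 1) →
      ((Subgroup.centralizer ({u} : Set G)).subgroupOf Q).index ≤ 2 := fun u huk =>
    index_le_two fun a b ha hb => by
      rw [Subgroup.mem_subgroupOf, Subgroup.mem_centralizer_singleton_iff] at ha hb ⊢
      exact (h.moves_two huk a.2 b.2 (fun e => ha e.eq.symm) (fun e => hb e.eq.symm) hQ).eq.symm
  have hbot : Cy ⊓ Cy' = ⊥ := (Subgroup.eq_bot_iff_forall _).2 fun q hq => Subtype.ext (by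
    obtain ⟨hq1', hq2'⟩ := hq
    have hq1 := Subgroup.mem_centralizer_singleton_iff.1 (Subgroup.mem_subgroupOf.1 hq1')
    have hq2 := Subgroup.mem_centralizer_singleton_iff.1 (Subgroup.mem_subgroupOf.1 hq2')
    have h1 : Commute (y * y') (q : G) :=
      (show Commute y (q : G) from hq1.symm).mul_left (show Commute y' (q : G) from hq2.symm)
    obtain ⟨z, hz⟩ := Subgroup.mem_zpowers_iff.1 hc'
    exact h.fpf_centralizer hc1 hcop q.2 (hz ▸ h1.zpow_left z))
  have hQ4 : Nat.card Q ≤ 4 := by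
    rw [← Subgroup.index_bot, ← hbot]
    exact (Subgroup.index_inf_le (H := Cy) (K := Cy')).trans (Nat.mul_le_mul (hC y hyk) (hC y' hyk'))
  obtain ⟨v, hv, hv1⟩ := (Subgroup.bot_or_exists_ne_one V).resolve_left h.bot
  have hcv : c * v * c⁻¹ ≠ v := fun e => hv1 (h.fpf hc1 hcop hv (mul_inv_eq_iff_eq_mul.1 e))
  have hcv1 : c * v * c⁻¹ ≠ 1 := fun e => hv1 (conj_eq_one_iff.1 e)
  have hV4 : Nat.card V = 4 := by
    have hle := (Subgroup.card_le_of_le h.le_centralizer).trans hQ4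
    have h2 : 2 < Nat.card V := by
      haveI := Fintype.ofFinite V
      rw [Nat.card_eq_fintype_card, Fintype.two_lt_card_iff]
      exact ⟨1, ⟨v, hv⟩, ⟨c * v * c⁻¹, h.normV.conj_mem v hv c⟩,
        fun e => hv1 (congrArg Subtype.val e).symm, fun e => hcv1 (congrArg Subtype.val e).symm,
        fun e => hcv (congrArg Subtype.val e).symm⟩
    obtain ⟨n, hn⟩ := IsPGroup.iff_card.1 h.isPGroup
    rw [hn] at hle h2 ⊢
    rcases n with _ | _ | _ | n
    · simp at h2
    · simp at h2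
    · rfl
    · exfalso
      rw [pow_succ, pow_succ, pow_succ] at hle
      have := Nat.one_le_two_pow (n := n)
      omega
  have hQV : Q = V := (Subgroup.eq_of_le_of_card_ge h.le_centralizer (hV4.symm ▸ hQ4)).symm
  let φ : G →* MulAut V := MulAut.conjNormal
  have hφker : φ.ker = Q := by
    ext g
    rw [MonoidHom.mem_ker, hQ, h.mem_centralizer]
    exact ⟨fun hg w hw => mul_inv_eq_iff_eq_mul.1
      (congrArg Subtype.val (DFunLike.congr_fun hg (⟨w, hw⟩ : V))),
      fun hg => MulEquiv.ext fun w => Subtype.ext (mul_inv_eq_iff_eq_mul.2 (hg w w.2).eq)⟩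
  have hidx6 : Q.index ∣ 6 := by
    rw [← hφker, Subgroup.index_ker]
    have h6 : Nat.card (Equiv.Perm {w : V // w ≠ 1}) = 6 := by
      haveI := Fintype.ofFinite V
      rw [Nat.card_perm, Nat.card_eq_fintype_card, Fintype.card_subtype_compl, Fintype.card_subtype_eq,
        ← Nat.card_eq_fintype_card, hV4]
      rfl
    let ψ : φ.range →* Equiv.Perm {w : V // w ≠ 1} :=
      { toFun := fun f => Equiv.Perm.subtypePerm ((f : MulAut V).toEquiv) fun w =>
          ⟨fun hw e => hw (by simp [e]), fun hw e => hw (by simpa using e)⟩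
        map_one' := Equiv.ext fun w => rfl
        map_mul' := fun f f' => Equiv.ext fun w => rfl }
    rw [← h6]
    refine Subgroup.card_dvd_of_injective ψ fun f f' e => Subtype.ext (MulEquiv.ext fun w => ?_)
    by_cases hw : w = 1
    · rw [hw, map_one, map_one]
    · exact congrArg (fun q : {w : V // w ≠ 1} => q.1) (DFunLike.congr_fun e ⟨w, hw⟩)
  have hox : orderOf xbar ∣ Q.index := Subgroup.index_eq_card Q ▸ orderOf_dvd_natCard _
  have hox1 : orderOf xbar ≠ 1 := fun e => hx1 (orderOf_eq_one_iff.1 e)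
  have hox3 : orderOf xbar = 3 := by
    have h1 : orderOf xbar ∣ 6 := hox.trans hidx6
    have h2 := Nat.le_of_dvd (by norm_num) h1
    obtain ⟨m, hm⟩ := hxodd
    rw [hm] at h1 hox1 h2 ⊢
    have : m ≤ 2 := by omega
    interval_cases m <;> first | rfl | exact absurd rfl hox1 | exact absurd h1 (by norm_num)
  have hindex : Q.index = 6 := Nat.dvd_antisymm hidx6
    (Nat.Coprime.mul_dvd_of_dvd_of_dvd (by norm_num : Nat.Coprime 2 3) hdiv (hox3 ▸ hox))
  have hcard : Nat.card G = 24 := by rw [← Q.card_mul_index, hindex, hQV, hV4]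
  haveI : Fact (Nat.Prime 3) := ⟨Nat.prime_three⟩
  have hco3 : orderOf c = 3 := by
    have h1 : c ^ 3 ∈ Q := (hπ _).1 (by rw [map_pow, hπc, ← hox3, pow_orderOf_eq_one])
    have h2 : c ^ 3 = 1 := orderOf_eq_one_iff.1 (Nat.eq_one_of_dvd_coprimes hcop (orderOf_pow_dvd 3)
      (orderOf_dvd_of_pow_eq_one (h.expo_centralizer h1)))
    exact orderOf_eq_prime h2 hc1
  have hnormc : ∀ g : G, ∃ k : ℤ, g * c * g⁻¹ * (c ^ k)⁻¹ ∈ Q := by
    intro g
    have hi : (Subgroup.zpowers xbar).index = 2 := by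
      have := (Subgroup.zpowers xbar).card_mul_index
      rw [Nat.card_zpowers, hox3, ← Subgroup.index_eq_card, hindex] at this
      omega
    have hpow3 : ∀ w : G ⧸ Q, w ^ 3 = 1 → w ∈ Subgroup.zpowers xbar := by
      intro w hw
      have h1 := Subgroup.sq_mem_of_index_two hi w
      rw [show w = (w ^ 2)⁻¹ from (inv_eq_of_mul_eq_one_right (by rw [← pow_succ, hw])).symm]
      exact inv_mem h1
    have h1 : π (g * c * g⁻¹) ^ 3 = 1 := by
      rw [map_mul, map_mul, map_inv, conj_pow, hπc, ← hox3, pow_orderOf_eq_one]; group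
    obtain ⟨j, hj⟩ := Subgroup.mem_zpowers_iff.1 (hpow3 _ h1)
    exact ⟨j, (hπ _).1 (by rw [map_mul, map_inv, map_zpow, hπc, hj, mul_inv_cancel])⟩
  set K := Subgroup.normalizer (Subgroup.zpowers c : Set G) with hKdef
  have hKtop := normalizer_zpowers_sup_eq_top (p := 2) (r := 3) (by norm_num) h.isPGroup_centralizer
    hco3 hnormc
  have hKV : K ⊓ V = ⊥ := (Subgroup.eq_bot_iff_forall _).2 fun n hn => by
    obtain ⟨hnK, hnV⟩ := hn
    have h1 : n * c * n⁻¹ * c⁻¹ ∈ Subgroup.zpowers c :=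
      mul_mem ((Subgroup.mem_normalizer_iff.1 hnK c).1 (Subgroup.mem_zpowers c))
        (inv_mem (Subgroup.mem_zpowers c))
    have h2 : n * c * n⁻¹ * c⁻¹ ∈ V := by
      rw [show n * c * n⁻¹ * c⁻¹ = n * (c * n⁻¹ * c⁻¹) by group]
      exact V.mul_mem hnV (h.normV.conj_mem _ (V.inv_mem hnV) c)
    have h3 : n * c * n⁻¹ * c⁻¹ = 1 := orderOf_eq_one_iff.1 (Nat.eq_one_of_dvd_coprimes hcop
      (orderOf_dvd_of_mem_zpowers h1) (orderOf_dvd_of_pow_eq_one (h.expo _ h2)))
    exact h.fpf hc1 hcop hnV (mul_inv_eq_iff_eq_mul.1 (mul_inv_eq_one.1 h3)).symm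
  have hKtop' : K ⊔ V = ⊤ := hQV ▸ hKtop
  have hcompl : Subgroup.IsComplement' K V := by
    refine Subgroup.isComplement'_of_disjoint_and_mul_eq_univ (disjoint_iff.2 hKV) ?_
    rw [← Subgroup.mul_normal, hKtop', Subgroup.coe_top]
  have hKi : K.index = 4 := by rw [hcompl.symm.index_eq_card, hV4]
  have hcore : K.normalCore = ⊥ := by
    have hlt : ∀ w ∈ V, ∀ n ∈ K.normalCore, Commute n w := fun w hw n hn => by
      have h1 : n * w * n⁻¹ * w⁻¹ ∈ K ⊓ V := by
        refine ⟨?_, V.mul_mem (h.normV.conj_mem w hw n) (V.inv_mem hw)⟩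
        rw [show n * w * n⁻¹ * w⁻¹ = n * (w * n⁻¹ * w⁻¹) by group]
        exact Subgroup.normalCore_le K
          (mul_mem hn ((Subgroup.normalCore_normal K).conj_mem _ (inv_mem hn) w))
      rw [hKV, Subgroup.mem_bot, mul_inv_eq_one] at h1
      exact mul_inv_eq_iff_eq_mul.1 h1
    refine (Subgroup.eq_bot_iff_forall _).2 fun n hn => ?_
    have hnV : n ∈ V := hQV ▸ (h.mem_centralizer n).2 fun w hw => hlt w hw n hn
    exact Subgroup.mem_bot.1 (hKV ▸ ⟨Subgroup.normalCore_le K hn, hnV⟩)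
  let Φ := MulAction.toPermHom G (G ⧸ K)
  have hinj : Function.Injective Φ := by
    rw [← MonoidHom.ker_eq_bot_iff, ← Subgroup.normalCore_eq_ker, hcore]
  have hK4 : Nat.card (G ⧸ K) = 4 := (Subgroup.index_eq_card K).symm.trans hKi
  have hbij : Function.Bijective Φ :=
    (Nat.bijective_iff_injective_and_card Φ).2 ⟨hinj, by rw [hcard, Nat.card_perm, hK4]; rfl⟩
  exact ⟨(MulEquiv.ofBijective Φ hbij).trans
    (Finite.equivFinOfCardEq hK4).permCongrHom⟩

theorem NData.result (h : NData P p V) :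
    Nonempty (G ≃* Equiv.Perm (Fin 4)) ∨
      (∃ q : ℕ, q.Prime ∧ Subgroup.closure {g : G | g ^ q ≠ 1} ≠ ⊤) ∨
      ∃ K : Subgroup G, Cfsg.IsFrobeniusComplement K := by
  classical
  haveI := Fact.mk h.prime
  haveI := h.normV
  set Q := Subgroup.centralizer (V : Set G) with hQ
  haveI : Q.Normal := by rw [hQ]; infer_instance
  have hQb : Q ≠ ⊥ := fun e => h.bot (le_bot_iff.1 (e ▸ h.le_centralizer))
  by_cases hQtop : Q = ⊤
  · refine Or.inr (Or.inl ⟨p, h.prime, fun e => ?_⟩)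
    have hall : ∀ g : G, g ^ p = 1 := fun g =>
      h.expo_centralizer (show g ∈ Q from hQtop.symm ▸ Subgroup.mem_top g)
    rw [show {g : G | g ^ p ≠ 1} = ∅ from Set.eq_empty_iff_forall_notMem.2 fun g hg => hg (hall g),
      Subgroup.closure_empty] at e
    exact hQb (le_bot_iff.1 (e.symm ▸ le_top))
  by_cases hdiv : p ∣ Q.index
  swap
  · refine Or.inr (Or.inr (exists_frobeniusComplement hQb hQtop fun g hg t ht ht1 hgt => ?_))
    obtain ⟨a, c, hac, -, -, hc', ⟨k, hk⟩, hcop⟩ := exists_parts p g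
    have haQ : a ∈ Q := by
      rw [← QuotientGroup.eq_one_iff, ← orderOf_eq_one_iff]
      exact Nat.eq_one_of_dvd_coprimes (Nat.Coprime.pow_left k (h.prime.coprime_iff_not_dvd.2 hdiv))
        (orderOf_dvd_of_pow_eq_one (by rw [← QuotientGroup.mk_pow, hk]; rfl))
        (Subgroup.index_eq_card Q ▸ orderOf_dvd_natCard _)
    have hc1 : c ≠ 1 := fun e => hg (hac ▸ (by rw [e, mul_one]; exact haQ))
    obtain ⟨z, hz⟩ := Subgroup.mem_zpowers_iff.1 hc'
    exact ht1 (h.fpf_centralizer hc1 hcop ht (hz ▸ hgt.zpow_left z))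
  have hcopne : ∀ g : G, g ∉ Q → g ≠ 1 := fun g hg e => hg (e ▸ Q.one_mem)
  by_cases hp2 : p = 2
  · subst hp2; exact Or.inl (h.result_two hdiv)
  exfalso
  have hyp : Hyp p V Q := ⟨h.prime, hp2, h.normV, inferInstance, h.comm, h.expo, h.bot, h.min,
    h.mem_centralizer, fun g hg hcop v hv hc => h.fpf (hcopne g hg) hcop hv hc,
    fun y _ hk => h.norm_eq hp2 hk⟩
  obtain ⟨b, y, r, hr, hrp, hby, hy1, hyQ, hbQ, hcop, hbr, hnorm⟩ := hyp.exists_pair hdiv
  haveI := Fact.mk hr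
  have hb1 := hcopne b hbQ
  have hbr1 : b ^ r = 1 := orderOf_eq_one_iff.1 (Nat.eq_one_of_dvd_coprimes hcop (orderOf_pow_dvd r)
    (orderOf_dvd_of_pow_eq_one (h.expo_centralizer hbr)))
  have hbo : orderOf b = r := orderOf_eq_prime hbr1 hb1
  have hyo : orderOf y = p := orderOf_eq_prime hy1 (hcopne y hyQ)
  have hyb : y ∈ P.comp b := Part.comp_eq_of_orderOf_ne (P := P) (hcopne y hyQ) hb1 hby.symm
    (by rw [hyo, hbo]; exact hrp.symm) ▸ P.mem y (hcopne y hyQ)
  have hL := Part.isComp_comp (P := P) hb1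
  obtain ⟨n, hn, hn1, -, hnc⟩ := h.exists_z (y := y) ⟨1, by rwa [pow_one]⟩
  have hnN : n ∈ Subgroup.normalizer (P.comp b : Set G) :=
    hL.mem_normalizer_of_commute hyb (hcopne y hyQ) hnc.symm
  set W := P.comp b ⊓ V with hW
  have hwW : b * n * b⁻¹ * n⁻¹ ∈ W := by
    refine ⟨?_, V.mul_mem (h.normV.conj_mem n hn b) (V.inv_mem hn)⟩
    rw [show b * n * b⁻¹ * n⁻¹ = b * (n * b⁻¹ * n⁻¹) by group]
    exact mul_mem (P.mem b hb1) ((Subgroup.mem_normalizer_iff.1 hnN _).1 (inv_mem (P.mem b hb1)))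
  have hWb : W ≠ ⊥ := fun e => by
    rw [e, Subgroup.mem_bot, mul_inv_eq_one] at hwW
    exact hn1 (h.fpf hb1 hcop hn (mul_inv_eq_iff_eq_mul.1 hwW))
  have hWn : W.Normal := by
    rw [← Subgroup.normalizer_eq_top_iff, eq_top_iff,
      ← normalizer_zpowers_sup_eq_top (p := p) (r := r) hrp h.isPGroup_centralizer hbo hnorm]
    refine sup_le (fun g hg => ?_) fun q hq => ?_
    · have hgL : g ∈ Subgroup.normalizer (P.comp b : Set G) :=
        hL.mem_normalizer_of_conj_mem (P.mem b hb1) hb1 (Subgroup.zpowers_le.2 (P.mem b hb1)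
          ((Subgroup.mem_normalizer_iff.1 hg b).1 (Subgroup.mem_zpowers b)))
      refine Subgroup.mem_normalizer_iff.2 fun x => ?_
      simp only [hW, Subgroup.mem_inf]
      exact and_congr (Subgroup.mem_normalizer_iff.1 hgL x)
        (Subgroup.mem_normalizer_iff.1 (h.mem_normalizer g) x)
    · refine Subgroup.mem_normalizer_iff.2 fun x => ⟨fun hx => ?_, fun hx => ?_⟩
      · rwa [((h.mem_centralizer q).1 hq x hx.2).eq, mul_inv_cancel_right]
      · have hxV : x ∈ V := by simpa [mul_assoc] using h.normV.conj_mem _ hx.2 q⁻¹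
        rwa [((h.mem_centralizer q).1 hq x hxV).eq, mul_inv_cancel_right] at hx
  exact h.notLe _ hL (((h.min W hWn inf_le_right).resolve_left hWb) ▸ inf_le_left)

end CfsgLib.Partition
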