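import Cfsg.Agent.S0205
import Cfsg.Agent.Lib.Cores.MinimalNormal
import Cfsg.Agent.Lib.Frobenius.CN.Local
import Cfsg.Agent.Lib.Partition.Basic
import Cfsg.Agent.Lib.Partition.Tools

/-!
Partitions of groups without abelian normal subgroups: the centralisers of involutions.
-/

set_option autoImplicit false
set_option linter.style.haveILetI false
set_option linter.unusedSectionVars false

namespace CfsgLib.Partition

universe u

variable {G : Type u} [Group G] [Finite G]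

/-- The standing hypotheses of the semisimple case. -/
structure Semi (P : Part G) : Prop where
  nontriv : ∃ g : G, g ≠ 1
  noNormal : ∀ H : Subgroup G, P.IsComp H → ¬ H.Normal
  noP : ∀ p : ℕ, p.Prime → ∀ N : Subgroup G, N.Normal → IsPGroup p N → N = ⊥
  notSelf : ∀ H : Subgroup G, P.IsComp H → Subgroup.normalizer (H : Set G) ≠ H

variable {P : Part G}

theorem Semi.eq_bot_of_isSolvable (hs : Semi P) (N : Subgroup G) [hN : N.Normal]
    (hsol : Group.IsSolvable N) : N = ⊥ := by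
  by_contra hne
  obtain ⟨R, hR, hRN, hRb, hRmin⟩ := CfsgLib.Cores.exists_minimal_normal_le hne
  haveI := hR
  haveI : Group.IsSolvable R :=
    Group.isSolvable_of_isSolvable_injective (f := Subgroup.inclusion hRN) (Subgroup.inclusion_injective hRN)
  have hab : IsMulCommutative R := by
    rw [← Subgroup.commutator_self_eq_bot_iff]
    refine (hRmin _ inferInstance (Subgroup.commutator_le_self R)).resolve_right fun e => ?_
    haveI : Nontrivial R := (Subgroup.nontrivial_iff_ne_bot R).2 hRb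
    have h1 := Group.IsSolvable.commutator_lt_top_of_nontrivial R
    refine h1.ne (Subgroup.map_injective R.subtype_injective ?_)
    rw [map_commutator_eq, R.range_subtype, ← MonoidHom.range_eq_map, R.range_subtype]
    exact e
  obtain ⟨p, hp, hpR⟩ := Nat.exists_prime_and_dvd (n := Nat.card R)
    (fun e => hRb (Subgroup.eq_bot_of_card_eq _ e))
  haveI := Fact.mk hp
  obtain ⟨x, hx⟩ := exists_prime_orderOf_dvd_card' p hpR
  let E : Subgroup G :=
    { carrier := {x | x ∈ R ∧ x ^ p = 1}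
      one_mem' := ⟨R.one_mem, one_pow p⟩
      mul_mem' := fun {a b} ha hb => ⟨R.mul_mem ha.1 hb.1, by
        rw [(show Commute a b from setLike_mul_comm ha.1 hb.1).mul_pow, ha.2, hb.2, one_mul]⟩
      inv_mem' := fun {a} ha => ⟨R.inv_mem ha.1, by rw [inv_pow, ha.2, inv_one]⟩ }
  have hEn : E.Normal := ⟨fun y hy g => ⟨hR.conj_mem _ hy.1 g, by rw [conj_pow, hy.2]; group⟩⟩
  have hE := hs.noP p hp E hEn fun y => ⟨1, Subtype.ext (by simpa using y.2.2)⟩
  have h1 : (x : G) ∈ E := ⟨x.2, by rw [← hx, ← Subgroup.orderOf_coe]; exact pow_orderOf_eq_one _⟩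
  rw [hE, Subgroup.mem_bot] at h1
  rw [← Subgroup.orderOf_coe, h1, orderOf_one] at hx
  exact hp.one_lt.ne hx

theorem Semi.eq_bot_of_odd (hs : Semi P) (N : Subgroup G) [N.Normal] (h : Odd (Nat.card N)) : N = ⊥ :=
  hs.eq_bot_of_isSolvable N (Cfsg.Agent.S0205.result h)

theorem Semi.not_isSolvable (hs : Semi P) : ¬ Group.IsSolvable G := fun h => by
  obtain ⟨g, hg⟩ := hs.nontriv
  have := hs.eq_bot_of_isSolvable (⊤ : Subgroup G) inferInstance
  exact hg (Subgroup.mem_bot.1 (this ▸ Subgroup.mem_top g))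

theorem Semi.even_card (hs : Semi P) : 2 ∣ Nat.card G := by
  by_contra h
  exact hs.not_isSolvable (Cfsg.Agent.S0205.result (Nat.not_even_iff_odd.1 fun h' => h (even_iff_two_dvd.1 h')))

theorem Semi.isNilpotent (hs : Semi P) {H : Subgroup G} (hH : P.IsComp H) : Group.IsNilpotent H :=
  hH.isNilpotent (hs.notSelf H hH)

/-- Elements of coprime order of a nilpotent component commute. -/
theorem Semi.commute_of_coprime (hs : Semi P) {H : Subgroup G} (hH : P.IsComp H) {x y : G}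
    (hx : x ∈ H) (hy : y ∈ H) (hcop : (orderOf x).Coprime (orderOf y)) : Commute x y := by
  exact CfsgLib.Frobenius.CN.commute_of_coprime (hs.isNilpotent hH) hx hy hcop

/-- The central elements of exponent `p` of a subgroup. -/
def centralExp (H : Subgroup G) (p : ℕ) : Subgroup G where
  carrier := {z | z ∈ H ∧ (∀ h ∈ H, Commute z h) ∧ z ^ p = 1}
  one_mem' := ⟨H.one_mem, fun h _ => Commute.one_left h, one_pow p⟩
  mul_mem' := fun {a b} ha hb => ⟨H.mul_mem ha.1 hb.1, fun h hh => (ha.2.1 h hh).mul_left (hb.2.1 h hh),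
    by rw [(ha.2.1 b hb.1).mul_pow, ha.2.2, hb.2.2, one_mul]⟩
  inv_mem' := fun {a} ha => ⟨H.inv_mem ha.1, fun h hh => (ha.2.1 h hh).inv_left,
    by rw [inv_pow, ha.2.2, inv_one]⟩

/-- A `p`-element normalising a component fixes a central element of order `p`. -/
theorem Semi.exists_central_fixed (hs : Semi P) {H : Subgroup G} (hH : P.IsComp H) {p : ℕ}
    [hp : Fact p.Prime] (hd : p ∣ Nat.card H) {A : Subgroup G} (hA : IsPGroup p A)
    (hAN : A ≤ Subgroup.normalizer (H : Set G)) :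
    ∃ z ∈ H, orderOf z = p ∧ (∀ h ∈ H, Commute z h) ∧ ∀ a ∈ A, Commute a z := by
  haveI := hs.isNilpotent hH
  obtain ⟨c, hc, hco⟩ := exists_central_orderOf (H := H) (p := p) hd
  have hne : centralExp H p ≠ ⊥ := fun e => by
    have h1 : (c : G) ∈ centralExp H p := ⟨c.2, fun h hh =>
      (congrArg Subtype.val (Subgroup.mem_center_iff.1 hc ⟨h, hh⟩)).symm, by
      rw [← hco, ← Subgroup.orderOf_coe]; exact pow_orderOf_eq_one _⟩
    rw [e, Subgroup.mem_bot] at h1
    rw [← Subgroup.orderOf_coe, h1, orderOf_one] at hco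
    exact hp.out.one_lt.ne hco
  have hle : A ≤ Subgroup.normalizer (centralExp H p : Set G) := by
    intro a ha
    have hconj : ∀ g ∈ Subgroup.normalizer (H : Set G), ∀ z ∈ centralExp H p, g * z * g⁻¹ ∈ centralExp H p := by
      intro g hg z hz
      refine ⟨(Subgroup.mem_normalizer_iff.1 hg z).1 hz.1, fun h hh => ?_, by rw [conj_pow, hz.2.2]; group⟩
      have h1 : g⁻¹ * h * g ∈ H := (Subgroup.mem_normalizer_iff''.1 hg h).1 hh
      have := (hz.2.1 _ h1).map (MulAut.conj g).toMonoidHom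
      simpa [mul_assoc] using this
    refine Subgroup.mem_normalizer_iff.2 fun z => ⟨hconj a (hAN ha) z, fun hz => ?_⟩
    simpa [mul_assoc] using hconj a⁻¹ (inv_mem (hAN ha)) _ hz
  obtain ⟨z, hz, hz1, hzc⟩ := exists_fixed hA (fun v : centralExp H p => ⟨1, Subtype.ext (by simpa using v.2.2.2)⟩) hne hle
  exact ⟨z, hz.1, orderOf_eq_prime hz.2.2 hz1, hz.2.1, hzc⟩

/-- If `v` inverts `L` and `a` of odd exponent `p` normalises it, then `(v * a) ^ p` inverts `L` and
`(v * a) ^ (p + 1)` acts like `a`. -/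
theorem twist {L : Subgroup G} {v a : G} {p : ℕ} (hp : Odd p) (ha : a ^ p = 1)
    (haN : a ∈ Subgroup.normalizer (L : Set G)) (hinv : ∀ l ∈ L, v * l * v⁻¹ = l⁻¹) :
    (∀ l ∈ L, (v * a) ^ p * l * ((v * a) ^ p)⁻¹ = l⁻¹) ∧
      ∀ l ∈ L, (v * a) ^ (p + 1) * l * ((v * a) ^ (p + 1))⁻¹ = a * l * a⁻¹ := by
  obtain ⟨m, rfl⟩ := hp
  set g₀ := v * a with hg₀
  have hg₀s : ∀ x : G, g₀ * x * g₀⁻¹ = v * (a * x * a⁻¹) * v⁻¹ := fun x => by rw [hg₀]; group
  have hconj : ∀ k : ℕ, ∀ l ∈ L, a ^ k * l * (a ^ k)⁻¹ ∈ L := fun k l hl =>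
    (Subgroup.mem_normalizer_iff.1 (Subgroup.pow_mem _ haN k) l).1 hl
  have key : ∀ k : ℕ, ∀ l ∈ L, g₀ ^ (2 * k) * l * (g₀ ^ (2 * k))⁻¹ =
      a ^ (2 * k) * l * (a ^ (2 * k))⁻¹ := by
    intro k
    induction k with
    | zero => simp
    | succ k ih =>
      intro l hl
      have h1 : a * l * a⁻¹ ∈ L := by simpa using hconj 1 l hl
      have h2 : a * (a * l * a⁻¹) * a⁻¹ ∈ L := by simpa using hconj 1 _ h1
      have h3 : g₀ ^ 2 * l * (g₀ ^ 2)⁻¹ = a ^ 2 * l * (a ^ 2)⁻¹ := by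
        calc g₀ ^ 2 * l * (g₀ ^ 2)⁻¹ = g₀ * (g₀ * l * g₀⁻¹) * g₀⁻¹ := by rw [pow_two]; group
          _ = v * (a * (a * l * a⁻¹)⁻¹ * a⁻¹) * v⁻¹ := by rw [hg₀s l, hg₀s, hinv _ h1]
          _ = v * (a * (a * l * a⁻¹) * a⁻¹)⁻¹ * v⁻¹ := by simp [mul_assoc]
          _ = a * (a * l * a⁻¹) * a⁻¹ := by rw [hinv _ (inv_mem h2), inv_inv]
          _ = _ := by rw [pow_two]; group
      calc g₀ ^ (2 * (k + 1)) * l * (g₀ ^ (2 * (k + 1)))⁻¹
          = g₀ ^ (2 * k) * (g₀ ^ 2 * l * (g₀ ^ 2)⁻¹) * (g₀ ^ (2 * k))⁻¹ := by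
            rw [mul_add, pow_add, mul_one, mul_inv_rev]; group
        _ = a ^ (2 * k) * (a ^ 2 * l * (a ^ 2)⁻¹) * (a ^ (2 * k))⁻¹ := by rw [h3, ih _ (hconj 2 l hl)]
        _ = _ := by rw [mul_add, pow_add, mul_one, mul_inv_rev]; group
  refine ⟨fun l hl => ?_, fun l hl => ?_⟩
  · have h1 : a * l * a⁻¹ ∈ L := by simpa using hconj 1 l hl
    calc g₀ ^ (2 * m + 1) * l * (g₀ ^ (2 * m + 1))⁻¹
        = g₀ ^ (2 * m) * (v * (a * l * a⁻¹) * v⁻¹) * (g₀ ^ (2 * m))⁻¹ := by
          rw [← hg₀s, pow_succ]; group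
      _ = a ^ (2 * m) * (a * l * a⁻¹)⁻¹ * (a ^ (2 * m))⁻¹ := by rw [hinv _ h1, key m _ (inv_mem h1)]
      _ = (a ^ (2 * m + 1) * l * (a ^ (2 * m + 1))⁻¹)⁻¹ := by rw [pow_succ]; group
      _ = l⁻¹ := by rw [ha]; group
  · rw [show 2 * m + 1 + 1 = 2 * (m + 1) by omega, key (m + 1) l hl,
      show 2 * (m + 1) = 2 * m + 1 + 1 by omega, pow_succ', ha, mul_one]

theorem sq_of_orderOf_eq_two {z : G} (h : orderOf z = 2) : z * z = 1 := by
  rw [← pow_two, ← h, pow_orderOf_eq_one]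

theorem ne_one_of_orderOf_eq_two {z : G} (h : orderOf z = 2) : z ≠ 1 := fun e => by
  rw [e, orderOf_one] at h; omega

/-- The dihedral type of centraliser. -/
structure IsDih (P : Part G) (z y : G) : Prop where
  ord : orderOf z = 2
  ordY : orderOf y = 2
  notMem : y ∉ P.comp z
  inv : ∀ a ∈ P.comp z, y * a * y⁻¹ = a⁻¹
  comm : ∀ a ∈ P.comp z, ∀ b ∈ P.comp z, Commute a b
  cent : ∀ g : G, Commute g z ↔ g ∈ P.comp z ∨ g * y ∈ P.comp z
  exp : ∃ a ∈ P.comp z, a * a ≠ 1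

/-- An element outside the component of an involution `z` and centralising it is an involution
inverting the centralised part of the component. -/
theorem Semi.invert (_hs : Semi P) {z y : G} (hz : orderOf z = 2) (hy : y ∉ P.comp z) (hc : Commute y z) :
    orderOf y = 2 ∧ ∀ a ∈ P.comp z, Commute a z → y * a * y⁻¹ = a⁻¹ := by
  have hz1 := ne_one_of_orderOf_eq_two hz
  have hK := Part.isComp_comp (P := P) hz1
  have hout : ∀ g : G, g ∉ P.comp z → Commute g z → orderOf g = 2 := fun g hg hgz =>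
    hz ▸ (hK.orderOf_eq (P.mem z hz1) hz1 hg hgz.symm).1.symm
  refine ⟨hout y hy hc, fun a ha haz => ?_⟩
  have h1 : y * a ∉ P.comp z := fun h => hy ((Subgroup.mul_mem_cancel_right _ ha).1 h)
  have h2 := sq_of_orderOf_eq_two (hout _ h1 (hc.mul_left haz))
  have h3 := inv_eq_of_mul_eq_one_right (sq_of_orderOf_eq_two (hout y hy hc))
  rw [h3]
  refine eq_inv_of_mul_eq_one_left ?_
  rw [← h2]; group

/-- The trichotomy. -/
theorem Semi.trichotomy (hs : Semi P) {z : G} (hz : orderOf z = 2) :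
    (∀ g : G, Commute g z → g ∈ P.comp z) ∨ (∀ g : G, Commute g z → g * g = 1) ∨ ∃ y, IsDih P z y := by
  classical
  haveI : Fact (Nat.Prime 2) := ⟨Nat.prime_two⟩
  by_cases h1 : ∀ g : G, Commute g z → g ∈ P.comp z
  · exact Or.inl h1
  right
  push Not at h1
  obtain ⟨y, hyz, hy⟩ := h1
  by_cases h2 : ∀ g : G, Commute g z → g * g = 1
  · exact Or.inl h2
  right
  push Not at h2
  obtain ⟨a₀, ha₀z, ha₀2⟩ := h2
  have hz1 := ne_one_of_orderOf_eq_two hz
  have hK := Part.isComp_comp (P := P) hz1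
  obtain ⟨hy2, hyinv⟩ := hs.invert hz hy hyz
  have ha₀ : a₀ ∈ P.comp z := by
    by_contra h
    exact ha₀2 (sq_of_orderOf_eq_two (hs.invert hz h ha₀z).1)
  have hyN : y ∈ Subgroup.normalizer (P.comp z : Set G) := hK.mem_normalizer_of_commute (P.mem z hz1) hz1 hyz
  obtain ⟨z₀, hz₀, hz₀o, hz₀c, hyz₀⟩ := hs.exists_central_fixed hK (p := 2)
    (by rw [← hz, ← Subgroup.orderOf_mk z (P.mem z hz1)]; exact orderOf_dvd_natCard _)
    (A := Subgroup.zpowers y) (IsPGroup.of_card (n := 1) (by rw [Nat.card_zpowers, hy2, pow_one]))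
    (Subgroup.zpowers_le.2 hyN)
  have hz₀1 := ne_one_of_orderOf_eq_two hz₀o
  have hKz₀ : P.comp z₀ = P.comp z := hK.eq_comp hz₀ hz₀1
  have hinv : ∀ a ∈ P.comp z, y * a * y⁻¹ = a⁻¹ := fun a ha =>
    (hs.invert hz₀o (hKz₀.symm ▸ hy) (hyz₀ y (Subgroup.mem_zpowers y))).2 a (hKz₀.symm ▸ ha)
      (hz₀c a ha).symm
  have hcomm : ∀ a ∈ P.comp z, ∀ b ∈ P.comp z, Commute a b := fun a ha b hb => by
    have e1 := hinv _ (mul_mem ha hb)
    rw [mul_inv_rev, ← conj_mul, hinv a ha, hinv b hb] at e1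
    have e2 := congrArg (fun x => x⁻¹) e1
    simp only [mul_inv_rev, inv_inv] at e2
    exact e2.symm
  refine ⟨y, hz, hy2, hy, hinv, hcomm, fun g => ⟨fun hg => ?_, fun hg => ?_⟩, a₀, ha₀, ha₀2⟩
  · by_contra hcon
    push Not at hcon
    obtain ⟨hg1, hg2⟩ := hcon
    have h3 := (hs.invert hz hg2 (hg.mul_left hyz)).2 a₀ ha₀ ha₀z
    have h4 := (hs.invert hz hg1 hg).2 a₀ ha₀ ha₀z
    have h5 : g * y * a₀ * (g * y)⁻¹ = a₀ := by
      rw [show g * y * a₀ * (g * y)⁻¹ = g * (y * a₀ * y⁻¹) * g⁻¹ by group, hinv a₀ ha₀, ← conj_inv, h4,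
        inv_inv]
    rw [h5] at h3
    exact ha₀2 (eq_inv_iff_mul_eq_one.1 h3)
  · rcases hg with hg | hg
    · exact hcomm g hg z (P.mem z hz1)
    · have h1 : Commute (g * y) z := hcomm _ hg z (P.mem z hz1)
      simpa using h1.mul_left hyz.inv_left

end CfsgLib.Partition
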