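import Cfsg.Agent.Lib.MetacyclicP.CTI.Zassenhaus
import Cfsg.Agent.Lib.Partition.Invol

/-!
The case without dihedral centralisers: the component of a central involution is strongly closed.
-/

set_option autoImplicit false
set_option linter.style.haveILetI false
set_option linter.unusedSectionVars false

open MulAction

namespace CfsgLib.Partition

universe u

variable {G : Type u} [Group G] [Finite G] {P : Part G}

/-- A component containing the centralisers of all its involutions. -/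
structure Closed2 (P : Part G) (H : Subgroup G) (t : G) : Prop where
  comp : P.IsComp H
  ord : orderOf t = 2
  mem : t ∈ H
  central : ∀ h ∈ H, Commute t h
  cl : ∀ u ∈ H, orderOf u = 2 → ∀ g : G, Commute g u → g ∈ H
  odd : Odd H.index

variable {H : Subgroup G} {t : G}

local notation "M" => Subgroup.normalizer (H : Set G)
local notation "Ω" => G ⧸ Subgroup.normalizer (H : Set G)

theorem smul_o_iff {g : G} : g • ((1 : G) : Ω) = ((1 : G) : Ω) ↔ g ∈ M := by
  rw [← mem_stabilizer_iff, MulAction.stabilizer_quotient]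

theorem Closed2.mem_of_involution (hC : Closed2 P H t) (hs : Semi P) {v : G} (hv : v ∈ M)
    (hv2 : orderOf v = 2) : v ∈ H := by
  haveI : Fact (Nat.Prime 2) := ⟨Nat.prime_two⟩
  obtain ⟨z, hz, hzo, -, hvz⟩ := hs.exists_central_fixed hC.comp (p := 2)
    (by rw [← hC.ord, ← Subgroup.orderOf_mk t hC.mem]; exact orderOf_dvd_natCard _)
    (A := Subgroup.zpowers v) (IsPGroup.of_card (n := 1) (by rw [Nat.card_zpowers, hv2, pow_one]))
    (Subgroup.zpowers_le.2 hv)
  exact hC.cl z hz hzo v (hvz v (Subgroup.mem_zpowers v))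

theorem Closed2.isConj_of_notMem (hC : Closed2 P H t) {u v : G} (hu : u ∈ H) (hu2 : orderOf u = 2)
    (hv : v ∉ H) (hv2 : orderOf v = 2) : ∃ g : G, g * u * g⁻¹ = v := by
  have hui := inv_eq_of_mul_eq_one_right (sq_of_orderOf_eq_two hu2)
  have hvi := inv_eq_of_mul_eq_one_right (sq_of_orderOf_eq_two hv2)
  set x := u * v with hx
  have hux : u * x * u⁻¹ = x⁻¹ := by rw [hx, mul_inv_rev, ← mul_assoc, sq_of_orderOf_eq_two hu2, hui, hvi, one_mul]
  have hvx : v * x * v⁻¹ = x⁻¹ := by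
    rw [hx, mul_inv_rev, hui, hvi, mul_assoc, mul_assoc, sq_of_orderOf_eq_two hv2, mul_one]
  rcases Nat.even_or_odd' (orderOf x) with ⟨m, hm | hm⟩
  · exfalso
    have hm0 : m ≠ 0 := fun e => (orderOf_pos x).ne' (by rw [hm, e])
    have hw2 : orderOf (x ^ m) = 2 := by
      rw [orderOf_pow_of_dvd hm0 (Dvd.intro_left 2 hm.symm), hm, Nat.mul_div_cancel _ (Nat.pos_of_ne_zero hm0)]
    have hwi := inv_eq_of_mul_eq_one_right (sq_of_orderOf_eq_two hw2)
    have hcu : Commute (x ^ m) u := by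
      have h1 : u * x ^ m * u⁻¹ = x ^ m := by rw [← conj_pow, hux, inv_pow, hwi]
      exact (mul_inv_eq_iff_eq_mul.1 h1).symm
    have hcv : Commute v (x ^ m) := by
      have h1 : v * x ^ m * v⁻¹ = x ^ m := by rw [← conj_pow, hvx, inv_pow, hwi]
      exact mul_inv_eq_iff_eq_mul.1 h1
    exact hv (hC.cl _ (hC.cl u hu hu2 _ hcu) hw2 v hcv)
  · refine ⟨u * x ^ (m + 1), ?_⟩
    have hc : x ^ (m + 1) * u * (x ^ (m + 1))⁻¹ = x * u := by
      have h1 : u * (x ^ (m + 1))⁻¹ * u⁻¹ = x ^ (m + 1) := by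
        rw [← conj_inv, ← conj_pow, hux, inv_pow, inv_inv]
      have h2 : x ^ (m + 1) * x ^ (m + 1) = x := by
        rw [← pow_add, show m + 1 + (m + 1) = orderOf x + 1 by omega, pow_succ, pow_orderOf_eq_one, one_mul]
      calc x ^ (m + 1) * u * (x ^ (m + 1))⁻¹ = x ^ (m + 1) * (u * (x ^ (m + 1))⁻¹ * u⁻¹) * u := by group
        _ = _ := by rw [h1, h2]
    calc u * x ^ (m + 1) * u * (u * x ^ (m + 1))⁻¹
        = u * (x ^ (m + 1) * u * (x ^ (m + 1))⁻¹) * u⁻¹ := by group
      _ = v := by rw [hc, hx, hui]; simp [← mul_assoc, sq_of_orderOf_eq_two hu2, mul_assoc _ u u]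

theorem Closed2.exists_outside (hC : Closed2 P H t) (hs : Semi P) :
    ∃ v : G, v ∉ M ∧ orderOf v = 2 := by
  obtain ⟨g, hg⟩ : ∃ g : G, g ∉ M := by
    by_contra! h
    exact hs.noNormal H hC.comp (Subgroup.normalizer_eq_top_iff.1 (eq_top_iff.2 fun g _ => h g))
  have ho : orderOf (g * t * g⁻¹) = 2 := by rw [← hC.ord]; exact (MulAut.conj g).orderOf_eq t
  exact ⟨g * t * g⁻¹, fun h => hg (hC.comp.mem_normalizer_of_conj_mem hC.mem
    (ne_one_of_orderOf_eq_two hC.ord) (hC.mem_of_involution hs h ho)), ho⟩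

theorem Closed2.isConj (hC : Closed2 P H t) (hs : Semi P) {u : G} (hu : orderOf u = 2) :
    ∃ g : G, g * t * g⁻¹ = u := by
  by_cases huH : u ∈ H
  · obtain ⟨v, hv, hv2⟩ := hC.exists_outside hs
    have hvH : v ∉ H := fun h => hv (Subgroup.le_normalizer h)
    obtain ⟨g, hg⟩ := hC.isConj_of_notMem huH hu hvH hv2
    obtain ⟨g', hg'⟩ := hC.isConj_of_notMem hC.mem hC.ord hvH hv2
    refine ⟨g⁻¹ * g', ?_⟩
    calc g⁻¹ * g' * t * (g⁻¹ * g')⁻¹ = g⁻¹ * (g' * t * g'⁻¹) * g := by group
      _ = u := by rw [hg', ← hg]; group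
  · exact hC.isConj_of_notMem hC.mem hC.ord huH hu

/-- Every involution is central in the component containing it. -/
theorem Closed2.central_invol (hC : Closed2 P H t) (hs : Semi P) {u : G} (hu : u ∈ H)
    (hu2 : orderOf u = 2) : ∀ h ∈ H, Commute u h := by
  obtain ⟨g, rfl⟩ := hC.isConj hs hu2
  have hgM := hC.comp.mem_normalizer_of_conj_mem hC.mem (ne_one_of_orderOf_eq_two hC.ord) hu
  intro h hh
  have := (hC.central _ ((Subgroup.mem_normalizer_iff''.1 hgM h).1 hh)).map (MulAut.conj g).toMonoidHom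
  simpa [mul_assoc] using this

theorem Closed2.mem_comp_of_commute (hC : Closed2 P H t) (hs : Semi P) {v g : G} (hv : orderOf v = 2)
    (hg : Commute g v) : g ∈ P.comp v := by
  obtain ⟨x, rfl⟩ := hC.isConj hs hv
  rw [P.conj, hC.comp.eq_comp hC.mem (ne_one_of_orderOf_eq_two hC.ord)]
  refine hC.cl t hC.mem hC.ord _ ?_
  have := hg.map (MulAut.conj x⁻¹).toMonoidHom
  simpa [mul_assoc] using this

theorem Closed2.involution_fixed (hC : Closed2 P H t) (hs : Semi P) {v : G} (hv : orderOf v = 2)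
    {a b : Ω} (ha : v • a = a) (hb : v • b = b) : a = b := by
  induction a using QuotientGroup.induction_on with
  | H g =>
    induction b using QuotientGroup.induction_on with
    | H k =>
      have key : ∀ x : G, v • ((x : G) : Ω) = (x : Ω) → x⁻¹ * v * x ∈ H := by
        intro x hx
        refine hC.mem_of_involution hs (smul_o_iff.1 ?_) ?_
        · rw [mul_smul, mul_smul, inv_smul_eq_iff]
          simpa using hx
        · rw [← hv]; simpa using (MulAut.conj x⁻¹).orderOf_eq v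
      refine QuotientGroup.eq.2 ?_
      have h1 := key g ha
      have h2 := key k hb
      have : (g⁻¹ * k)⁻¹ * (g⁻¹ * v * g) * ((g⁻¹ * k)⁻¹)⁻¹ ∈ H := by
        rw [show (g⁻¹ * k)⁻¹ * (g⁻¹ * v * g) * ((g⁻¹ * k)⁻¹)⁻¹ = k⁻¹ * v * k by group]
        exact h2
      have hne : g⁻¹ * v * g ≠ 1 := fun e => ne_one_of_orderOf_eq_two hv (by
        calc v = g * (g⁻¹ * v * g) * g⁻¹ := by group
          _ = 1 := by rw [e]; group)
      exact inv_mem_iff.1 (hC.comp.mem_normalizer_of_conj_mem h1 hne this)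

/-- The key lemma: a two-point stabiliser swapped by an involution meets `H` trivially. -/
theorem Closed2.pair_disjoint (hC : Closed2 P H t) (hs : Semi P) {v : G} (hv : orderOf v = 2)
    (hvM : v ∉ M) {a : G} (ha : a ∈ H) (hav : v * a * v⁻¹ ∈ M) : a = 1 := by
  by_contra ha1
  haveI : Fact (Nat.Prime 2) := ⟨Nat.prime_two⟩
  have hvv := sq_of_orderOf_eq_two hv
  have hvi := inv_eq_of_mul_eq_one_right hvv
  have hvH : v ∉ H := fun h => hvM (Subgroup.le_normalizer h)
  set b := v * a * v⁻¹ with hb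
  have hb1 : b ≠ 1 := fun e => ha1 (conj_eq_one_iff.1 e)
  have hbH : b ∉ H := fun h => hvM (hC.comp.mem_normalizer_of_conj_mem ha ha1 h)
  have hvb : v * b * v⁻¹ = a := by
    rw [hb, hvi, show v * (v * a * v) * v = (v * v) * a * (v * v) by group, hvv, one_mul, mul_one]
  -- `a` has odd order
  have hodd : ¬ 2 ∣ orderOf a := by
    intro h2
    have he : orderOf (a ^ (orderOf a / 2)) = 2 := orderOf_pow_orderOf_div (orderOf_pos a).ne' h2
    set a' := a ^ (orderOf a / 2)
    have h' : v * a' * v⁻¹ ∈ M := by rw [← conj_pow]; exact Subgroup.pow_mem _ hav _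
    have h'' : v * a' * v⁻¹ ∈ H :=
      hC.mem_of_involution hs h' (by rw [← he]; exact (MulAut.conj v).orderOf_eq a')
    exact hvM (hC.comp.mem_normalizer_of_conj_mem (H.pow_mem ha _) (ne_one_of_orderOf_eq_two he) h'')
  have hcomm : Commute a b := by
    have h1 : a * b * a⁻¹ * b⁻¹ ∈ H := by
      rw [show a * b * a⁻¹ * b⁻¹ = a * (b * a⁻¹ * b⁻¹) by group]
      exact H.mul_mem ha ((Subgroup.mem_normalizer_iff.1 hav _).1 (H.inv_mem ha))
    have h2 : v * (a * b * a⁻¹ * b⁻¹) * v⁻¹ ∈ H := by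
      rw [← conj_mul, ← conj_mul, ← conj_mul, ← conj_inv, ← conj_inv, hvb, ← hb]
      exact H.mul_mem ((Subgroup.mem_normalizer_iff.1 hav _).1 ha) (H.inv_mem ha)
    by_contra hne
    have hne' : a * b * a⁻¹ * b⁻¹ ≠ 1 := fun e => hne (mul_inv_eq_iff_eq_mul.1 (mul_inv_eq_one.1 e))
    exact hvM (hC.comp.mem_normalizer_of_conj_mem h1 hne' h2)
  set c := a * b with hc
  have hc1 : c ≠ 1 := fun e => hbH (inv_eq_of_mul_eq_one_right e ▸ H.inv_mem ha)
  have hvc : Commute c v := by
    have h1 : v * c * v⁻¹ = c := by rw [hc, ← conj_mul, hvb, ← hb, hcomm.eq]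
    exact (mul_inv_eq_iff_eq_mul.1 h1).symm
  have hK := Part.isComp_comp (P := P) (ne_one_of_orderOf_eq_two hv)
  have hcK := hC.mem_comp_of_commute hs hv hvc
  have haN : a ∈ Subgroup.normalizer (P.comp v : Set G) :=
    hK.mem_normalizer_of_commute hcK hc1 ((Commute.refl a).mul_right hcomm)
  have hvK := P.mem v (ne_one_of_orderOf_eq_two hv)
  have h3 : b * a⁻¹ ∈ P.comp v := by
    rw [hb, show v * a * v⁻¹ * a⁻¹ = v * (a * v⁻¹ * a⁻¹) by group]
    exact mul_mem hvK ((Subgroup.mem_normalizer_iff.1 haN _).1 (inv_mem hvK))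
  have h4 : b ^ 2 ∈ P.comp v := by
    have := mul_mem h3 hcK
    rwa [hc, show b * a⁻¹ * (a * b) = b ^ 2 by rw [pow_two]; group] at this
  have hbodd : (2 : ℕ).Coprime (orderOf b) := by
    rw [hb, show orderOf (v * a * v⁻¹) = orderOf a from (MulAut.conj v).orderOf_eq a]
    exact Nat.prime_two.coprime_iff_not_dvd.2 hodd
  obtain ⟨m, hm⟩ := exists_pow_eq_self_of_coprime (x := b) (n := 2) hbodd
  have hbK : b ∈ P.comp v := hm ▸ Subgroup.pow_mem _ h4 m
  have haK : a ∈ P.comp v := hvb ▸ mul_mem (mul_mem hvK hbK) (inv_mem hvK)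
  exact hvH (hC.comp.eq_of_mem hK ha haK ha1 ▸ hvK)

/-- The count of involutions: every pair of points is swapped by an involution inverting its
stabiliser. -/
theorem Closed2.exists_swap (hC : Closed2 P H t) (hs : Semi P) {b : Ω} (hb : b ≠ ((1 : G) : Ω)) :
    Nat.card (stabilizer G ((1 : G) : Ω) ⊓ stabilizer G b : Subgroup G) = H.relIndex M ∧
    (∀ a ∈ H, a • b = b → a = 1) ∧
    ∃ u : G, orderOf u = 2 ∧ u • ((1 : G) : Ω) = b ∧ u • b = ((1 : G) : Ω) ∧
      ∀ x ∈ stabilizer G ((1 : G) : Ω) ⊓ stabilizer G b, u * x * u⁻¹ = x⁻¹ := by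
  classical
  haveI := Fintype.ofFinite G
  haveI := Fintype.ofFinite Ω
  set o : Ω := ((1 : G) : Ω) with ho
  set d := H.relIndex M with hd
  let I₀ : Finset G := Finset.univ.filter fun v => orderOf v = 2 ∧ v • o = o
  let J : Finset G := Finset.univ.filter fun v => orderOf v = 2 ∧ v • o ≠ o
  let K : Ω → Finset G := fun c => J.filter fun v => v • o = c
  have hI : d ≤ I₀.card := by
    let f : M → G := fun n => (n : G) * t * (n : G)⁻¹
    have hf : ∀ n : M, f n ∈ I₀ := fun n => by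
      refine Finset.mem_filter.2 ⟨Finset.mem_univ _, ?_, ?_⟩
      · rw [← hC.ord]; exact (MulAut.conj (n : G)).orderOf_eq t
      · exact smul_o_iff.2 (Subgroup.mul_mem _ (Subgroup.mul_mem _ n.2 (Subgroup.le_normalizer hC.mem))
          (Subgroup.inv_mem _ n.2))
    let f' : M ⧸ H.subgroupOf M → {v // v ∈ I₀} := fun q => ⟨f q.out, hf _⟩
    have hinj : Function.Injective f' := by
      intro q r he
      have he' : f q.out = f r.out := congrArg Subtype.val he
      rw [← QuotientGroup.out_eq' q, ← QuotientGroup.out_eq' r]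
      refine QuotientGroup.eq.2 (Subgroup.mem_subgroupOf.2 (hC.cl t hC.mem hC.ord _ ?_))
      show (q.out : G)⁻¹ * (r.out : G) * t = t * ((q.out : G)⁻¹ * (r.out : G))
      simp only [f] at he'
      calc ((q.out : G))⁻¹ * (r.out : G) * t
          = (q.out : G)⁻¹ * ((r.out : G) * t * (r.out : G)⁻¹) * (r.out : G) := by group
        _ = (q.out : G)⁻¹ * ((q.out : G) * t * (q.out : G)⁻¹) * (r.out : G) := by rw [he']
        _ = t * ((q.out : G)⁻¹ * (r.out : G)) := by group
    have := Nat.card_le_card_of_injective f' hinj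
    rw [← Subgroup.index_eq_card, Nat.card_eq_fintype_card, Fintype.card_coe] at this
    exact this
  have hsw : ∀ c : Ω, ∀ v ∈ K c, orderOf v = 2 ∧ v • o = c ∧ v • c = o := by
    intro c v hv
    obtain ⟨hvJ, hvc⟩ := Finset.mem_filter.1 hv
    have h2 := (Finset.mem_filter.1 hvJ).2.1
    exact ⟨h2, hvc, by rw [← hvc, ← mul_smul, sq_of_orderOf_eq_two h2, one_smul]⟩
  have hdisj : ∀ c : Ω, c ≠ o → ∀ v ∈ K c, ∀ a ∈ H, a • c = c → a = 1 := by
    intro c hc v hv a ha hac
    obtain ⟨h2, hvo, hvc⟩ := hsw c v hv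
    refine hC.pair_disjoint hs h2 (fun h => hc (hvo ▸ smul_o_iff.2 h)) ha (smul_o_iff.1 ?_)
    rw [inv_eq_of_mul_eq_one_right (sq_of_orderOf_eq_two h2), mul_smul, mul_smul, hvo, hac, hvc]
  have hcard : ∀ c : Ω, c ≠ o → (K c).Nonempty →
      Nat.card (stabilizer G o ⊓ stabilizer G c : Subgroup G) ≤ d := by
    intro c hc ⟨v, hv⟩
    have h1 : stabilizer G o ⊓ stabilizer G c ≤ M := fun x hx =>
      smul_o_iff.1 (mem_stabilizer_iff.1 (Subgroup.mem_inf.1 hx).1)
    have h2 : H.relIndex (stabilizer G o ⊓ stabilizer G c) =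
        Nat.card (stabilizer G o ⊓ stabilizer G c : Subgroup G) := by
      have : H.subgroupOf (stabilizer G o ⊓ stabilizer G c) = ⊥ :=
        (Subgroup.eq_bot_iff_forall _).2 fun x hx => Subtype.ext (hdisj c hc v hv _
          (Subgroup.mem_subgroupOf.1 hx) (mem_stabilizer_iff.1 (Subgroup.mem_inf.1 x.2).2))
      rw [Subgroup.relIndex, this, Subgroup.index_bot]
    rw [← h2]
    exact Subgroup.relIndex_le_of_le_right h1 Subgroup.index_ne_zero_of_finite
  let g : ∀ (c : Ω) (u : G), u ∈ K c → {v // v ∈ K c} → (stabilizer G o ⊓ stabilizer G c : Subgroup G) :=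
    fun c u hu v => ⟨u * v.1, by
      obtain ⟨-, hvo, hvc⟩ := hsw c v.1 v.2
      obtain ⟨-, huo, huc⟩ := hsw c u hu
      refine Subgroup.mem_inf.2 ⟨mem_stabilizer_iff.2 ?_, mem_stabilizer_iff.2 ?_⟩
      · rw [mul_smul, hvo, huc]
      · rw [mul_smul, hvc, huo]⟩
  have hginj : ∀ c u hu, Function.Injective (g c u hu) := fun c u hu v w e =>
    Subtype.ext (mul_left_cancel (congrArg Subtype.val e))
  have hK : ∀ c : Ω, c ≠ o → (K c).card ≤ d := by
    intro c hc
    rcases (K c).eq_empty_or_nonempty with h | ⟨u, hu⟩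
    · rw [h, Finset.card_empty]; exact Nat.zero_le _
    have := Nat.card_le_card_of_injective _ (hginj c u hu)
    rw [Nat.card_eq_fintype_card, Fintype.card_coe] at this
    exact this.trans (hcard c hc ⟨u, hu⟩)
  have hfix : ∀ v : G, orderOf v = 2 → ∃ a : Ω, v • a = a := by
    intro v hv
    obtain ⟨x, rfl⟩ := hC.isConj hs hv
    refine ⟨x • o, ?_⟩
    rw [mul_smul, mul_smul, inv_smul_smul, smul_o_iff.2 (Subgroup.le_normalizer hC.mem)]
  have hsum : ∑ c ∈ Finset.univ.erase o, (K c).card = (Finset.univ.erase o).card * I₀.card := by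
    rw [← Finset.card_eq_sum_card_fiberwise (fun v hv => Finset.mem_erase.2
      ⟨(Finset.mem_filter.1 hv).2.2, Finset.mem_univ _⟩)]
    choose fx hfx using fun v : {v // v ∈ J} => hfix v.1 (Finset.mem_filter.1 v.2).2.1
    have hfx' : ∀ v : {v // v ∈ J}, fx v ∈ Finset.univ.erase o := fun v =>
      Finset.mem_erase.2 ⟨fun e => (Finset.mem_filter.1 v.2).2.2 (e ▸ hfx v), Finset.mem_univ _⟩
    have hout : ∀ a : Ω, a.out • o = a := fun a => by
      show ((a.out * 1 : G) : Ω) = a
      rw [mul_one, QuotientGroup.out_eq']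
    let e : {v // v ∈ J} → {a // a ∈ Finset.univ.erase o} × {v // v ∈ I₀} := fun v =>
      (⟨fx v, hfx' v⟩, ⟨(fx v).out⁻¹ * v.1 * (fx v).out, Finset.mem_filter.2 ⟨Finset.mem_univ _, by
        rw [← (Finset.mem_filter.1 v.2).2.1]
        simpa using (MulAut.conj (fx v).out⁻¹).orderOf_eq v.1, by
        rw [mul_smul, mul_smul, hout, hfx, inv_smul_eq_iff, hout]⟩⟩)
    have he : Function.Bijective e := by
      constructor
      · intro v w hvw
        have h1 : fx v = fx w := congrArg (fun p => p.1.1) hvw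
        have h2 : (fx v).out⁻¹ * v.1 * (fx v).out = (fx w).out⁻¹ * w.1 * (fx w).out :=
          congrArg (fun p => p.2.1) hvw
        rw [h1] at h2
        exact Subtype.ext (by simpa using h2)
      · rintro ⟨⟨a, ha⟩, ⟨w, hw⟩⟩
        obtain ⟨-, hw2, hwo⟩ := Finset.mem_filter.1 hw
        have hv2 : orderOf (a.out * w * a.out⁻¹) = 2 := by
          rw [← hw2]; exact (MulAut.conj a.out).orderOf_eq w
        have hva : (a.out * w * a.out⁻¹) • a = a := by
          have h1 : a.out⁻¹ • a = o := by rw [inv_smul_eq_iff, hout]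
          rw [mul_smul, mul_smul, h1, hwo, hout]
        have hvJ : a.out * w * a.out⁻¹ ∈ J := Finset.mem_filter.2 ⟨Finset.mem_univ _, hv2,
          fun e' => (Finset.mem_erase.1 ha).1 (hC.involution_fixed hs hv2 hva e')⟩
        have hfa : fx ⟨_, hvJ⟩ = a := hC.involution_fixed hs hv2 (hfx ⟨_, hvJ⟩) hva
        refine ⟨⟨_, hvJ⟩, Prod.ext (Subtype.ext hfa) (Subtype.ext ?_)⟩
        show (fx ⟨_, hvJ⟩).out⁻¹ * _ * (fx ⟨_, hvJ⟩).out = w
        rw [hfa]; group
    rw [← Fintype.card_coe J, Fintype.card_of_bijective he, Fintype.card_prod, Fintype.card_coe,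
      Fintype.card_coe]
  have heq : (K b).card = d := by
    refine ((Finset.sum_eq_sum_iff_of_le fun c hc => hK c (Finset.mem_erase.1 hc).1).1
      (le_antisymm (Finset.sum_le_sum fun c hc => hK c (Finset.mem_erase.1 hc).1) ?_)) b
      (Finset.mem_erase.2 ⟨hb, Finset.mem_univ _⟩)
    rw [hsum, Finset.sum_const, smul_eq_mul]
    exact Nat.mul_le_mul_left _ hI
  obtain ⟨u, hu⟩ := Finset.card_pos.1 (by rw [heq]; exact Nat.pos_of_ne_zero Subgroup.index_ne_zero_of_finite)
  have hle := Nat.card_le_card_of_injective _ (hginj b u hu)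
  rw [Nat.card_eq_fintype_card, Fintype.card_coe, heq] at hle
  have hcb := le_antisymm (hcard b hb ⟨u, hu⟩) hle
  refine ⟨hcb, hdisj b hb u hu, u, (hsw b u hu).1, (hsw b u hu).2.1, (hsw b u hu).2.2, fun x hx => ?_⟩
  have hgb : Function.Bijective (g b u hu) := (Nat.bijective_iff_injective_and_card _).2 ⟨hginj b u hu, by
    rw [Nat.card_eq_fintype_card, Fintype.card_coe, hcb, heq]⟩
  obtain ⟨w, hw⟩ := hgb.2 ⟨x, hx⟩
  have hxw : x = u * w.1 := (congrArg Subtype.val hw).symm
  have hu2 := sq_of_orderOf_eq_two (hsw b u hu).1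
  have hw2 := sq_of_orderOf_eq_two (hsw b w.1 w.2).1
  rw [hxw, mul_inv_rev, inv_eq_of_mul_eq_one_right hw2]
  calc u * (u * w.1) * u⁻¹ = (u * u) * w.1 * u⁻¹ := by group
    _ = w.1 * u⁻¹ := by rw [hu2, one_mul]

theorem Closed2.centralizer_le (hC : Closed2 P H t) (hs : Semi P) {a : G} (ha : a ∈ H) (ha1 : a ≠ 1)
    {b : G} (hab : Commute b a) : b ∈ H := by
  classical
  by_contra hbH
  obtain ⟨e, hp⟩ := hC.comp.orderOf_eq ha ha1 hbH hab.symm
  set p := orderOf a with hpdef
  haveI := Fact.mk hp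
  have hp2 : p ≠ 2 := fun h => hbH (hC.cl a ha h b hab)
  have hbM : b ∈ M := hC.comp.mem_normalizer_of_commute ha ha1 hab
  -- a fixed central element of order `p`
  obtain ⟨a', ha', ha'o, ha'c, ha'b⟩ := hs.exists_central_fixed hC.comp (p := p)
    (by rw [hpdef, ← Subgroup.orderOf_mk a ha]; exact orderOf_dvd_natCard _)
    (A := Subgroup.zpowers b) (IsPGroup.of_card (n := 1) (by rw [Nat.card_zpowers, ← e, pow_one]))
    (Subgroup.zpowers_le.2 hbM)
  have ha'1 : a' ≠ 1 := fun h => hp.one_lt.ne (by rw [← ha'o, h, orderOf_one])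
  obtain ⟨v₀, hv₀, -⟩ := hC.exists_outside hs
  set o : Ω := ((1 : G) : Ω) with ho
  have hx : (v₀ : Ω) ≠ o := fun h => hv₀ (by simpa using QuotientGroup.eq.1 h.symm)
  obtain ⟨hcardD, hdisjD, -⟩ := hC.exists_swap hs hx
  set D := stabilizer G o ⊓ stabilizer G (v₀ : Ω) with hD
  have hDM : D ≤ M := fun x hx' => smul_o_iff.1 (mem_stabilizer_iff.1 hx'.1)
  haveI : (H.subgroupOf M).Normal := Subgroup.normal_in_normalizer
  let ρ : D →* M ⧸ H.subgroupOf M := (QuotientGroup.mk' (H.subgroupOf M)).comp (Subgroup.inclusion hDM)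
  have hρ : Function.Bijective ρ := by
    refine (Nat.bijective_iff_injective_and_card ρ).2 ⟨(injective_iff_map_eq_one ρ).2 fun x hx' =>
      Subtype.ext (hdisjD _ (Subgroup.mem_subgroupOf.1 ((QuotientGroup.eq_one_iff (Subgroup.inclusion hDM x)).1 hx'))
        (mem_stabilizer_iff.1 x.2.2)), ?_⟩
    rw [hcardD]; rfl
  obtain ⟨⟨d, hdD⟩, hd⟩ := hρ.2 ((⟨b, hbM⟩ : M) : M ⧸ H.subgroupOf M)
  have hdb : d⁻¹ * b ∈ H := Subgroup.mem_subgroupOf.1 (QuotientGroup.eq.1 hd)
  have hd1 : d ≠ 1 := fun h => hbH (by simpa [h] using hdb)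
  have hdp : d ^ p = 1 := by
    refine hdisjD _ ?_ (mem_stabilizer_iff.1 (D.pow_mem hdD p).2)
    have h1 : (((⟨d, hDM hdD⟩ : M)) : M ⧸ H.subgroupOf M) ^ p = 1 := by
      rw [show ((⟨d, hDM hdD⟩ : M) : M ⧸ H.subgroupOf M) = ((⟨b, hbM⟩ : M) : M ⧸ H.subgroupOf M) from hd,
        ← QuotientGroup.mk_pow, QuotientGroup.eq_one_iff, Subgroup.mem_subgroupOf, SubgroupClass.coe_pow,
        e, pow_orderOf_eq_one]
      exact H.one_mem
    rw [← QuotientGroup.mk_pow, QuotientGroup.eq_one_iff, Subgroup.mem_subgroupOf, SubgroupClass.coe_pow] at h1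
    exact h1
  have hdo : orderOf d = p := orderOf_eq_prime hdp hd1
  have hdH : d ∉ H := fun h => hd1 (hdisjD d h (mem_stabilizer_iff.1 hdD.2))
  have hda' : Commute d a' := by
    have h1 : Commute b a' := ha'b b (Subgroup.mem_zpowers b)
    have h2 : Commute (d⁻¹ * b) a' := (ha'c _ hdb).symm
    simpa using h1.mul_left h2.inv_left
  have hdo' : d • o = o := mem_stabilizer_iff.1 hdD.1
  -- each point fixed by `d` is the only one fixed by some element of order `p` commuting with `d`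
  have hq : ∀ y : Ω, d • y = y → ∃ q : G, orderOf q = p ∧ Commute q d ∧ q • y = y ∧
      ∀ y' : Ω, q • y' = y' → y' = y := by
    intro y hy
    have hbase : ∀ y' : Ω, a' • y' = y' → y' = o := fun y' h => by
      by_contra hne
      exact ha'1 ((hC.exists_swap hs hne).2.1 a' ha' h)
    rcases eq_or_ne y o with rfl | hyo
    · exact ⟨a', ha'o, hda'.symm, smul_o_iff.2 (Subgroup.le_normalizer ha'), hbase⟩
    obtain ⟨-, -, v, hv2, hvo, hvy, hvinv⟩ := hC.exists_swap hs hyo
    refine ⟨v * a' * v⁻¹, by rw [← ha'o]; exact (MulAut.conj v).orderOf_eq a', ?_, ?_, fun y' h => ?_⟩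
    · have h1 := hda'.symm.map (MulAut.conj v).toMonoidHom
      simp only [MulEquiv.coe_toMonoidHom, MulAut.conj_apply,
        hvinv d ⟨mem_stabilizer_iff.2 hdo', mem_stabilizer_iff.2 hy⟩] at h1
      simpa using h1.inv_right
    · rw [inv_eq_of_mul_eq_one_right (sq_of_orderOf_eq_two hv2), mul_smul, mul_smul, hvy,
        smul_o_iff.2 (Subgroup.le_normalizer ha'), hvo]
    · rw [mul_smul, mul_smul] at h
      have := hbase (v⁻¹ • y') (by rw [← inv_smul_smul v (a' • v⁻¹ • y'), h])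
      rw [inv_smul_eq_iff] at this
      rw [this, hvo]
  set C := Subgroup.centralizer ({d} : Set G) with hCdef
  have horb : ∀ y ∈ orbit C o, d • y = y := by
    rintro y ⟨⟨c, hc⟩, rfl⟩
    show d • c • o = c • o
    rw [← mul_smul, ← (show Commute c d from Subgroup.mem_centralizer_singleton_iff.1 hc).eq, mul_smul, hdo']
  have hcount : ∀ y : Ω, d • y = y → (y ∈ orbit C o → Nat.card (orbit C o) ≡ 1 [MOD p]) ∧
      (y ∉ orbit C o → Nat.card (orbit C o) ≡ 0 [MOD p]) := by
    intro y hy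
    obtain ⟨q, hqo, hqd, hqy, hqu⟩ := hq y hy
    have hqC : q ∈ C := Subgroup.mem_centralizer_singleton_iff.2 hqd.eq
    let Q := Subgroup.zpowers (⟨q, hqC⟩ : C)
    have hQ : IsPGroup p Q := IsPGroup.of_card (n := 1) (by rw [Nat.card_zpowers, Subgroup.orderOf_mk, hqo, pow_one])
    have hfp : ∀ w : orbit C o, w ∈ MulAction.fixedPoints Q (orbit C o) → (w : Ω) = y := fun w hw =>
      hqu w (congrArg Subtype.val (hw ⟨_, Subgroup.mem_zpowers _⟩))
    have hmod := hQ.card_modEq_card_fixedPoints (orbit C o)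
    refine ⟨fun hy' => ?_, fun hy' => ?_⟩
    · refine hmod.trans (congrArg (· % p) (Nat.card_eq_one_iff_exists.2
        ⟨⟨⟨y, hy'⟩, fun z => ?_⟩, fun w => Subtype.ext (Subtype.ext (hfp w.1 w.2))⟩))
      obtain ⟨z, hz⟩ := z
      obtain ⟨k, rfl⟩ := Subgroup.mem_zpowers_iff.1 hz
      refine Subtype.ext ?_
      show ((⟨q, hqC⟩ : C) ^ k : C) • y = y
      exact MulAction.mem_stabilizer_iff.1 (zpow_mem (show (⟨q, hqC⟩ : C) ∈ stabilizer C y from hqy) k)
    · refine hmod.trans (congrArg (· % p) ?_)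
      haveI : IsEmpty (MulAction.fixedPoints Q (orbit C o)) := ⟨fun w => hy' (hfp w.1 w.2 ▸ w.1.2)⟩
      exact Nat.card_of_isEmpty
  have hone : Nat.card (orbit C o) ≡ 1 [MOD p] := (hcount o hdo').1 (mem_orbit_self o)
  have hxorb : (v₀ : Ω) ∈ orbit C o := by
    by_contra h
    have h0 := hone.symm.trans ((hcount _ (mem_stabilizer_iff.1 hdD.2)).2 h)
    rw [Nat.ModEq, Nat.one_mod_eq_one.2 hp.ne_one, Nat.zero_mod] at h0
    omega
  -- `C` is not a `p`-group
  have hnp : ¬ IsPGroup p C := by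
    intro hCp
    obtain ⟨n, hn⟩ := hCp.index (stabilizer C o)
    rw [index_stabilizer, ← Nat.card_coe_set_eq] at hn
    have h2 : 1 < Nat.card (orbit C o) := by
      rw [Finite.one_lt_card_iff_nontrivial]
      exact ⟨⟨⟨o, mem_orbit_self o⟩, ⟨_, hxorb⟩, fun h => hx (congrArg Subtype.val h).symm⟩⟩
    rw [hn] at hone h2
    have hn0 : n ≠ 0 := fun h0 => by simp [h0] at h2
    have h3 : p ^ n % p = 0 := Nat.mod_eq_zero_of_dvd (dvd_pow_self p hn0) |> fun h => h
    rw [Nat.ModEq, h3, Nat.one_mod_eq_one.2 hp.ne_one] at hone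
    omega
  obtain ⟨⟨f, hfC⟩, hfp⟩ : ∃ f : C, (f : G) ^ p ≠ 1 := by
    by_contra! h
    exact hnp fun f => ⟨1, Subtype.ext (by simpa using h f)⟩
  have hfd : Commute f d := Subgroup.mem_centralizer_singleton_iff.1 hfC
  have hL := Part.isComp_comp (P := P) hd1
  have hfL : f ∈ P.comp d := by
    by_contra h
    exact hfp (hdo ▸ (hL.orderOf_eq (P.mem d hd1) hd1 h hfd.symm).1 ▸ pow_orderOf_eq_one f)
  have hf1 : f ≠ 1 := fun h => hfp (by rw [show ((⟨f, hfC⟩ : C) : G) = f from rfl, h, one_pow])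
  have ha'L : a' ∉ P.comp d := fun h =>
    hdH (hC.comp.eq_of_mem hL ha' h ha'1 ▸ P.mem d hd1)
  obtain ⟨-, -, v, hv2, hvo, hvx, hvinv⟩ := hC.exists_swap hs hx
  have hvd : v * d * v⁻¹ = d⁻¹ := hvinv d hdD
  have hd2 : d * d ≠ 1 := fun h => hp2 (by
    rw [← hdo]; exact orderOf_eq_prime (by rw [pow_two, h]) hd1)
  have hvN : v ∈ Subgroup.normalizer (P.comp d : Set G) :=
    hL.mem_normalizer_of_conj_mem (P.mem d hd1) hd1 (hvd ▸ inv_mem (P.mem d hd1))
  have hvL : v ∉ P.comp d := fun h => by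
    have h1 : Commute v d := hs.commute_of_coprime hL h (P.mem d hd1)
      (by rw [hv2, hdo]; exact (Nat.coprime_primes Nat.prime_two hp).2 (Ne.symm hp2))
    rw [h1.eq, mul_inv_cancel_right] at hvd
    exact hd2 (by nth_rw 2 [hvd]; exact mul_inv_cancel d)
  have hfix : ∀ l ∈ P.comp d, Commute v l → l = 1 := fun l hl hc => by
    by_contra hl1
    obtain ⟨e', -⟩ := hL.orderOf_eq hl hl1 hvL hc.symm
    rw [hv2] at e'
    exact hvL (hL.eq_comp hl hl1 ▸ hC.mem_comp_of_commute hs e' hc)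
  -- `v` inverts the component of `d`
  let f₁ : P.comp d → P.comp d := fun l => ⟨(l : G)⁻¹ * (v * l * v⁻¹),
    mul_mem (inv_mem l.2) ((Subgroup.mem_normalizer_iff.1 hvN _).1 l.2)⟩
  have hf₁ : Function.Injective f₁ := fun l k hlk => by
    have h1 : (l : G)⁻¹ * (v * l * v⁻¹) = (k : G)⁻¹ * (v * k * v⁻¹) := congrArg Subtype.val hlk
    have h2 : Commute v ((k : G) * (l : G)⁻¹) := by
      show v * ((k : G) * (l : G)⁻¹) = (k : G) * (l : G)⁻¹ * v
      calc v * ((k : G) * (l : G)⁻¹) = (k : G) * ((k : G)⁻¹ * (v * k * v⁻¹)) * (v * (l : G) * v⁻¹)⁻¹ * v := by group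
        _ = (k : G) * ((l : G)⁻¹ * (v * l * v⁻¹)) * (v * (l : G) * v⁻¹)⁻¹ * v := by rw [h1]
        _ = _ := by group
    exact Subtype.ext (mul_inv_eq_one.1 (hfix _ (mul_mem k.2 (inv_mem l.2)) h2)).symm
  have hinv : ∀ l ∈ P.comp d, v * l * v⁻¹ = l⁻¹ := by
    intro l hl
    obtain ⟨⟨k, hk⟩, hkl⟩ := (Finite.injective_iff_surjective.1 hf₁) ⟨l, hl⟩
    have h1 : k⁻¹ * (v * k * v⁻¹) = l := congrArg Subtype.val hkl
    rw [← h1, inv_eq_of_mul_eq_one_right (sq_of_orderOf_eq_two hv2), mul_inv_rev, inv_inv]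
    have hvv := sq_of_orderOf_eq_two hv2
    calc v * (k⁻¹ * (v * k * v)) * v = v * k⁻¹ * v * k * (v * v) := by group
      _ = (v * k * v)⁻¹ * k := by
          rw [hvv, mul_one, mul_inv_rev, mul_inv_rev, inv_eq_of_mul_eq_one_right hvv]; group
  have hab' : ∀ l ∈ P.comp d, ∀ k ∈ P.comp d, Commute l k := fun l hl k hk => by
    have e1 := hinv _ (mul_mem hl hk)
    rw [mul_inv_rev, ← conj_mul, hinv l hl, hinv k hk] at e1
    have e2 := congrArg (fun x => x⁻¹) e1
    simp only [mul_inv_rev, inv_inv] at e2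
    exact e2.symm
  have ha'N : a' ∈ Subgroup.normalizer (P.comp d : Set G) :=
    hL.mem_normalizer_of_commute (P.mem d hd1) hd1 hda'.symm
  set g₀ := v * a' with hg₀
  obtain ⟨hgp, hgp1⟩ := twist (hp.odd_of_ne_two hp2) (ha'o ▸ pow_orderOf_eq_one a') ha'N hinv
  have hgL : g₀ ^ p ∉ P.comp d := fun h => by
    have h1 := hgp d (P.mem d hd1)
    rw [(hab' _ h d (P.mem d hd1)).eq, mul_inv_cancel_right] at h1
    exact hd2 (by nth_rw 2 [h1]; exact mul_inv_cancel d)
  have hgp_ne : g₀ ^ (p + 1) ≠ 1 := fun h => by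
    have h1 := hgp1 f hfL
    rw [h, one_mul, inv_one, mul_one] at h1
    have h2 : Commute f a' := (mul_inv_eq_iff_eq_mul.1 h1.symm).symm
    obtain ⟨e', -⟩ := hL.orderOf_eq hfL hf1 ha'L h2
    exact hfp (ha'o ▸ e' ▸ pow_orderOf_eq_one f)
  have hg0 : g₀ ≠ 1 := fun h => hgL (by rw [h, one_pow]; exact one_mem _)
  have hY := Part.isComp_comp (P := P) hg0
  have hdc : Commute d (g₀ ^ (p + 1)) := by
    have h1 := hgp1 d (P.mem d hd1)
    rw [hda'.symm.eq, mul_inv_cancel_right] at h1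
    exact (mul_inv_eq_iff_eq_mul.1 h1).symm
  have hdY : d ∈ Subgroup.normalizer (P.comp g₀ : Set G) :=
    hY.mem_normalizer_of_commute (Part.pow_mem_comp hg0 _) hgp_ne hdc
  have h1 : d * g₀ ^ p * d⁻¹ * (g₀ ^ p)⁻¹ ∈ P.comp g₀ :=
    mul_mem ((Subgroup.mem_normalizer_iff.1 hdY _).1 (Part.pow_mem_comp hg0 p))
      (inv_mem (Part.pow_mem_comp hg0 p))
  rw [show d * g₀ ^ p * d⁻¹ * (g₀ ^ p)⁻¹ = d * (g₀ ^ p * d⁻¹ * (g₀ ^ p)⁻¹) by group,
    hgp _ (inv_mem (P.mem d hd1)), inv_inv] at h1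
  exact hgL (hY.eq_of_mem hL h1 (mul_mem (P.mem d hd1) (P.mem d hd1)) hd2 ▸ Part.pow_mem_comp hg0 p)

/-- The configuration of the Zassenhaus count. -/
theorem Closed2.setting (hC : Closed2 P H t) (hs : Semi P) :
    CfsgLib.MetacyclicP.CTI.Setting H t where
  nil := hs.isNilpotent hC.comp
  cl := fun a ha ha1 _ hx =>
    hC.centralizer_le hs ha ha1 (Subgroup.mem_centralizer_singleton_iff.1 hx)
  ord := hC.ord
  eq := le_antisymm (fun _ hx => hC.cl t hC.mem hC.ord _ (Subgroup.mem_centralizer_singleton_iff.1 hx))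
    fun x hx => Subgroup.mem_centralizer_singleton_iff.2 (hC.central x hx).eq.symm
  odd := hC.odd
  notSolv := hs.not_isSolvable
  oddSolv := fun _ h => Cfsg.Agent.S0205.result h

/-- Without dihedral centralisers of central involutions the configuration exists. -/
theorem Semi.exists_setting (hs : Semi P)
    (hno : ∀ z y : G, ∀ S : Sylow 2 G, (∀ s ∈ (S : Subgroup G), Commute s z) → ¬ IsDih P z y) :
    ∃ (T : Subgroup G) (t : G), CfsgLib.MetacyclicP.CTI.Setting T t := by
  classical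
  haveI : Fact (Nat.Prime 2) := ⟨Nat.prime_two⟩
  obtain ⟨S⟩ : Nonempty (Sylow 2 G) := inferInstance
  have hSne : (S : Subgroup G) ≠ ⊥ := fun h => S.not_dvd_index (by rw [h, Subgroup.index_bot]; exact hs.even_card)
  haveI : Group.IsNilpotent (S : Subgroup G) := S.2.isNilpotent
  obtain ⟨c, -, hco⟩ : ∃ c ∈ Subgroup.center (S : Subgroup G), orderOf c = 2 :=
    exists_central_orderOf (by
      obtain ⟨k, hk⟩ := IsPGroup.iff_card.1 S.2
      rcases k with _ | k
      · exact absurd (Subgroup.eq_bot_of_card_eq _ (by simpa using hk)) hSne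
      · exact hk ▸ dvd_pow_self 2 k.succ_ne_zero)
  obtain ⟨z, hzc, hzo⟩ : ∃ z ∈ Subgroup.center (S : Subgroup G), orderOf z = 2 :=
    exists_central_orderOf (hco.symm.dvd.trans (orderOf_dvd_natCard c))
  set t := (z : G) with ht
  have htS : t ∈ (S : Subgroup G) := z.2
  have hto : orderOf t = 2 := by rw [ht, Subgroup.orderOf_coe, hzo]
  have hts : ∀ s ∈ (S : Subgroup G), Commute s t := fun s h =>
    congrArg Subtype.val (Subgroup.mem_center_iff.1 hzc ⟨s, h⟩)
  have ht1 := ne_one_of_orderOf_eq_two hto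
  rcases hs.trichotomy hto with h1 | h2 | ⟨y, hy⟩
  · -- the component contains the centraliser
    have hH := Part.isComp_comp (P := P) ht1
    set H := P.comp t with hHdef
    have hSH : ∀ s ∈ (S : Subgroup G), s ∈ H := fun s h => h1 s (hts s h)
    have hodd : Odd H.index := Nat.not_even_iff_odd.1 fun he =>
      S.not_dvd_index ((even_iff_two_dvd.1 he).trans (Subgroup.index_dvd_of_le hSH))
    have hcomm2 : ∀ u ∈ H, orderOf u = 2 → Commute u t := by
      intro u hu hu2
      haveI := hs.isNilpotent hH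
      have h2u : IsPGroup 2 (Subgroup.zpowers (⟨u, hu⟩ : H)) :=
        IsPGroup.of_card (n := 1) (by rw [Nat.card_zpowers, Subgroup.orderOf_mk, hu2, pow_one])
      obtain ⟨R, hR⟩ := h2u.exists_le_sylow
      let S' : Sylow 2 H := S.subtype (fun s h => hSH s h)
      have e : R = S' := by
        have := Sylow.unique_of_normal R inferInstance
        exact Subsingleton.elim _ _
      have : (⟨u, hu⟩ : H) ∈ (S' : Subgroup H) := e ▸ hR (Subgroup.mem_zpowers _)
      exact hts u this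
    have hcl : ∀ u ∈ H, orderOf u = 2 → ∀ g : G, Commute g u → g ∈ H := by
      intro u hu hu2 g hg
      have hu1 := ne_one_of_orderOf_eq_two hu2
      have hHu : P.comp u = H := hH.eq_comp hu hu1
      rcases hs.trichotomy hu2 with h | h | ⟨y, hy⟩
      · exact hHu ▸ h g hg
      · refine h1 g ?_
        have e1 := h g hg
        have e2 : Commute t u := (hcomm2 u hu hu2).symm
        have e3 := h (g * t) (hg.mul_left e2)
        calc g * t = (g * t)⁻¹ := (inv_eq_of_mul_eq_one_right e3).symm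
          _ = t * g := by rw [mul_inv_rev, inv_eq_of_mul_eq_one_right e1,
            inv_eq_of_mul_eq_one_right (sq_of_orderOf_eq_two hto)]
      · exfalso
        refine hy.notMem ?_
        rw [hHu]
        refine h1 y ?_
        have e1 := hy.inv t (hHu.symm ▸ P.mem t ht1)
        rw [inv_eq_of_mul_eq_one_right (sq_of_orderOf_eq_two hto)] at e1
        exact mul_inv_eq_iff_eq_mul.1 e1
    obtain ⟨t₀, ht₀, ht₀o, ht₀c, -⟩ := hs.exists_central_fixed hH (p := 2)
      (by rw [← hto, ← Subgroup.orderOf_mk t (P.mem t ht1)]; exact orderOf_dvd_natCard _)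
      (A := ⊥) IsPGroup.of_bot bot_le
    exact ⟨H, t₀, (Closed2.mk (P := P) hH ht₀o ht₀ ht₀c hcl hodd).setting hs⟩
  · -- elementary abelian centraliser
    have hSsq : ∀ s ∈ (S : Subgroup G), s * s = 1 := fun s h => h2 s (hts s h)
    have hScomm : ∀ a ∈ (S : Subgroup G), ∀ b ∈ (S : Subgroup G), Commute a b := fun a ha b hb => by
      calc a * b = (a * b)⁻¹ := (inv_eq_of_mul_eq_one_right (hSsq _ (mul_mem ha hb))).symm
        _ = b * a := by rw [mul_inv_rev, inv_eq_of_mul_eq_one_right (hSsq a ha),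
          inv_eq_of_mul_eq_one_right (hSsq b hb)]
    have hle : ∀ u : G, (∀ s ∈ (S : Subgroup G), Commute s u) →
        (∀ g : G, Commute g u → g * g = 1) → ∀ g : G, Commute g u → g ∈ (S : Subgroup G) := by
      intro u hu h g hg
      have hp : IsPGroup 2 (Subgroup.centralizer ({u} : Set G)) := fun x =>
        ⟨1, Subtype.ext (by simpa [pow_two] using h x (Subgroup.mem_centralizer_singleton_iff.1 x.2))⟩
      rw [← S.3 hp fun s hs' => Subgroup.mem_centralizer_singleton_iff.2 (hu s hs').eq]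
      exact Subgroup.mem_centralizer_singleton_iff.2 hg.eq
    have hcl : ∀ u ∈ (S : Subgroup G), u ≠ 1 → ∀ g : G, Commute g u → g ∈ (S : Subgroup G) := by
      intro u hu hu1 g hg
      have huo : orderOf u = 2 := orderOf_eq_prime (by rw [pow_two, hSsq u hu]) hu1
      have hSu : ∀ s ∈ (S : Subgroup G), Commute s u := fun s hs' => hScomm s hs' u hu
      rcases hs.trichotomy huo with h | h | ⟨y, hy⟩
      · have hH := Part.isComp_comp (P := P) hu1
        haveI := hs.isNilpotent hH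
        have hSH : ∀ s ∈ (S : Subgroup G), s ∈ P.comp u := fun s hs' => h s (hSu s hs')
        -- odd elements of the component centralise `t`
        have hp : IsPGroup 2 (P.comp u) := by
          intro x
          obtain ⟨k, m, hm, hkm⟩ := Nat.exists_eq_two_pow_mul_odd (orderOf_pos (x : G)).ne'
          refine ⟨k, Subtype.ext ?_⟩
          rw [SubgroupClass.coe_pow, Subgroup.coe_one]
          have ho : orderOf ((x : G) ^ 2 ^ k) = m := by
            rw [orderOf_pow_of_dvd (pow_ne_zero k two_ne_zero) (hkm ▸ dvd_mul_right _ _), hkm,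
              Nat.mul_div_cancel_left _ (Nat.two_pow_pos k)]
          have hc := hs.commute_of_coprime hH ((P.comp u).pow_mem x.2 (2 ^ k)) (hSH t htS)
            (by rw [ho, hto]; exact (Nat.coprime_two_left.2 hm).symm)
          by_contra hne
          have h3 : orderOf ((x : G) ^ 2 ^ k) = 2 := orderOf_eq_prime (by rw [pow_two, h2 _ hc]) hne
          rw [ho] at h3
          rw [h3] at hm
          exact (Nat.not_odd_iff_even.2 even_two) hm
        rw [← S.3 hp hSH]
        exact h g hg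
      · exact hle u hSu h g hg
      · exact absurd hy (hno u y S hSu)
    exact ⟨S, t, { nil := inferInstance
                   cl := fun a ha ha1 _ hx => hcl a ha ha1 _ (Subgroup.mem_centralizer_singleton_iff.1 hx)
                   ord := hto
                   eq := le_antisymm
                     (fun _ hx => hcl t htS ht1 _ (Subgroup.mem_centralizer_singleton_iff.1 hx))
                     fun x hx => Subgroup.mem_centralizer_singleton_iff.2 (hts x hx).eq
                   odd := Nat.not_even_iff_odd.1 fun he => S.not_dvd_index (even_iff_two_dvd.1 he)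
                   notSolv := hs.not_isSolvable
                   oddSolv := fun _ h => Cfsg.Agent.S0205.result h }⟩
  · exact absurd hy (hno t y S hts)

end CfsgLib.Partition
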