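import Cfsg.Agent.Lib.FrobSystem.Ident
import Cfsg.Agent.Lib.MetacyclicP.CTI.Zassenhaus
import Cfsg.Agent.S0338
import Cfsg.Agent.S0346

/-!
A nilpotent subgroup containing the centralisers of its non-identity elements and the centraliser of an
involution: `PSL(2, 2ⁿ)` and Suzuki groups.
-/

set_option autoImplicit false
set_option linter.style.haveILetI false

open Cfsg MulAction

namespace CfsgLib.Partition

universe u

variable {G : Type u} [Group G] [Finite G]

theorem psl_or_suzuki_of_setting {T : Subgroup G} {t : G}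
    (S : CfsgLib.MetacyclicP.CTI.Setting T t) :
    (∃ (K : Type) (_ : Field K) (_ : Fintype K), 4 ≤ Fintype.card K ∧
      Nonempty (G ≃* Matrix.ProjectiveSpecialLinearGroup (Fin 2) K)) ∨ Cfsg.Lie.IsoSuzuki G := by
  classical
  haveI : Fact (Nat.Prime 2) := ⟨Nat.prime_two⟩
  set M := Subgroup.normalizer (T : Set G) with hM
  letI : Fintype (G ⧸ M) := Fintype.ofFinite _
  have hZ : Cfsg.IsZassenhausGroup G (G ⧸ M) := S.isZassenhaus
  haveI : IsSimpleGroup G :=
    Cfsg.Agent.S0338.result hZ (Nat.card_eq_fintype_card (α := G ⧸ M) ▸ S.odd_card_quotient)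
  have hpow := Cfsg.Agent.S0346.result hZ
  have h2T : 2 ∣ Nat.card T := S.ord ▸ (Subgroup.orderOf_mk t S.mem ▸ orderOf_dvd_natCard _)
  -- `|T| + 1` points
  obtain ⟨b, hb⟩ := S.exists_ne_base
  let f : T → {c : G ⧸ M // c ≠ ((1 : G) : G ⧸ M)} := fun a => ⟨(a : G) • b, fun e => hb (by
    rw [smul_eq_iff_eq_inv_smul] at e
    rw [e]
    exact CfsgLib.MetacyclicP.CTI.smul_o_eq.2 (M.inv_mem (Subgroup.le_normalizer a.2)))⟩
  have hf : Function.Bijective f := by
    refine ⟨fun a a' e => ?_, fun c => ?_⟩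
    · exact (S.regular hb (f a).2).unique rfl (congrArg Subtype.val e).symm
    · obtain ⟨a, ha, -⟩ := S.regular hb c.2
      exact ⟨a, Subtype.ext ha⟩
  have hc : Nat.card T = Fintype.card (G ⧸ M) - 1 := by
    rw [Nat.card_congr (Equiv.ofBijective f hf), Nat.card_eq_fintype_card, Fintype.card_subtype_compl,
      Fintype.card_subtype_eq]
  rw [← hc] at hpow
  obtain ⟨q, a, hq, ha, hqa⟩ := (isPrimePow_nat_iff _).1 hpow
  have hq2 : q = 2 := ((Nat.prime_dvd_prime_iff_eq Nat.prime_two hq).1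
    (Nat.prime_two.dvd_of_dvd_pow (hqa.symm ▸ h2T))).symm
  subst hq2
  have hTp : IsPGroup 2 T := IsPGroup.of_card hqa.symm
  let S₀ : Sylow 2 G := hTp.toSylow S.odd.not_two_dvd_nat
  have hS₀ : (S₀ : Subgroup G) = T := rfl
  have hconj : ∀ x : G, orderOf x = 2 → ∃ g : G, g * x * g⁻¹ ∈ T := by
    intro x hx
    obtain ⟨R, hR⟩ := (IsPGroup.of_card (n := 1) (by rw [Nat.card_zpowers, hx, pow_one]) :
      IsPGroup 2 (Subgroup.zpowers x)).exists_le_sylow
    obtain ⟨g, hg⟩ := MulAction.exists_smul_eq G R S₀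
    refine ⟨g, ?_⟩
    rw [← hS₀, ← hg]
    exact Subgroup.smul_mem_pointwise_smul _ (MulAut.conj g) _ (hR (Subgroup.mem_zpowers x))
  have hcit : CfsgLib.CIT.IsCIT G := by
    intro x hx
    obtain ⟨g, hg⟩ := hconj x hx
    have h1 : g * x * g⁻¹ ≠ 1 := fun e => by
      rw [conj_eq_one_iff.1 e, orderOf_one] at hx; omega
    refine hTp.of_injective
      (((MulAut.conj g).toMonoidHom.comp (Subgroup.centralizer ({x} : Set G)).subtype).codRestrict T
        fun c => S.cl _ hg h1 (Subgroup.mem_centralizer_singleton_iff.2 ?_)) fun a b e => ?_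
    · have := (show Commute (c : G) x from Subgroup.mem_centralizer_singleton_iff.1 c.2).map
        (MulAut.conj g).toMonoidHom
      simpa using this.eq
    · exact Subtype.ext ((MulAut.conj g).injective (congrArg Subtype.val e))
  have hTI : CfsgLib.CIT.TISylow G := by
    intro R R' hne
    obtain ⟨⟨s, hs⟩, hs1⟩ := Subgroup.ne_bot_iff_exists_ne_one.1 hne
    have key : ∀ R : Sylow 2 G, ∀ s : G, s ∈ (R : Subgroup G) → s ≠ 1 → ∀ R' : Sylow 2 G,
        s ∈ (R' : Subgroup G) → s ∈ T → (R : Subgroup G) = T := by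
      intro R s hs hs1 _ _ hsT
      obtain ⟨z, -, hz, hzc⟩ := CfsgLib.CIT.exists_central_involution R
        fun e => hs1 (Subgroup.mem_bot.1 (e ▸ hs))
      have hzT : z ∈ T := S.cl s hsT hs1 (Subgroup.mem_centralizer_singleton_iff.2 (hzc s hs).symm)
      exact (R.3 hTp fun r hr => S.cl z hzT (CfsgLib.Involutions.ne_one hz)
        (Subgroup.mem_centralizer_singleton_iff.2 (hzc r hr))).symm
    obtain ⟨g, hg⟩ := MulAction.exists_smul_eq G R S₀
    have hs1' : s ≠ 1 := fun e => hs1 (Subtype.ext e)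
    have hgs : MulAut.conj g • s ∈ ((g • R : Sylow 2 G) : Subgroup G) :=
      Subgroup.smul_mem_pointwise_smul _ (MulAut.conj g) _ hs.1
    have hgs' : MulAut.conj g • s ∈ ((g • R' : Sylow 2 G) : Subgroup G) :=
      Subgroup.smul_mem_pointwise_smul _ (MulAut.conj g) _ hs.2
    have hgs1 : MulAut.conj g • s ≠ 1 := fun e => hs1' (by
      rw [MulAut.smul_def] at e
      exact (MulAut.conj g).injective (e.trans (map_one _).symm))
    have h1 : ((g • R' : Sylow 2 G) : Subgroup G) = T :=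
      key (g • R') _ hgs' hgs1 (g • R) hgs (hS₀ ▸ hg ▸ hgs)
    refine MulAction.injective g ?_
    show g • R = g • R'
    rw [hg]
    exact (Sylow.ext (h1.trans hS₀.symm)).symm
  have hna : ∃ a b : G, a * b ≠ b * a := by
    by_contra! h
    exact S.notSolv (Group.isSolvable_of_comm h)
  have h2G : 2 ∣ Nat.card G := h2T.trans (Subgroup.card_subgroup_dvd_card T)
  rcases CfsgLib.FrobSystem.sl_two_or_suzuki hcit hna h2G hTI with ⟨K, i, j, ⟨n, hn, hK⟩, ⟨e⟩⟩ | h
  · left
    haveI : CharP K 2 := ringChar.of_eq (FiniteField.even_card_iff_char_two.2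
      (by rw [hK]; exact Nat.even_iff.1 (Nat.even_pow.2 ⟨even_two, by omega⟩)))
    refine ⟨K, i, j, ?_, ⟨e.trans (OrderDegrees.psl2EquivSL2 K).symm⟩⟩
    rw [hK]
    exact (show 2 ^ 2 = 4 from rfl) ▸ Nat.pow_le_pow_right two_pos hn
  · exact Or.inr h

end CfsgLib.Partition
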