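import Cfsg.Agent.Lib.Partition.CaseB
import Cfsg.Agent.Lib.ReflectionsSpinor.PSLAutKernel
import Cfsg.Agent.Lib.SL2.Dickson.Minimal

/-!
The dihedral case: a group with a proper normal `PSL(2, q)` subgroup is `PGL(2, q)`.
-/

set_option autoImplicit false
set_option linter.style.haveILetI false
set_option linter.unusedSectionVars false

open Matrix CfsgLib.ReflectionsSpinor.PSL

namespace CfsgLib.Partition

universe u

section field

variable {F : Type} [Field F] [Fintype F]

/-- An involutory automorphism of a finite field is the power map by the square root of the order. -/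
theorem exists_sqrt_card {σ : F ≃+* F} (hσ : σ * σ = 1) (h : σ ≠ 1) :
    ∃ k : ℕ, Fintype.card F = k * k ∧ ∀ x : F, σ x = x ^ k := by
  obtain ⟨p, hchar⟩ := CharP.exists F
  haveI : Fact p.Prime := ⟨CharP.char_is_prime F p⟩
  letI := ZMod.algebra F p
  let σ' : F ≃ₐ[ZMod p] F := AlgEquiv.ofRingEquiv (f := σ) fun x =>
    RingHom.congr_fun (RingHom.ext_zmod ((σ : F →+* F).comp (algebraMap (ZMod p) F)) (algebraMap (ZMod p) F)) x
  obtain ⟨⟨i, hi⟩, hieq⟩ :=
    (FiniteField.bijective_frobeniusAlgEquivOfAlgebraic_pow (ZMod p) F).2 σ'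
  simp only at hieq
  have hpow : ∀ x : F, σ x = x ^ p ^ i := fun x => by
    have h1 : (FiniteField.frobeniusAlgEquivOfAlgebraic (ZMod p) F ^ i) x = σ x :=
      DFunLike.congr_fun hieq x
    rw [← h1, AlgEquiv.coe_pow, FiniteField.coe_frobeniusAlgEquivOfAlgebraic_iterate, ZMod.card]
  have h2 : (FiniteField.frobeniusAlgEquivOfAlgebraic (ZMod p) F) ^ (i * 2) = 1 := by
    rw [pow_mul, hieq, pow_two]
    exact AlgEquiv.ext fun x => DFunLike.congr_fun hσ x
  have h3 := orderOf_dvd_of_pow_eq_one h2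
  rw [FiniteField.orderOf_frobeniusAlgEquivOfAlgebraic] at h3
  refine ⟨p ^ i, ?_, hpow⟩
  rw [Module.card_eq_pow_finrank (K := ZMod p) (V := F), ZMod.card, ← pow_add]
  congr 1
  obtain ⟨m, hm⟩ := h3
  rcases m with _ | _ | m
  · have : i = 0 := by omega
    subst this
    exact absurd (RingEquiv.ext fun x => by simp [hpow x]) h
  · omega
  · exfalso
    have : Module.finrank (ZMod p) F * 2 ≤ Module.finrank (ZMod p) F * (m + 1 + 1) :=
      Nat.mul_le_mul_left _ (by omega)
    omega

theorem two_ne_zero_of_odd (hodd : Odd (Fintype.card F)) : (2 : F) ≠ 0 := fun e => by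
  have h1 : ringChar F = 2 := CharP.ringChar_of_prime_eq_zero Nat.prime_two (by exact_mod_cast e)
  exact Nat.not_even_iff_odd.2 hodd (Nat.even_iff.2 (FiniteField.even_card_iff_char_two.1 h1))

theorem pow_half_eq_neg_one (hodd : Odd (Fintype.card F)) {a : F} (ha : a ≠ 0) (h : ¬ IsSquare a) :
    a ^ (Fintype.card F / 2) = -1 := by
  have hc : ringChar F ≠ 2 := fun e =>
    Nat.not_even_iff_odd.2 hodd (Nat.even_iff.2 (FiniteField.even_card_iff_char_two.1 e))
  exact (FiniteField.pow_dichotomy hc ha).resolve_left fun e => h ((FiniteField.isSquare_iff hc ha).2 e)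

theorem isSquare_of_pow_half (hodd : Odd (Fintype.card F)) {a : F} (ha : a ≠ 0)
    (h : a ^ (Fintype.card F / 2) = 1) : IsSquare a :=
  (FiniteField.isSquare_iff (fun e =>
    Nat.not_even_iff_odd.2 hodd (Nat.even_iff.2 (FiniteField.even_card_iff_char_two.1 e))) ha).2 h

theorem det_ne_zero_gl (g : GL (Fin 2) F) : (g : Matrix (Fin 2) (Fin 2) F).det ≠ 0 :=
  ((Matrix.isUnit_iff_isUnit_det _).1 g.isUnit).ne_zero

/-- Conjugation by a matrix of square determinant is inner. -/
theorem semiAut_eq_conj {g : GL (Fin 2) F} (h : IsSquare (g : Matrix (Fin 2) (Fin 2) F).det) :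
    ∃ z : Matrix.ProjectiveSpecialLinearGroup (Fin 2) F, semiAut g (1 : F ≃+* F) = MulAut.conj z := by
  obtain ⟨c, hc⟩ := h
  have hc0 : c ≠ 0 := fun e => det_ne_zero_gl g (by rw [hc, e, mul_zero])
  let s : Matrix.SpecialLinearGroup (Fin 2) F := ⟨c⁻¹ • (g : Matrix (Fin 2) (Fin 2) F), by
    rw [Matrix.det_smul, Fintype.card_fin, hc]; field_simp⟩
  refine ⟨cl s, ?_⟩
  rw [inner_eq_semiAut, semiAut_eq_semiAut_iff le_rfl, Cfsg.Geo.mem_scalars_iff]
  refine ⟨rfl, Units.mk0 c⁻¹ (inv_ne_zero hc0), ?_⟩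
  rw [Units.val_mul]
  show ((g⁻¹ : GL (Fin 2) F) : Matrix (Fin 2) (Fin 2) F) * (c⁻¹ • (g : Matrix (Fin 2) (Fin 2) F)) = _
  rw [Matrix.mul_smul, Units.inv_mul]
  rfl

/-- An involutory semilinear map with nontrivial field part has square determinant. -/
theorem isSquare_det (hodd : Odd (Fintype.card F)) {g : GL (Fin 2) F} {σ : F ≃+* F}
    (hσ : σ ≠ 1) (h : semiAut g σ * semiAut g σ = 1) : IsSquare (g : Matrix (Fin 2) (Fin 2) F).det := by
  rw [semiAut_mul, semiAut_eq_one_iff le_rfl, Cfsg.Geo.mem_scalars_iff] at h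
  obtain ⟨hσσ, c, hc⟩ := h
  obtain ⟨k, hk, hpow⟩ := exists_sqrt_card hσσ hσ
  have hcomm : gmap σ g * g = g * gmap σ g := by
    have h1 : (g * gmap σ g) * g = g * (g * gmap σ g) := Units.ext (by
      rw [Units.val_mul, Units.val_mul g (g * gmap σ g), hc, Matrix.smul_mul, Matrix.one_mul,
        Matrix.mul_smul, Matrix.mul_one])
    exact mul_left_cancel (a := g) (by rwa [mul_assoc] at h1)
  have hgg : gmap σ (gmap σ g) = g := Units.ext (by
    rw [coe_gmap, coe_gmap, Matrix.map_map]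
    ext i j
    exact DFunLike.congr_fun hσσ _)
  have hfix : σ (c : F) = c := by
    have h1 : gmap σ (g * gmap σ g) = g * gmap σ g := by rw [map_mul, hgg, hcomm]
    have h2 := congrArg (fun z : GL (Fin 2) F => (z : Matrix (Fin 2) (Fin 2) F) 0 0) h1
    simp only [coe_gmap, hc] at h2
    simpa using h2
  set δ := (g : Matrix (Fin 2) (Fin 2) F).det with hδ
  have hdet : δ * δ ^ k = (c : F) ^ 2 := by
    have h1 := congrArg Matrix.det hc
    rw [Units.val_mul, Matrix.det_mul, coe_gmap, Matrix.det_smul, Matrix.det_one, mul_one,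
      Fintype.card_fin] at h1
    rw [← hpow δ, ← h1, hδ, RingEquiv.map_det]
    rfl
  refine isSquare_of_pow_half hodd (det_ne_zero_gl g) ?_
  obtain ⟨j, hj⟩ : Odd k := (Nat.odd_mul.1 (hk ▸ hodd)).1
  have hk2 : Fintype.card F / 2 = (k + 1) * j := by
    rw [hk, hj, show (2 * j + 1) * (2 * j + 1) = 2 * ((2 * j + 1 + 1) * j) + 1 by ring]
    omega
  have h2 : (c : F) ^ (2 * j) = 1 := by
    have h1 : (c : F) ^ (2 * j) * c = c := by rw [← pow_succ, ← hj, ← hpow, hfix]
    exact mul_right_cancel₀ c.ne_zero (h1.trans (one_mul _).symm)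
  rw [hk2, pow_mul, pow_succ', hdet, ← pow_mul, h2]

end field

variable {G : Type u} [Group G] [Finite G] {P : Part G} {S : Sylow 2 G} {t y : G} {N : Subgroup G}
variable {F : Type} [Field F] [Fintype F]

/-- The action on the normal subgroup. -/
noncomputable def DihData.act (_h : DihData P S t y N) [N.Normal]
    (e : N ≃* Matrix.ProjectiveSpecialLinearGroup (Fin 2) F) :
    G →* MulAut (Matrix.ProjectiveSpecialLinearGroup (Fin 2) F) where
  toFun g := e.symm.trans ((MulAut.conjNormal g).trans e)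
  map_one' := MulEquiv.ext fun z => by simp
  map_mul' a b := MulEquiv.ext fun z => by simp [MulAut.mul_apply]

theorem DihData.act_apply (h : DihData P S t y N) [N.Normal]
    (e : N ≃* Matrix.ProjectiveSpecialLinearGroup (Fin 2) F) (g : G)
    (z : Matrix.ProjectiveSpecialLinearGroup (Fin 2) F) :
    h.act e g z = e (MulAut.conjNormal g (e.symm z)) := rfl

theorem DihData.act_coe (h : DihData P S t y N) [N.Normal]
    (e : N ≃* Matrix.ProjectiveSpecialLinearGroup (Fin 2) F) (n : N) :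
    h.act e (n : G) = MulAut.conj (e n) := MulEquiv.ext fun z => by
  rw [h.act_apply, MulAut.conj_apply]
  have : MulAut.conjNormal (n : G) (e.symm z) = n * e.symm z * n⁻¹ :=
    Subtype.ext (by simp [MulAut.conjNormal_apply])
  rw [this, map_mul, map_mul, map_inv, MulEquiv.apply_symm_apply]

theorem DihData.act_injective (h : DihData P S t y N) [N.Normal]
    (e : N ≃* Matrix.ProjectiveSpecialLinearGroup (Fin 2) F) : Function.Injective (h.act e) := by
  refine (MonoidHom.ker_eq_bot_iff _).1 (by_contra fun hb => ?_)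
  have h1 := MonoidHom.mem_ker.1 (h.least _ (MonoidHom.normal_ker _) hb)
  have hcen : ∀ n : N, t * (n : G) * t⁻¹ = n := fun n => by
    have h2 := DFunLike.congr_fun h1 (e n)
    rw [h.act_apply, MulEquiv.symm_apply_apply] at h2
    exact congrArg Subtype.val (e.injective h2)
  haveI := h.simple
  rcases IsSimpleGroup.eq_bot_or_eq_top_of_normal (Subgroup.center N) inferInstance with h3 | h3
  · have h4 : (⟨t, h.tN⟩ : N) ∈ Subgroup.center N := Subgroup.mem_center_iff.2 fun n =>
      Subtype.ext (mul_inv_eq_iff_eq_mul.1 (hcen n)).symm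
    rw [h3, Subgroup.mem_bot] at h4
    exact ne_one_of_orderOf_eq_two h.base.dih.ord (congrArg Subtype.val h4)
  · obtain ⟨a, ha, b, hb', hab⟩ := h.ncomm
    exact hab (congrArg Subtype.val
      ((Subgroup.mem_center_iff.1 (h3 ▸ Subgroup.mem_top (⟨b, hb'⟩ : N))) ⟨a, ha⟩))

/-- An involution of the normal subgroup is the only involution of its component. -/
theorem DihData.eq_of_mem_comp (h : DihData P S t y N) {W V : G} (hW : W ∈ N) (hW2 : orderOf W = 2)
    (hV : V ∈ P.comp W) (hV2 : orderOf V = 2) : V = W := by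
  obtain ⟨n, -, rfl⟩ := h.conjN W hW hW2
  have h2 := h.uniq _ ((P.conj t n V).1 hV) (by
    have := (MulAut.conj n⁻¹).orderOf_eq V
    simpa using this.trans hV2)
  rw [← h2]; group

/-- No element induces a field automorphism. -/
theorem DihData.no_field (h : DihData P S t y N) [N.Normal] (hodd : Odd (Fintype.card F))
    (e : N ≃* Matrix.ProjectiveSpecialLinearGroup (Fin 2) F) {g : G} {σ : F ≃+* F}
    (hg : h.act e g = semiAut 1 σ) : σ = 1 := by
  rcases eq_or_ne g 1 with rfl | hg1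
  · rw [map_one, eq_comm, semiAut_eq_one_iff le_rfl] at hg
    exact hg.1
  exfalso
  have h2 := two_ne_zero_of_odd hodd
  let w : Matrix.SpecialLinearGroup (Fin 2) F := ⟨!![0, 1; -1, 0], by simp [Matrix.det_fin_two]⟩
  let v : Matrix.SpecialLinearGroup (Fin 2) F := ⟨!![1, 1; 0, 1], by simp [Matrix.det_fin_two]⟩
  let ι : Matrix.ProjectiveSpecialLinearGroup (Fin 2) F → G := fun z => (e.symm z : G)
  have hι : ∀ a b, ι (a * b) = ι a * ι b := fun a b => by simp [ι]
  have hιinj : ∀ a b, ι a = ι b → a = b := fun a b hab => e.symm.injective (Subtype.ext hab)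
  have hι1 : ι 1 = 1 := by simp [ι]
  have hfix : ∀ s : Matrix.SpecialLinearGroup (Fin 2) F,
      (s : Matrix (Fin 2) (Fin 2) F).map σ = s → Commute g (ι (cl s)) := by
    intro s hs'
    have h1 : h.act e g (cl s) = cl s := by
      rw [hg, semiAut_cl]
      exact congrArg cl (Subtype.ext (by rw [coe_semiSLHom, hs']; simp))
    have h3 : MulAut.conjNormal g (e.symm (cl s)) = e.symm (cl s) :=
      e.injective (by rw [← h.act_apply e g, h1, MulEquiv.apply_symm_apply])
    exact mul_inv_eq_iff_eq_mul.1 (congrArg Subtype.val h3)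
  set W := ι (cl w) with hWdef
  set U := ι (cl v) with hUdef
  have hgW : Commute g W := hfix w (by ext i j; fin_cases i <;> fin_cases j <;> simp [w])
  have hgU : Commute g U := hfix v (by ext i j; fin_cases i <;> fin_cases j <;> simp [v])
  have hW2 : orderOf W = 2 := by
    haveI : Fact (Nat.Prime 2) := ⟨Nat.prime_two⟩
    refine orderOf_eq_prime ?_ fun e1 => ?_
    · rw [pow_two, hWdef, ← hι, ← hι1, ← cl_mul]
      refine congrArg ι (cl_eq_cl_iff.2 ⟨-1, ?_⟩)
      rw [Matrix.SpecialLinearGroup.coe_mul, Matrix.SpecialLinearGroup.coe_one]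
      ext i j; fin_cases i <;> fin_cases j <;>
        simp [w]
    · obtain ⟨c, hc⟩ := cl_eq_cl_iff.1 (hιinj (cl w) (cl 1) (e1.trans hι1.symm))
      simpa [w] using congrFun (congrFun hc 0) 0
  have hU2 : orderOf U ≠ 2 := fun e1 => by
    have h1 := sq_of_orderOf_eq_two e1
    rw [hUdef, ← hι, ← hι1, ← cl_mul] at h1
    obtain ⟨c, hc⟩ := cl_eq_cl_iff.1 (hιinj _ (cl 1) h1)
    simp only [Matrix.SpecialLinearGroup.coe_mul, Matrix.SpecialLinearGroup.coe_one] at hc
    have ha := congrFun (congrFun hc 0) 0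
    have hb := congrFun (congrFun hc 0) 1
    simp [v] at ha hb
    rcases hb with hb | hb
    · simp [hb] at ha
    · exact h2 (by rw [← hb]; norm_num)
  have hX2 : orderOf (W * U) ≠ 2 := fun e1 => by
    have h1 := sq_of_orderOf_eq_two e1
    rw [hWdef, hUdef, ← hι, ← hι, ← hι1, ← cl_mul, ← cl_mul] at h1
    obtain ⟨c, hc⟩ := cl_eq_cl_iff.1 (hιinj _ (cl 1) h1)
    simp only [Matrix.SpecialLinearGroup.coe_mul, Matrix.SpecialLinearGroup.coe_one] at hc
    have ha := congrFun (congrFun hc 0) 0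
    have hb := congrFun (congrFun hc 1) 0
    simp [w, v] at ha hb
    simp [← hb] at ha
  have hWU : U * W ≠ W * U := fun e1 => by
    rw [hWdef, hUdef, ← hι, ← hι, ← cl_mul, ← cl_mul] at e1
    obtain ⟨c, hc⟩ := cl_eq_cl_iff.1 (hιinj _ _ e1)
    simp only [Matrix.SpecialLinearGroup.coe_mul] at hc
    have ha := congrFun (congrFun hc 0) 0
    have hb := congrFun (congrFun hc 0) 1
    simp [w, v] at ha hb
    simp [ha] at hb
  set K := P.comp g with hK
  have hKc : P.IsComp K := Part.isComp_comp hg1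
  have hdich : ∀ a : G, Commute g a → a ∈ K ∨ orderOf g = orderOf a := fun a ha =>
    (em (a ∈ K)).imp id fun hna => (hKc.orderOf_eq (P.mem g hg1) hg1 hna ha).1
  by_cases hWK : W ∈ K
  · have hV : U * W * U⁻¹ ∈ K := by
      rcases hdich _ (((hgU.mul_right hgW).mul_right hgU.inv_right)) with h1 | h1
      · exact h1
      · have hg2 : orderOf g = 2 := h1.trans (hW2 ▸ (MulAut.conj U).orderOf_eq W)
        have hUK := (hdich U hgU).resolve_right fun e1 => hU2 (e1.symm.trans hg2)
        exact K.mul_mem (K.mul_mem hUK hWK) (K.inv_mem hUK)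
    have h1 : U * W * U⁻¹ = W := h.eq_of_mem_comp (e.symm (cl w)).2 hW2
      (by rw [hKc.eq_comp hWK (ne_one_of_orderOf_eq_two hW2)]; exact hV)
      (hW2 ▸ (MulAut.conj U).orderOf_eq W)
    exact hWU (mul_inv_eq_iff_eq_mul.1 h1)
  · have hg2 : orderOf g = 2 := ((hdich W hgW).resolve_left hWK).trans hW2
    have hUK := (hdich U hgU).resolve_right fun e1 => hU2 (e1.symm.trans hg2)
    have hXK := (hdich _ (hgW.mul_right hgU)).resolve_right fun e1 => hX2 (e1.symm.trans hg2)
    exact hWK ((K.mul_mem_cancel_right hUK).1 hXK)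

theorem DihData.five_le (h : DihData P S t y N) (hs : Semi P) (hodd : Odd (Fintype.card F))
    (e : N ≃* Matrix.ProjectiveSpecialLinearGroup (Fin 2) F) : 5 ≤ Fintype.card F := by
  by_contra hlt
  haveI := h.normN
  obtain ⟨j, hj⟩ := hodd
  haveI := CfsgLib.SL2.Dickson.isSolvable_psl_small (K := F) (by rw [Nat.card_eq_fintype_card]; omega)
  haveI : Group.IsSolvable N := Group.isSolvable_of_isSolvable_injective (f := e.toMonoidHom) e.injective
  have h1 := h.tN
  rw [hs.eq_bot_of_isSolvable N inferInstance, Subgroup.mem_bot] at h1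
  exact ne_one_of_orderOf_eq_two h.base.dih.ord h1

/-- The non-simple dihedral case. -/
theorem DihData.pgl (h : DihData P S t y N) (hs : Semi P) (hodd : Odd (Fintype.card F))
    (e : N ≃* Matrix.ProjectiveSpecialLinearGroup (Fin 2) F) (hN : N ≠ ⊤) :
    Nonempty (G ≃* (GL (Fin 2) F ⧸ Subgroup.center (GL (Fin 2) F))) := by
  haveI := h.normN
  have hd := h.base.dih
  set φ := h.act e with hφ
  have hinn : ∀ g : GL (Fin 2) F, IsSquare (g : Matrix (Fin 2) (Fin 2) F).det →
      ∃ n : N, φ n = semiAut g 1 := fun g hg => by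
    obtain ⟨z, hz⟩ := semiAut_eq_conj hg
    exact ⟨e.symm z, by rw [hφ, h.act_coe, e.apply_symm_apply, hz]⟩
  have hsplit : ∀ (g : GL (Fin 2) F) (σ : F ≃+* F), semiAut g σ = semiAut g 1 * semiAut 1 σ := fun g σ => by
    rw [semiAut_mul, map_one, mul_one, one_mul]
  -- an involution outside the normal subgroup
  obtain ⟨a, haH, haN⟩ : ∃ a ∈ P.comp t, a ∉ N := by
    by_contra! hle
    refine hN ((Subgroup.eq_top_iff' N).2 fun g => ?_)
    obtain ⟨n, hn, a, ha, rfl⟩ := h.exists_eq_mul g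
    exact N.mul_mem hn (hle a ha)
  have hyt : Commute y t := (hd.cent y).2 (Or.inr (by rw [sq_of_orderOf_eq_two hd.ordY]; exact one_mem _))
  have hx2 : orderOf (a * y) = 2 := (hd.invert hs ((hd.commute haH).mul_left hyt)
    fun e1 => hd.notMem ((Subgroup.mul_mem_cancel_left _ haH).1 e1)).1
  have hxN : a * y ∉ N := fun e1 => haN ((N.mul_mem_cancel_right h.yN).1 e1)
  obtain ⟨g₀, σ₀, hσ₀⟩ : ∃ g σ, φ (a * y) = semiAut g σ := by
    obtain ⟨g, σ, h1 | ⟨h1, -⟩⟩ := exists_semiAut le_rfl (φ (a * y))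
    · exact ⟨g, σ, h1⟩
    · omega
  have hns : ¬ IsSquare (g₀ : Matrix (Fin 2) (Fin 2) F).det := fun hsq => by
    obtain ⟨n, hn⟩ := hinn g₀ hsq
    have h1 : φ ((n : G)⁻¹ * (a * y)) = semiAut 1 σ₀ := by
      rw [map_mul, map_inv, hn, hσ₀, hsplit g₀ σ₀, inv_mul_cancel_left]
    have h2 : φ (n : G) = φ (a * y) := by rw [hn, hσ₀, h.no_field hodd e h1]
    exact hxN (h.act_injective e h2 ▸ n.2)
  have hσ1 : σ₀ = 1 := by
    by_contra hσ
    refine hns (isSquare_det hodd hσ ?_)
    rw [← hσ₀, ← map_mul, sq_of_orderOf_eq_two hx2, map_one]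
  subst hσ1
  have hmem : ∀ g : GL (Fin 2) F, ∃ x : G, φ x = semiAut g 1 := fun g => by
    by_cases hsq : IsSquare (g : Matrix (Fin 2) (Fin 2) F).det
    · obtain ⟨n, hn⟩ := hinn g hsq
      exact ⟨n, hn⟩
    · have h1 : IsSquare ((g * g₀ : GL (Fin 2) F) : Matrix (Fin 2) (Fin 2) F).det := by
        rw [Units.val_mul, Matrix.det_mul]
        refine isSquare_of_pow_half hodd (mul_ne_zero (det_ne_zero_gl g) (det_ne_zero_gl g₀)) ?_
        rw [mul_pow, pow_half_eq_neg_one hodd (det_ne_zero_gl g) hsq,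
          pow_half_eq_neg_one hodd (det_ne_zero_gl g₀) hns, neg_one_mul, neg_neg]
      obtain ⟨n, hn⟩ := hinn _ h1
      refine ⟨n * (a * y)⁻¹, ?_⟩
      rw [map_mul, map_inv, hn, hσ₀, ← toAutHom_apply, ← toAutHom_apply, ← toAutHom_apply, map_mul,
        mul_inv_cancel_right]
  have hrange : φ.range = (toAutHom (n := 2) (F := F)).range := by
    refine le_antisymm ?_ ?_
    · rintro _ ⟨x, rfl⟩
      obtain ⟨g, σ, h1 | ⟨h1, -⟩⟩ := exists_semiAut le_rfl (φ x)
      · obtain ⟨z, hz⟩ := hmem g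
        have h2 : φ (z⁻¹ * x) = semiAut 1 σ := by
          rw [map_mul, map_inv, hz, h1, hsplit g σ, inv_mul_cancel_left]
        exact ⟨g, by rw [toAutHom_apply, h1, h.no_field hodd e h2]⟩
      · omega
    · rintro _ ⟨g, rfl⟩
      exact hmem g
  exact ⟨(MonoidHom.ofInjective (h.act_injective e)).trans ((MulEquiv.subgroupCongr hrange).trans
    ((QuotientGroup.quotientKerEquivRange (toAutHom (n := 2) (F := F))).symm.trans
      (QuotientGroup.quotientMulEquivOfEq (toAutHom_ker le_rfl))))⟩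

end CfsgLib.Partition
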