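import Cfsg.Agent.Lib.Partition.NormalComp
import Cfsg.Agent.Lib.Partition.AbelianNormal
import Cfsg.Agent.Lib.Partition.CaseA
import Cfsg.Agent.Lib.Partition.Final
import Cfsg.Agent.Lib.Partition.PGL

/-!
Finite groups with a nontrivial partition (Baer, Kegel, Suzuki).
-/

set_option autoImplicit false
set_option linter.style.haveILetI false

namespace CfsgLib.Partition

universe u

variable {G : Type u} [Group G] [Finite G] {P : Part G}

/-- A normal `p`-subgroup, no component being normal. -/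
theorem exists_nData (hnc : ∀ H : Subgroup G, P.IsComp H → ¬ H.Normal) {p : ℕ} (hp : p.Prime)
    {N : Subgroup G} [hN : N.Normal] (hNp : IsPGroup p N) (hNb : N ≠ ⊥) :
    ∃ V : Subgroup G, NData P p V := by
  haveI := Fact.mk hp
  haveI : Group.IsNilpotent N := hNp.isNilpotent
  obtain ⟨k, hk⟩ := IsPGroup.iff_card.1 hNp
  have hdvd : p ∣ Nat.card N := by
    rw [hk]
    exact dvd_pow_self p fun e => hNb (Subgroup.eq_bot_of_card_eq _ (by rw [hk, e, pow_zero]))
  obtain ⟨c, hc, hco⟩ := exists_central_orderOf (H := N) (p := p) hdvd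
  haveI : (centralExp N p).Normal := ⟨fun z hz g => ⟨hN.conj_mem _ hz.1 g, fun h hh => by
    have h1 : g⁻¹ * h * g ∈ N := by simpa using hN.conj_mem h hh g⁻¹
    have := (hz.2.1 _ h1).map (MulAut.conj g).toMonoidHom
    simpa [mul_assoc] using this, by rw [conj_pow, hz.2.2]; group⟩⟩
  have hne : centralExp N p ≠ ⊥ := fun e => by
    have h1 : (c : G) ∈ centralExp N p := ⟨c.2, fun h hh =>
      (congrArg Subtype.val (Subgroup.mem_center_iff.1 hc ⟨h, hh⟩)).symm, by
      rw [← hco, ← Subgroup.orderOf_coe]; exact pow_orderOf_eq_one _⟩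
    rw [e, Subgroup.mem_bot] at h1
    rw [← Subgroup.orderOf_coe, h1, orderOf_one] at hco
    exact hp.one_lt.ne hco
  obtain ⟨V, hV, hVle, hVb, hVmin⟩ := CfsgLib.Cores.exists_minimal_normal_le hne
  refine ⟨V, hp, hV, ⟨⟨fun a b => Subtype.ext ((hVle a.2).2.1 b (hVle b.2).1).eq⟩⟩,
    fun v hv => (hVle hv).2.2, hVb, hVmin, fun H hH hle => hnc H hH ?_⟩
  obtain ⟨v, hv, hv1⟩ := (Subgroup.bot_or_exists_ne_one V).resolve_left hVb
  exact Subgroup.normalizer_eq_top_iff.1 ((Subgroup.eq_top_iff' _).2 fun g =>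
    hH.mem_normalizer_of_conj_mem (hle hv) hv1 (hle (hV.conj_mem v hv g)))

/-- A self-normalising component is a Frobenius complement. -/
theorem frobenius_of_self {H : Subgroup G} (hH : P.IsComp H)
    (hself : Subgroup.normalizer (H : Set G) = H) : Cfsg.IsFrobeniusComplement H := by
  refine ⟨hH.ne_bot, hH.ne_top, fun g hg => (Subgroup.eq_bot_iff_forall _).2 fun x hx => ?_⟩
  obtain ⟨h1, h2⟩ := Subgroup.mem_inf.1 hx
  by_contra hx1
  rw [CfsgLib.Frobenius.mem_conj_smul] at h2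
  have h3 := hH.mem_normalizer_of_conj_mem h1 hx1 (g := g⁻¹) (by rwa [inv_inv])
  rw [hself, inv_mem_iff] at h3
  exact hg h3

/-- The dihedral case of a semisimple partitioned group. -/
theorem Semi.psl_or_pgl (hs : Semi P) {S : Sylow 2 G} {t y : G}
    (hc : ∀ s ∈ (S : Subgroup G), Commute s t) (hd : IsDih P t y) :
    (∃ (F : Type) (_ : Field F) (_ : Fintype F), 4 ≤ Fintype.card F ∧
        Nonempty (G ≃* Matrix.ProjectiveSpecialLinearGroup (Fin 2) F)) ∨
    ∃ (F : Type) (_ : Field F) (_ : Fintype F), 5 ≤ Fintype.card F ∧ Odd (Fintype.card F) ∧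
        Nonempty (G ≃* (GL (Fin 2) F ⧸ Subgroup.center (GL (Fin 2) F))) := by
  obtain ⟨s, hs', hsH⟩ : ∃ s ∈ (S : Subgroup G), s ∉ P.comp t := by
    by_contra! hle
    have h1 : (P.comp t).relIndex (Subgroup.centralizer ({t} : Set G)) = 2 := by
      rw [Subgroup.relIndex_eq_two_iff]
      refine ⟨y, Subgroup.mem_centralizer_singleton_iff.2 ((hd.cent y).2 (Or.inr (by
        rw [sq_of_orderOf_eq_two hd.ordY]; exact one_mem _))).eq, fun b hb => ?_⟩
      simp only [Xor]
      by_cases hbH : b ∈ P.comp t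
      · exact Or.inr ⟨hbH, fun h' => hd.notMem ((Subgroup.mul_mem_cancel_left _ hbH).1 h')⟩
      · exact Or.inl ⟨((hd.cent b).1 (Subgroup.mem_centralizer_singleton_iff.1 hb)).resolve_left hbH, hbH⟩
    have h2 : (P.comp t).relIndex (Subgroup.centralizer ({t} : Set G)) ∣ (S : Subgroup G).index :=
      (Subgroup.relIndex_dvd_index_of_le fun g hg =>
        Subgroup.mem_centralizer_singleton_iff.2 (hd.commute hg).eq).trans
          (Subgroup.index_dvd_of_le fun g hg => hle g hg)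
    rw [h1] at h2
    exact S.not_dvd_index h2
  have hDS : DihS P S t s := ⟨hd.replace hs (hc s hs') hsH, hs', hc⟩
  obtain ⟨y', N, hD⟩ := hDS.exists_data hs
  obtain ⟨F, hF, hFt, hodd, ⟨e⟩⟩ := hD.exists_psl hs
  letI := hF
  letI := hFt
  have h5 := hD.five_le hs hodd e
  by_cases hN : N = ⊤
  · subst hN
    exact Or.inl ⟨F, hF, hFt, by omega, ⟨Subgroup.topEquiv.symm.trans e⟩⟩
  · exact Or.inr ⟨F, hF, hFt, h5, hodd, hD.pgl hs hodd e hN⟩

/-- Groups with a nontrivial invariant partition. -/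
theorem classify (P : Part G) (hnt : ∃ g : G, g ≠ 1) :
    Nonempty (G ≃* Equiv.Perm (Fin 4)) ∨
    (∃ p : ℕ, p.Prime ∧ Subgroup.closure {g : G | g ^ p ≠ 1} ≠ ⊤) ∨
    (∃ H : Subgroup G, Cfsg.IsFrobeniusComplement H) ∨
    (∃ (F : Type) (_ : Field F) (_ : Fintype F), 4 ≤ Fintype.card F ∧
        Nonempty (G ≃* Matrix.ProjectiveSpecialLinearGroup (Fin 2) F)) ∨
    (∃ (F : Type) (_ : Field F) (_ : Fintype F), 5 ≤ Fintype.card F ∧ Odd (Fintype.card F) ∧
        Nonempty (G ≃* (GL (Fin 2) F ⧸ Subgroup.center (GL (Fin 2) F)))) ∨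
    Cfsg.Lie.IsoSuzuki G := by
  classical
  by_cases hnc : ∃ H : Subgroup G, P.IsComp H ∧ H.Normal
  · obtain ⟨H, hH, hn⟩ := hnc
    rcases hH.baer with h | h
    · exact Or.inr (Or.inl h)
    · exact Or.inr (Or.inr (Or.inl h))
  push Not at hnc
  by_cases hP : ∃ p : ℕ, p.Prime ∧ ∃ N : Subgroup G, N.Normal ∧ IsPGroup p N ∧ N ≠ ⊥
  · obtain ⟨p, hp, N, hN, hNp, hNb⟩ := hP
    haveI := hN
    obtain ⟨V, hV⟩ := exists_nData hnc hp hNp hNb
    rcases hV.result with h | h | h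
    · exact Or.inl h
    · exact Or.inr (Or.inl h)
    · exact Or.inr (Or.inr (Or.inl h))
  push Not at hP
  by_cases hself : ∃ H : Subgroup G, P.IsComp H ∧ Subgroup.normalizer (H : Set G) = H
  · obtain ⟨H, hH, hn⟩ := hself
    exact Or.inr (Or.inr (Or.inl ⟨H, frobenius_of_self hH hn⟩))
  push Not at hself
  have hs : Semi P := ⟨hnt, hnc, hP, hself⟩
  by_cases hdih : ∃ z y : G, ∃ S : Sylow 2 G, (∀ s ∈ (S : Subgroup G), Commute s z) ∧ IsDih P z y
  · obtain ⟨z, y, S, hc, hd⟩ := hdih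
    rcases hs.psl_or_pgl hc hd with h | h
    · exact Or.inr (Or.inr (Or.inr (Or.inl h)))
    · exact Or.inr (Or.inr (Or.inr (Or.inr (Or.inl h))))
  push Not at hdih
  obtain ⟨T, t, hT⟩ := hs.exists_setting hdih
  rcases psl_or_suzuki_of_setting hT with h | h
  · exact Or.inr (Or.inr (Or.inr (Or.inl h)))
  · exact Or.inr (Or.inr (Or.inr (Or.inr (Or.inr h))))

end CfsgLib.Partition
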