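import Cfsg.Agent.Lib.Partition.Invol
import Cfsg.Agent.Lib.Partition.Action
import Cfsg.Agent.Lib.TwoGroups.RankOne
import Cfsg.Agent.Lib.TwoGroups.Basic
import Cfsg.Agent.Lib.TwoFusion.TransferMod
import Cfsg.Agent.Lib.SectRank.Transfer
import Cfsg.Agent.Lib.Frobenius.Kernel
import Cfsg.Agent.Lib.FrobSystem.Basic
import Cfsg.Agent.S0508

/-!
The dihedral case: a simple normal subgroup of the shape of `PSL(2, q)`, `q` odd.
-/

set_option autoImplicit false
set_option linter.style.haveILetI false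
set_option linter.unusedSectionVars false

open scoped IsMulCommutative

namespace CfsgLib.Partition

universe u

/-- A soluble non-trivial normal subgroup yields a non-trivial normal `p`-subgroup. -/
theorem exists_pGroup_normal {K : Type*} [Group K] [Finite K] {N : Subgroup K} [hN : N.Normal]
    (hne : N ≠ ⊥) (hsol : Group.IsSolvable N) :
    ∃ (p : ℕ) (E : Subgroup K), p.Prime ∧ E.Normal ∧ IsPGroup p E ∧ E ≠ ⊥ := by
  obtain ⟨R, hR, hRN, hRb, hRmin⟩ := CfsgLib.Cores.exists_minimal_normal_le hne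
  haveI := hR
  haveI : Group.IsSolvable R :=
    Group.isSolvable_of_isSolvable_injective (f := Subgroup.inclusion hRN) (Subgroup.inclusion_injective hRN)
  have hab : IsMulCommutative R := by
    rw [← Subgroup.commutator_self_eq_bot_iff]
    refine (hRmin _ inferInstance (Subgroup.commutator_le_self R)).resolve_right fun e => ?_
    haveI : Nontrivial R := (Subgroup.nontrivial_iff_ne_bot R).2 hRb
    have h1 := Group.IsSolvable.commutator_lt_top_of_nontrivial R
    refine h1.ne (Subgroup.map_injective R.subtype_injective ?_)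
    rw [map_commutator_eq, R.range_subtype, ← MonoidHom.range_eq_map, R.range_subtype]
    exact e
  obtain ⟨p, hp, hpR⟩ := Nat.exists_prime_and_dvd (n := Nat.card R)
    (fun e => hRb (Subgroup.eq_bot_of_card_eq _ e))
  haveI := Fact.mk hp
  obtain ⟨x, hx⟩ := exists_prime_orderOf_dvd_card' p hpR
  let E : Subgroup K :=
    { carrier := {x | x ∈ R ∧ x ^ p = 1}
      one_mem' := ⟨R.one_mem, one_pow p⟩
      mul_mem' := fun {a b} ha hb => ⟨R.mul_mem ha.1 hb.1, by
        rw [(show Commute a b from setLike_mul_comm ha.1 hb.1).mul_pow, ha.2, hb.2, one_mul]⟩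
      inv_mem' := fun {a} ha => ⟨R.inv_mem ha.1, by rw [inv_pow, ha.2, inv_one]⟩ }
  refine ⟨p, E, hp, ⟨fun y hy g => ⟨hR.conj_mem _ hy.1 g, by rw [conj_pow, hy.2]; group⟩⟩,
    fun y => ⟨1, Subtype.ext (by simpa using y.2.2)⟩, fun h => ?_⟩
  have h1 : (x : K) ∈ E := ⟨x.2, by rw [← hx, ← Subgroup.orderOf_coe]; exact pow_orderOf_eq_one _⟩
  rw [h, Subgroup.mem_bot] at h1
  rw [← Subgroup.orderOf_coe, h1, orderOf_one] at hx
  exact hp.one_lt.ne hx

variable {G : Type u} [Group G] [Finite G] {P : Part G}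

/-- The index in a normal subgroup divides the index. -/
theorem relIndex_dvd_index_of_right_normal (S N : Subgroup G) [N.Normal] : S.relIndex N ∣ S.index := by
  have h1 := Subgroup.relIndex_mul_relIndex (S ⊓ N) N (S ⊔ N) inf_le_right le_sup_right
  have h2 := Subgroup.relIndex_mul_relIndex (S ⊓ N) S (S ⊔ N) inf_le_left le_sup_left
  rw [Subgroup.inf_relIndex_right, Subgroup.relIndex_sup_right] at h1
  rw [Subgroup.inf_relIndex_left, ← h1, mul_comm (S.relIndex N)] at h2
  have h3 : S.relIndex (S ⊔ N) = S.relIndex N := mul_left_cancel₀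
    (fun e => Nat.card_pos.ne' (Nat.eq_zero_of_zero_dvd
      (e ▸ (Subgroup.relIndex_dvd_card (H := N) (K := S))))) h2
  exact h3 ▸ Subgroup.relIndex_dvd_index_of_le le_sup_left

/-- A dihedral centraliser of an involution central in a Sylow `2`-subgroup. -/
structure DihS (P : Part G) (S : Sylow 2 G) (t y : G) : Prop where
  dih : IsDih P t y
  yS : y ∈ (S : Subgroup G)
  central : ∀ s ∈ (S : Subgroup G), Commute s t

variable {S : Sylow 2 G} {t y : G}

theorem IsDih.isComp (h : IsDih P t y) : P.IsComp (P.comp t) :=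
  Part.isComp_comp (ne_one_of_orderOf_eq_two h.ord)

theorem IsDih.mem_self (h : IsDih P t y) : t ∈ P.comp t := P.mem t (ne_one_of_orderOf_eq_two h.ord)

theorem IsDih.commute (h : IsDih P t y) {g : G} (hg : g ∈ P.comp t) : Commute g t :=
  (h.cent g).2 (Or.inl hg)

theorem IsDih.mul_mem_comp (h : IsDih P t y) {a b : G} (ha : Commute a t) (ha' : a ∉ P.comp t)
    (hb : Commute b t) (hb' : b ∉ P.comp t) : a * b ∈ P.comp t := by
  have h1 := ((h.cent a).1 ha).resolve_left ha'
  have h2 := ((h.cent b).1 hb).resolve_left hb'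
  have h3 := mul_inv_cancel_right a y
  have h4 := (P.comp t).mul_mem h1 ((P.comp t).inv_mem h2)
  rw [show a * y * (b * y)⁻¹ = a * b⁻¹ by group] at h4
  have h5 : b⁻¹ = b := by
    refine inv_eq_of_mul_eq_one_right ?_
    obtain ⟨c, hc, rfl⟩ : ∃ c ∈ P.comp t, b = c * y :=
      ⟨b * y, h2, by rw [mul_assoc, sq_of_orderOf_eq_two h.ordY, mul_one]⟩
    calc c * y * (c * y) = c * (y * c * y⁻¹) * (y * y) := by group
      _ = 1 := by rw [h.inv c hc, sq_of_orderOf_eq_two h.ordY, mul_inv_cancel, one_mul]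
  rwa [h5] at h4

/-- Any element outside the component can replace `y`. -/
theorem IsDih.replace (h : IsDih P t y) (hs : Semi P) {s : G} (hs1 : Commute s t)
    (hs2 : s ∉ P.comp t) : IsDih P t s where
  ord := h.ord
  ordY := (hs.invert h.ord hs2 hs1).1
  notMem := hs2
  inv := fun a ha => (hs.invert h.ord hs2 hs1).2 a ha (h.commute ha)
  comm := h.comm
  cent := fun g => by
    constructor
    · intro hg
      by_cases hg' : g ∈ P.comp t
      · exact Or.inl hg'
      · exact Or.inr (h.mul_mem_comp hg hg' hs1 hs2)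
    · rintro (hg | hg)
      · exact h.commute hg
      · simpa using (h.commute hg).mul_left hs1.inv_left
  exp := h.exp

theorem IsDih.invert (h : IsDih P t y) (hs : Semi P) {g : G} (hg : Commute g t) (hg' : g ∉ P.comp t) :
    orderOf g = 2 ∧ ∀ a ∈ P.comp t, g * a * g⁻¹ = a⁻¹ :=
  ⟨(h.replace hs hg hg').ordY, (h.replace hs hg hg').inv⟩

theorem IsDih.mem_of_odd (h : IsDih P t y) (hs : Semi P) {g : G} (hg : Commute g t) (ho : Odd (orderOf g)) :
    g ∈ P.comp t := by
  by_contra hg'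
  rw [(h.invert hs hg hg').1] at ho
  exact Nat.not_odd_iff_even.2 even_two ho

/-- The `2`-elements of the component lie in the Sylow subgroup. -/
theorem DihS.mem_sylow (h : DihS P S t y) {x : G} (hx : x ∈ P.comp t) {k : ℕ} (hk : x ^ 2 ^ k = 1) :
    x ∈ (S : Subgroup G) := by
  haveI : Fact (Nat.Prime 2) := ⟨Nat.prime_two⟩
  let W : Subgroup G :=
    { carrier := {a | a ∈ P.comp t ∧ ∃ j : ℕ, a ^ 2 ^ j = 1}
      one_mem' := ⟨Subgroup.one_mem _, 0, one_pow _⟩
      mul_mem' := fun {a b} ha hb => by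
        obtain ⟨ha, i, hi⟩ := ha
        obtain ⟨hb, j, hj⟩ := hb
        refine ⟨Subgroup.mul_mem _ ha hb, i + j, ?_⟩
        rw [(h.dih.comm a ha b hb).mul_pow, pow_add]
        nth_rw 2 [mul_comm]
        rw [pow_mul, hi, one_pow, pow_mul, hj, one_pow, one_mul]
      inv_mem' := fun {a} ha => ⟨Subgroup.inv_mem _ ha.1, ha.2.imp fun j hj => by rw [inv_pow, hj, inv_one]⟩ }
  have hW : IsPGroup 2 W := fun a => a.2.2.imp fun j hj => Subtype.ext (by simpa using hj)
  have hSN : (S : Subgroup G) ≤ Subgroup.normalizer (W : Set G) := by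
    intro s hs
    have hconj : ∀ g : G, Commute g t → ∀ a ∈ W, g * a * g⁻¹ ∈ W := by
      intro g hg a ha
      refine ⟨?_, ha.2.imp fun j hj => by rw [conj_pow, hj]; group⟩
      exact (Subgroup.mem_normalizer_iff.1 (h.dih.isComp.mem_normalizer_of_commute h.dih.mem_self
        (ne_one_of_orderOf_eq_two h.dih.ord) hg) a).1 ha.1
    refine Subgroup.mem_normalizer_iff.2 fun a => ⟨hconj s (h.central s hs) a, fun ha => ?_⟩
    simpa [mul_assoc] using hconj s⁻¹ (h.central s hs).inv_left _ ha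
  have e := S.3 (IsPGroup.to_sup_of_normal_right' S.2 hW hSN) le_sup_left
  exact e ▸ Subgroup.mem_sup_right (show x ∈ W from ⟨hx, k, hk⟩)

/-- With two involutions in the component, outside elements are not fused into it. -/
theorem IsDih.not_fused (h : IsDih P t y) (hs : Semi P) {u : G} (hu : u ∈ P.comp t) (hu2 : orderOf u = 2)
    (hut : u ≠ t) {s : G} (hs1 : Commute s t) (hs2 : s ∉ P.comp t) (g : G) :
    g * s * g⁻¹ ∉ P.comp t := by
  intro hg
  obtain ⟨hso, hsinv⟩ := h.invert hs hs1 hs2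
  set u' := g * s * g⁻¹ with hu'
  have hu'o : orderOf u' = 2 := hso ▸ (MulAut.conj g).orderOf_eq s
  have hu'1 := ne_one_of_orderOf_eq_two hu'o
  have hK : P.comp u' = P.comp t := h.isComp.eq_comp hg hu'1
  -- `t` and `u` lie outside the component of `s`
  have hs0 := ne_one_of_orderOf_eq_two hso
  have hout : ∀ w ∈ P.comp t, w ≠ 1 → w ∉ P.comp s := fun w hw hw1 hws =>
    hs2 ((h.isComp.eq_of_mem (Part.isComp_comp hs0) hw hws hw1).symm ▸ P.mem s hs0)
  have hu1 := ne_one_of_orderOf_eq_two hu2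
  have hconj : ∀ w : G, w ∉ P.comp s → g * w * g⁻¹ ∉ P.comp t := fun w hw hw' => by
    rw [← hK, hu', P.conj] at hw'
    exact hw (by simpa [mul_assoc] using hw')
  have hsu : Commute s u := by
    have h1 := hsinv u hu
    rw [inv_eq_of_mul_eq_one_right (sq_of_orderOf_eq_two hu2)] at h1
    exact mul_inv_eq_iff_eq_mul.1 h1
  have hC : ∀ w : G, Commute w s → Commute (g * w * g⁻¹) u' := fun w hw => by
    have := hw.map (MulAut.conj g).toMonoidHom
    simpa [hu', mul_assoc] using this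
  have htu : t * u ≠ 1 := fun e => hut (by
    rw [← inv_eq_of_mul_eq_one_right e, inv_eq_of_mul_eq_one_right (sq_of_orderOf_eq_two h.ord)])
  have htu' := hconj _ (hout _ (mul_mem h.mem_self hu) htu)
  rcases hs.trichotomy hu'o with h1 | h1 | ⟨y', hy'⟩
  · exact hconj t (hout t h.mem_self (ne_one_of_orderOf_eq_two h.ord)) (hK ▸ h1 _ (hC t hs1.symm))
  · obtain ⟨a, ha, ha2⟩ := h.exp
    exact ha2 (h1 a (h.comm a ha u' hg))
  · refine htu' ?_
    rw [show g * (t * u) * g⁻¹ = (g * t * g⁻¹) * (g * u * g⁻¹) by group, ← hK]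
    exact hy'.mul_mem_comp (hC t hs1.symm)
      (hK.symm ▸ hconj t (hout t h.mem_self (ne_one_of_orderOf_eq_two h.ord)))
      (hC u hsu.symm) (hK.symm ▸ hconj u (hout u hu hu1))

/-- The component has a single involution. -/
theorem DihS.unique_involution (h : DihS P S t y) (hs : Semi P) {u : G} (hu : u ∈ P.comp t)
    (hu2 : orderOf u = 2) : u = t := by
  classical
  by_contra hut
  haveI : Fact (Nat.Prime 2) := ⟨Nat.prime_two⟩
  have hd := h.dih
  set H := P.comp t with hH
  have hHc := hd.isComp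
  set HS := H.subgroupOf (S : Subgroup G) with hHS
  have hidx : HS.index = 2 := by
    rw [Subgroup.index_eq_two_iff]
    refine ⟨⟨y, h.yS⟩, fun b => ?_⟩
    simp only [Xor, hHS, Subgroup.mem_subgroupOf, Subgroup.coe_mul]
    by_cases hb : (b : G) ∈ H
    · refine Or.inr ⟨hb, fun h' => hd.notMem ((Subgroup.mul_mem_cancel_left _ hb).1 h')⟩
    · exact Or.inl ⟨((hd.cent b).1 (h.central b b.2)).resolve_left hb, hb⟩
  haveI : HS.Normal := Subgroup.normal_of_index_eq_two hidx
  have hc : Nat.card ((S : Subgroup G) ⧸ HS) = 2 := hidx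
  haveI : IsCyclic ((S : Subgroup G) ⧸ HS) := isCyclic_of_prime_card hc
  let _ : CommGroup ((S : Subgroup G) ⧸ HS) := IsCyclic.commGroup
  let φ : (S : Subgroup G) →* (S : Subgroup G) ⧸ HS := QuotientGroup.mk' HS
  have hφ : ∀ x : (S : Subgroup G), φ x = 1 ↔ (x : G) ∈ H := fun x =>
    (QuotientGroup.eq_one_iff x).trans Subgroup.mem_subgroupOf
  have hout : ∀ s ∈ (S : Subgroup G), s ∉ H → φ.transfer s ≠ 1 := by
    intro s hsS hsH
    obtain ⟨hso, -⟩ := hd.invert hs (h.central s hsS) hsH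
    have hne : φ ⟨s, hsS⟩ ≠ 1 := fun e => hsH ((hφ _).1 e)
    have hsq : φ ⟨s, hsS⟩ ^ 2 = 1 := by
      have h1 := pow_card_eq_one' (x := φ ⟨s, hsS⟩)
      rwa [hc] at h1
    refine CfsgLib.TwoFusion.transfer_ne_one_of_controlled (p := 2) Nat.prime_two
      (Nat.prime_two.coprime_iff_not_dvd.2 S.not_dvd_index) φ s hsS ⟨1, by rw [pow_one, hso]⟩ hne ?_
    intro m a hm
    rcases Nat.even_or_odd' m with ⟨k, rfl | rfl⟩
    · have h2 : (⟨a * s ^ (2 * k) * a⁻¹, hm⟩ : (S : Subgroup G)) = 1 :=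
        Subtype.ext (by simp [pow_mul, ← hso, pow_orderOf_eq_one])
      rw [h2, map_one, pow_mul, hsq, one_pow]
    · have hv : a * s ^ (2 * k + 1) * a⁻¹ = a * s * a⁻¹ := by
        rw [pow_succ, pow_mul, ← hso, pow_orderOf_eq_one, one_pow, one_mul]
      have hnm : φ ⟨a * s ^ (2 * k + 1) * a⁻¹, hm⟩ ≠ 1 := fun e =>
        hd.not_fused hs hu hu2 hut (h.central s hsS) hsH a (hv ▸ (hφ _).1 e)
      obtain ⟨x, z, -, hall⟩ := Nat.card_eq_two_iff.1 hc
      have hsub : ∀ q : (S : Subgroup G) ⧸ HS, q = x ∨ q = z := fun q => by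
        have h1 : q ∈ ({x, z} : Set ((S : Subgroup G) ⧸ HS)) := hall.symm ▸ Set.mem_univ q
        simpa using h1
      have hpw : φ ⟨s, hsS⟩ ^ (2 * k + 1) = φ ⟨s, hsS⟩ := by
        rw [pow_succ, pow_mul, hsq, one_pow, one_mul]
      rw [hpw]
      rcases hsub 1 with h' | h' <;> rcases hsub (φ ⟨a * s ^ (2 * k + 1) * a⁻¹, hm⟩) with h'' | h'' <;>
        rcases hsub (φ ⟨s, hsS⟩) with h''' | h''' <;>
        first
        | exact h''.trans h'''.symm
        | exact absurd (h''.trans h'.symm) hnm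
        | exact absurd (h'''.trans h'.symm) hne
  set K := φ.transfer.ker with hK
  have hyK : φ.transfer y ≠ 1 := hout y h.yS hd.notMem
  have hKidx : K.index = 2 := by
    rw [hK, Subgroup.index_ker]
    have h1 := Subgroup.card_subgroup_dvd_card φ.transfer.range
    rw [hc] at h1
    refine ((Nat.dvd_prime Nat.prime_two).1 h1).resolve_left fun e => hyK ?_
    have := Subgroup.eq_bot_of_card_eq _ e
    exact Subgroup.mem_bot.1 (this ▸ ⟨y, rfl⟩)
  -- the component lies in the kernel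
  have hHK : H ≤ K := by
    intro x hx
    obtain ⟨a, c, rfl, -, ha, hc', ⟨k, hk⟩, hcop⟩ := exists_parts 2 x
    have haH : a ∈ H := Subgroup.zpowers_le.2 hx ha
    have hcH : c ∈ H := Subgroup.zpowers_le.2 hx hc'
    refine K.mul_mem ?_ ?_
    · have haS := h.mem_sylow haH hk
      have hay : a * y ∉ H := fun e => hd.notMem ((Subgroup.mul_mem_cancel_left _ haH).1 e)
      have h1 : a * y ∉ K := fun e => hout _ ((S : Subgroup G).mul_mem haS h.yS) hay e
      by_contra hne
      exact h1 ((Subgroup.mul_mem_iff_of_index_two hKidx).2 (iff_of_false hne hyK))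
    · refine MonoidHom.mem_ker.2 (orderOf_eq_one_iff.1 (Nat.eq_one_of_dvd_coprimes hcop
        (orderOf_map_dvd φ.transfer c) ?_))
      exact (orderOf_dvd_natCard _).trans (dvd_of_eq hc)
  haveI : K.Normal := MonoidHom.normal_ker _
  -- the normaliser of the component is the centraliser of `t`
  have hHM : ∀ g ∈ Subgroup.normalizer (H : Set G), ∀ a ∈ H, g * (y * a * y⁻¹) * g⁻¹ = (g * a * g⁻¹)⁻¹ := by
    intro g _ a ha
    rw [hd.inv a ha, conj_inv]
  have hM : ∀ g ∈ Subgroup.normalizer (H : Set G), Commute g t := by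
    set M := Subgroup.normalizer (H : Set G) with hMdef
    set C := Subgroup.centralizer ({t} : Set G) with hCdef
    have hCM : C ≤ M := fun g hg => hHc.mem_normalizer_of_commute hd.mem_self
      (ne_one_of_orderOf_eq_two hd.ord) (Subgroup.mem_centralizer_singleton_iff.1 hg)
    -- `y` is central modulo `H`
    have hyM : ∀ g ∈ M, g * y * g⁻¹ * y⁻¹ ∈ H := by
      intro g hg
      have hact : ∀ a ∈ H, Commute (g * y * g⁻¹ * y⁻¹) a := by
        intro a ha
        have h1 : g⁻¹ * (y⁻¹ * a * y) * g = (g⁻¹ * a * g)⁻¹ := by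
          have e1 := hd.inv a⁻¹ (inv_mem ha)
          rw [inv_inv] at e1
          rw [show y⁻¹ * a * y = a⁻¹ by
            conv_lhs => rw [← e1]
            group]
          group
        refine mul_inv_eq_iff_eq_mul.1 ?_
        calc g * y * g⁻¹ * y⁻¹ * a * (g * y * g⁻¹ * y⁻¹)⁻¹
            = g * (y * (g⁻¹ * (y⁻¹ * a * y) * g) * y⁻¹) * g⁻¹ := by group
          _ = g * (g⁻¹ * a * g) * g⁻¹ := by
              rw [h1, hd.inv _ (inv_mem ((Subgroup.mem_normalizer_iff''.1 hg a).1 ha)), inv_inv]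
          _ = a := by group
      by_contra hne
      obtain ⟨a, ha, ha2⟩ := hd.exp
      have := (hd.invert hs (hact t hd.mem_self) hne).2 a ha
      rw [(hact a ha).eq, mul_inv_cancel_right] at this
      exact ha2 (eq_inv_iff_mul_eq_one.1 this)
    haveI : (C.subgroupOf M).Normal := ⟨fun x hx g => by
      rw [Subgroup.mem_subgroupOf, Subgroup.mem_centralizer_singleton_iff] at hx ⊢
      have hgH : ∀ a ∈ H, (g : G) * a * (g : G)⁻¹ ∈ H := fun a ha =>
        (Subgroup.mem_normalizer_iff.1 g.2 a).1 ha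
      refine ((hd.cent _).2 ?_).eq
      simp only [Subgroup.coe_mul, InvMemClass.coe_inv]
      rcases (hd.cent (x : G)).1 hx with hx' | hx'
      · exact Or.inl (hgH _ hx')
      · refine Or.inr ?_
        have h1 := H.mul_mem (hgH _ hx') (hyM _ g.2)
        have hy2 := sq_of_orderOf_eq_two hd.ordY
        rw [inv_eq_of_mul_eq_one_right hy2] at h1
        rwa [show (g : G) * (x * y) * (g : G)⁻¹ * ((g : G) * y * (g : G)⁻¹ * y) =
          (g : G) * x * (y * y) * (g : G)⁻¹ * y by group, hy2, mul_one] at h1⟩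
    intro g hg
    by_contra hgt
    have hlt : (C.subgroupOf M).index ≠ 1 := fun e => by
      rw [Subgroup.index_eq_one, Subgroup.subgroupOf_eq_top] at e
      exact hgt (Subgroup.mem_centralizer_singleton_iff.1 (e hg))
    obtain ⟨r, hr, hrd⟩ := Nat.exists_prime_and_dvd hlt
    haveI := Fact.mk hr
    have hr2 : r ≠ 2 := fun e => by
      have h1 : 2 ∣ (C.subgroupOf M).index := e ▸ hrd
      exact S.not_dvd_index (h1.trans
        ((Subgroup.relIndex_dvd_index_of_le hCM).trans (Subgroup.index_dvd_of_le fun s hs' =>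
          Subgroup.mem_centralizer_singleton_iff.2 (h.central s hs').eq)))
    obtain ⟨bbar, hbbar⟩ := exists_prime_orderOf_dvd_card' r (G := M ⧸ C.subgroupOf M)
      (by rwa [← Subgroup.index_eq_card])
    obtain ⟨b₁, rfl⟩ := QuotientGroup.mk_surjective bbar
    obtain ⟨b, c, hbc, -, hb', hc', ⟨k, hbk⟩, hcop⟩ := exists_parts r b₁
    have hcC : (c : M ⧸ C.subgroupOf M) = 1 := by
      obtain ⟨z, hz⟩ := Subgroup.mem_zpowers_iff.1 hc'
      rw [← orderOf_eq_one_iff]
      refine Nat.eq_one_of_dvd_coprimes hcop (orderOf_map_dvd (QuotientGroup.mk' _) c) ?_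
      refine orderOf_dvd_of_pow_eq_one ?_
      rw [← hz, QuotientGroup.mk_zpow, ← zpow_natCast, ← zpow_mul, mul_comm, zpow_mul, zpow_natCast,
        ← hbbar, pow_orderOf_eq_one, one_zpow]
    have hbC : ¬ Commute (b : G) t := fun e => by
      have h1 : (b : M ⧸ C.subgroupOf M) = 1 := (QuotientGroup.eq_one_iff b).2
        (Subgroup.mem_subgroupOf.2 (Subgroup.mem_centralizer_singleton_iff.2 e.eq))
      rw [← hbc, QuotientGroup.mk_mul, h1, hcC, one_mul, orderOf_one] at hbbar
      exact hr.one_lt.ne hbbar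
    have hbH : (b : G) ∉ H := fun e => hbC (hd.commute e)
    have hbr : (b : G) ^ r = 1 := by
      have hrC : Commute ((b : G) ^ r) t := by
        have h1 : ((b ^ r : M) : M ⧸ C.subgroupOf M) = 1 := by
          obtain ⟨z, hz⟩ := Subgroup.mem_zpowers_iff.1 hb'
          rw [← hz, QuotientGroup.mk_pow, QuotientGroup.mk_zpow, ← zpow_natCast, ← zpow_mul, mul_comm,
            zpow_mul, zpow_natCast, ← hbbar, pow_orderOf_eq_one, one_zpow]
        rw [QuotientGroup.eq_one_iff, Subgroup.mem_subgroupOf, SubgroupClass.coe_pow,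
          Subgroup.mem_centralizer_singleton_iff] at h1
        exact h1
      refine hHc.pow_eq_one hbH (hd.mem_of_odd hs hrC ?_)
      have h1 : orderOf ((b : G) ^ r) ∣ r ^ k := (orderOf_pow_dvd r).trans
        (orderOf_dvd_of_pow_eq_one (by rw [← SubgroupClass.coe_pow, hbk]; rfl))
      exact Odd.of_dvd_nat ((hr.odd_of_ne_two hr2).pow) h1
    obtain ⟨hinv', hact'⟩ := twist (hr.odd_of_ne_two hr2) hbr b.2 hd.inv
    set g₀ := y * (b : G)
    obtain ⟨a₀, ha₀, ha₀2⟩ := hd.exp
    have hy't : Commute (g₀ ^ r) t := by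
      have h1 := hinv' t hd.mem_self
      rw [inv_eq_of_mul_eq_one_right (sq_of_orderOf_eq_two hd.ord)] at h1
      exact mul_inv_eq_iff_eq_mul.1 h1
    have hy'H : g₀ ^ r ∉ H := fun e => by
      have h1 := hinv' a₀ ha₀
      rw [(hd.comm _ e a₀ ha₀).eq, mul_inv_cancel_right] at h1
      exact ha₀2 (eq_inv_iff_mul_eq_one.1 h1)
    have hy'o := (hd.invert hs hy't hy'H).1
    have hy'u : Commute (g₀ ^ r) u := by
      have h1 := hinv' u hu
      rw [inv_eq_of_mul_eq_one_right (sq_of_orderOf_eq_two hu2)] at h1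
      exact mul_inv_eq_iff_eq_mul.1 h1
    have hg₀1 : g₀ ≠ 1 := fun e => hy'H (by rw [e, one_pow]; exact one_mem _)
    have hY := Part.isComp_comp (P := P) hg₀1
    have hy'Y : P.comp (g₀ ^ r) = P.comp g₀ :=
      hY.eq_comp (Part.pow_mem_comp hg₀1 r) (ne_one_of_orderOf_eq_two hy'o)
    have hcsq : (g₀ ^ (r + 1)) * (g₀ ^ (r + 1)) ≠ 1 := by
      intro e
      refine hbC ?_
      have h1 : ∀ l ∈ H, (b : G) * ((b : G) * l * (b : G)⁻¹) * (b : G)⁻¹ = l := fun l hl => by
        rw [← hact' _ ((Subgroup.mem_normalizer_iff.1 b.2 l).1 hl), ← hact' l hl]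
        calc g₀ ^ (r + 1) * (g₀ ^ (r + 1) * l * (g₀ ^ (r + 1))⁻¹) * (g₀ ^ (r + 1))⁻¹
            = (g₀ ^ (r + 1) * g₀ ^ (r + 1)) * l * (g₀ ^ (r + 1) * g₀ ^ (r + 1))⁻¹ := by group
          _ = l := by rw [e]; group
      have h2 : ∀ j : ℕ, Commute ((b : G) ^ (2 * j)) t := by
        intro j
        induction j with
        | zero => simp
        | succ j ih =>
          rw [mul_add, pow_add]
          refine ih.mul_left (mul_inv_eq_iff_eq_mul.1 ?_)
          rw [show 2 * 1 = 2 from rfl, pow_two, mul_inv_rev]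
          calc (b : G) * b * t * ((b : G)⁻¹ * (b : G)⁻¹) = (b : G) * ((b : G) * t * (b : G)⁻¹) * (b : G)⁻¹ := by
                group
            _ = t := h1 t hd.mem_self
      obtain ⟨j, hj⟩ := hr.odd_of_ne_two hr2
      have h3 := h2 (j + 1)
      rwa [show 2 * (j + 1) = r + 1 by omega, pow_succ, hbr, one_mul] at h3
    have hcc : Commute (g₀ ^ (r + 1)) (g₀ ^ r) := (Commute.refl g₀).pow_pow _ _
    have hnot : ∀ w ∈ H, w ≠ 1 → w ∉ P.comp (g₀ ^ r) := fun w hw hw1 hw' => hy'H
      ((hHc.eq_of_mem (Part.isComp_comp (ne_one_of_orderOf_eq_two hy'o)) hw hw' hw1).symm.le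
        (P.mem _ (ne_one_of_orderOf_eq_two hy'o)))
    rcases hs.trichotomy hy'o with h1 | h1 | ⟨y', hy'⟩
    · exact hnot t hd.mem_self (ne_one_of_orderOf_eq_two hd.ord) (h1 t hy't.symm)
    · exact hcsq (h1 _ hcc)
    · have htu : t * u ≠ 1 := fun e => hut (by
        rw [← inv_eq_of_mul_eq_one_right e, inv_eq_of_mul_eq_one_right (sq_of_orderOf_eq_two hd.ord)])
      exact hnot _ (mul_mem hd.mem_self hu) htu
        (hy'.mul_mem_comp hy't.symm (hnot t hd.mem_self (ne_one_of_orderOf_eq_two hd.ord)) hy'u.symm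
          (hnot u hu (ne_one_of_orderOf_eq_two hu2)))
  -- `H` is a Frobenius complement in the kernel
  by_cases hKH : K ≤ H
  · exact hs.noNormal H hHc (le_antisymm hKH hHK ▸ (inferInstance : K.Normal))
  have hF : Cfsg.IsFrobeniusComplement (H.subgroupOf K) := by
    refine ⟨fun e => ?_, fun e => hKH (Subgroup.subgroupOf_eq_top.1 e), fun g hg => ?_⟩
    · rw [Subgroup.subgroupOf_eq_bot, disjoint_iff, inf_eq_left.2 hHK] at e
      exact hHc.ne_bot e
    · refine (Subgroup.eq_bot_iff_forall _).2 fun x hx => ?_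
      obtain ⟨h1, h2⟩ := Subgroup.mem_inf.1 hx
      by_contra hx1
      rw [CfsgLib.Frobenius.mem_conj_smul] at h2
      rw [Subgroup.mem_subgroupOf] at h1 h2
      simp only [Subgroup.coe_mul, InvMemClass.coe_inv] at h2
      have hgN : (g : G)⁻¹ ∈ Subgroup.normalizer (H : Set G) := hHc.mem_normalizer_of_conj_mem h1
        (fun e => hx1 (Subtype.ext e)) (by rwa [inv_inv])
      rw [inv_mem_iff] at hgN
      rcases (hd.cent (g : G)).1 (hM _ hgN) with h3 | h3
      · exact hg (Subgroup.mem_subgroupOf.2 h3)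
      · exact hyK (MonoidHom.mem_ker.1 ((K.mul_mem_cancel_left g.2).1 (hHK h3)))
  obtain ⟨N, -, hNn, hcompl⟩ := CfsgLib.Frobenius.exists_kernel hF
  haveI := hNn
  have hNodd : Odd (Nat.card N) := by
    rw [← hcompl.index_eq_card]
    refine Nat.not_even_iff_odd.1 fun he => ?_
    have h1 : 2 ∣ (H.subgroupOf K).index := even_iff_two_dvd.1 he
    have hSK : (S : Subgroup G) ⊓ K ≤ H := fun s hs' => by
      by_contra hne
      exact hout s hs'.1 hne hs'.2
    have h3 : ((S : Subgroup G) ⊓ K).relIndex K ∣ (S : Subgroup G).index := by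
      rw [Subgroup.inf_relIndex_right]
      exact relIndex_dvd_index_of_right_normal _ _
    exact S.not_dvd_index (h1.trans ((Subgroup.relIndex_dvd_of_le_left K hSK).trans h3))
  haveI := Cfsg.Agent.S0205.result hNodd
  haveI : Group.IsSolvable (H.subgroupOf K) := by
    refine Group.isSolvable_of_comm fun a b => Subtype.ext (Subtype.ext ?_)
    exact hd.comm _ a.2 _ b.2
  haveI : Group.IsSolvable (K ⧸ N) :=
    Group.isSolvable_of_surjective (f := (QuotientGroup.mk' N).comp (H.subgroupOf K).subtype) fun z => by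
      obtain ⟨g, rfl⟩ := QuotientGroup.mk'_surjective N z
      obtain ⟨⟨k, a⟩, he⟩ := hcompl.2 g
      refine ⟨a, ?_⟩
      show QuotientGroup.mk' N (a : K) = QuotientGroup.mk' N g
      rw [← he, map_mul, show QuotientGroup.mk' N (k : K) = 1 from (QuotientGroup.eq_one_iff _).2 k.2,
        one_mul]
  have hKsol : Group.IsSolvable K := Group.isSolvable_of_ker_le_range N.subtype (QuotientGroup.mk' N)
    (by rw [QuotientGroup.ker_mk', Subgroup.range_subtype])
  have hKb := hs.eq_bot_of_isSolvable K hKsol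
  exact hHc.ne_bot (le_bot_iff.1 (hKb ▸ hHK))

/-- What is proved of the dihedral case before identification. -/
structure DihData (P : Part G) (S : Sylow 2 G) (t y : G) (N : Subgroup G) : Prop where
  base : DihS P S t y
  uniq : ∀ u ∈ P.comp t, orderOf u = 2 → u = t
  normN : N.Normal
  simple : IsSimpleGroup N
  ncomm : ∃ a ∈ N, ∃ b ∈ N, a * b ≠ b * a
  tN : t ∈ N
  yN : y ∈ N
  least : ∀ R : Subgroup G, R.Normal → R ≠ ⊥ → t ∈ R
  conjN : ∀ u ∈ N, orderOf u = 2 → ∃ n ∈ N, n * t * n⁻¹ = u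

/-- A non-cyclic `2`-group inside the Sylow subgroup contains `t`. -/
theorem DihS.mem_of_not_cyclic (h : DihS P S t y) (hs : Semi P)
    (huniq : ∀ u ∈ P.comp t, orderOf u = 2 → u = t) {X : Subgroup G} (hX : X ≤ (S : Subgroup G))
    (hnc : ¬ IsCyclic X) : t ∈ X ∧ ¬ X ≤ P.comp t := by
  haveI : Fact (Nat.Prime 2) := ⟨Nat.prime_two⟩
  have hd := h.dih
  have hne : ∃ x ∈ X, x ∈ P.comp t ∧ x ≠ 1 := by
    by_contra! hno
    refine hnc ?_
    rcases eq_or_ne X ⊥ with rfl | hb
    · infer_instance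
    obtain ⟨a, ha, ha1⟩ := (Subgroup.bot_or_exists_ne_one X).resolve_left hb
    have haH : a ∉ P.comp t := fun e => ha1 (hno a ha e)
    refine isCyclic_iff_exists_zpowers_eq_top.2 ⟨⟨a, ha⟩, (Subgroup.eq_top_iff' _).2 fun ⟨b, hb'⟩ => ?_⟩
    rcases eq_or_ne b 1 with rfl | hb1
    · exact one_mem _
    have hbH : b ∉ P.comp t := fun e => hb1 (hno b hb' e)
    have h1 := hd.mul_mem_comp (h.central a (hX ha)) haH (h.central b (hX hb')) hbH
    have h2 := inv_eq_of_mul_eq_one_right (hno _ (X.mul_mem ha hb') h1)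
    rw [inv_eq_of_mul_eq_one_right (sq_of_orderOf_eq_two (hd.invert hs (h.central a (hX ha)) haH).1)] at h2
    exact Subgroup.mem_zpowers_iff.2 ⟨1, Subtype.ext (by simpa using h2)⟩
  obtain ⟨x, hx, hxH, hx1⟩ := hne
  obtain ⟨k, hk⟩ := IsPGroup.iff_orderOf.1 (S.2.to_le hX) ⟨x, hx⟩
  rw [Subgroup.orderOf_mk] at hk
  have hk0 : k ≠ 0 := fun e => hx1 (orderOf_eq_one_iff.1 (by rw [hk, e, pow_zero]))
  have h2 : orderOf (x ^ (orderOf x / 2)) = 2 :=
    orderOf_pow_orderOf_div (orderOf_pos x).ne' (hk ▸ dvd_pow_self 2 hk0)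
  refine ⟨huniq _ (Subgroup.pow_mem _ hxH _) h2 ▸ X.pow_mem hx _, fun hle => hnc ?_⟩
  haveI : IsMulCommutative X :=
    ⟨⟨fun a b => Subtype.ext (hd.comm _ (hle a.2) _ (hle b.2)).eq⟩⟩
  refine CfsgLib.TwoGroups.isCyclic_of_uniqueOrderP_comm (p := 2) (S.2.to_le hX) fun a b ha hb => ?_
  rw [← Subgroup.orderOf_coe] at ha hb
  rw [Subtype.ext ((huniq _ (hle a.2) ha).trans (huniq _ (hle b.2) hb).symm)]
  exact Subgroup.mem_zpowers b

/-- The intersection of a Sylow subgroup with a normal subgroup, as a Sylow subgroup of that. -/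
theorem exists_sylow_inf (S : Sylow 2 G) (N : Subgroup G) [hN : N.Normal] :
    ∃ SN : Sylow 2 N, (SN : Subgroup N) = (S : Subgroup G).subgroupOf N := by
  haveI : Fact (Nat.Prime 2) := ⟨Nat.prime_two⟩
  have hp : IsPGroup 2 ((S : Subgroup G).subgroupOf N) := S.2.comap_subtype
  refine ⟨hp.toSylow fun h => S.not_dvd_index (h.trans ?_), rfl⟩
  exact relIndex_dvd_index_of_right_normal _ _

/-- A non-trivial group with cyclic Sylow `2`-subgroup is soluble. -/
theorem isSolvable_of_cyclic {K : Type*} [Group K] [Finite K] (R : Sylow 2 K)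
    (hR : IsCyclic (R : Subgroup K)) (he : 2 ∣ Nat.card K) : Group.IsSolvable K :=
  haveI : Fact (Nat.Prime 2) := ⟨Nat.prime_two⟩
  CfsgLib.FrobSystem.isSolvable_of_normalizer_le_centralizer R
    (IsCyclic.normalizer_le_centralizer (le_antisymm (Nat.minFac_le_of_dvd le_rfl he)
      (Nat.minFac_prime (by
        intro e
        rw [e] at he
        omega)).two_le) hR)

/-- The dihedral case leads to the data. -/
theorem DihS.exists_data (h : DihS P S t y) (hs : Semi P) :
    ∃ (y' : G) (N : Subgroup G), DihData P S t y' N := by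
  classical
  haveI : Fact (Nat.Prime 2) := ⟨Nat.prime_two⟩
  have hd := h.dih
  have huniq : ∀ u ∈ P.comp t, orderOf u = 2 → u = t := fun u hu hu2 => h.unique_involution hs hu hu2
  have ht1 := ne_one_of_orderOf_eq_two hd.ord
  -- normal subgroups
  have hbig : ∀ R : Subgroup G, R.Normal → R ≠ ⊥ → t ∈ R ∧ ¬ (S : Subgroup G) ⊓ R ≤ P.comp t := by
    intro R hRn hRb
    haveI := hRn
    obtain ⟨SR, hSR⟩ := exists_sylow_inf S R
    have he : 2 ∣ Nat.card R := by
      by_contra hcon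
      exact hRb (hs.eq_bot_of_odd R (Nat.not_even_iff_odd.1 fun he => hcon (even_iff_two_dvd.1 he)))
    have hnc : ¬ IsCyclic ((S : Subgroup G) ⊓ R : Subgroup G) := fun hcy => hRb
      (hs.eq_bot_of_isSolvable R (isSolvable_of_cyclic SR (by
        rw [hSR, ← Subgroup.inf_subgroupOf_right]
        exact (Subgroup.subgroupOfEquivOfLe inf_le_right).isCyclic.2 hcy) he))
    obtain ⟨h1, h2⟩ := h.mem_of_not_cyclic hs huniq inf_le_left hnc
    exact ⟨h1.2, h2⟩
  obtain ⟨g₁, hg₁⟩ := hs.nontriv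
  have htop : (⊤ : Subgroup G) ≠ ⊥ := fun e => hg₁ (Subgroup.mem_bot.1 (e ▸ Subgroup.mem_top g₁))
  obtain ⟨N, hN, -, hNb, hNmin⟩ := CfsgLib.Cores.exists_minimal_normal_le htop
  haveI := hN
  obtain ⟨htN, hNH⟩ := hbig N hN hNb
  obtain ⟨y', ⟨hy'S, hy'N⟩, hy'H⟩ := SetLike.not_le_iff_exists.1 hNH
  haveI : Nontrivial N := ⟨⟨⟨t, htN⟩, 1, fun e => ht1 (congrArg Subtype.val e)⟩⟩
  -- normal subgroups of `N`
  have htR : ∀ R : Subgroup N, R.Normal → R ≠ ⊥ → (⟨t, htN⟩ : N) ∈ R := by
    intro R hRn hRb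
    haveI := hRn
    obtain ⟨SN, hSN⟩ := exists_sylow_inf S N
    obtain ⟨SR, hSR⟩ := exists_sylow_inf (G := N) SN R
    by_contra hcon
    by_cases hsol : Group.IsSolvable R
    · obtain ⟨p, E, hp, hEn, hEp, hEb⟩ := exists_pGroup_normal hRb hsol
      haveI := hEn
      have h1 : E ≤ Cfsg.pCore p N := CfsgLib.Cores.le_pCore hEp
      have h2 : ((Cfsg.pCore p N).map N.subtype) = ⊥ :=
        hs.noP p hp _ inferInstance ((CfsgLib.Cores.isPGroup_pCore p N).map _)
      rw [Subgroup.map_eq_bot_iff_of_injective _ N.subtype_injective] at h2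
      exact hEb (le_bot_iff.1 (h2 ▸ h1))
    · have he : 2 ∣ Nat.card R := by
        by_contra hcon'
        exact hsol (Cfsg.Agent.S0205.result
          (Nat.not_even_iff_odd.1 fun he => hcon' (even_iff_two_dvd.1 he)))
      set X := ((SN : Subgroup N) ⊓ R).map N.subtype with hXdef
      have hXS : X ≤ (S : Subgroup G) := by
        rintro _ ⟨x, hx, rfl⟩
        exact Subgroup.mem_subgroupOf.1 (hSN ▸ hx.1)
      have hnc : ¬ IsCyclic X := fun hcy => hsol (isSolvable_of_cyclic SR (by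
        rw [hSR, ← Subgroup.inf_subgroupOf_right]
        exact (Subgroup.subgroupOfEquivOfLe inf_le_right).isCyclic.2
          ((Subgroup.equivMapOfInjective _ N.subtype N.subtype_injective).isCyclic.2 hcy)) he)
      obtain ⟨⟨x, hx, hxt⟩, -⟩ := h.mem_of_not_cyclic hs huniq hXS hnc
      exact hcon ((Subtype.ext hxt : x = ⟨t, htN⟩) ▸ hx.2)
  have hsimp : IsSimpleGroup N := ⟨fun R hRn => by
    rcases eq_or_ne R ⊥ with hb | hb
    · exact Or.inl hb
    right
    set T := Subgroup.normalClosure ({t} : Set G) with hT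
    have hTN : T ≤ N := Subgroup.normalClosure_le_normal (Set.singleton_subset_iff.2 htN)
    have hTb : T ≠ ⊥ := fun e => ht1 (Subgroup.mem_bot.1 (e ▸ Subgroup.subset_normalClosure rfl))
    have hTeq : T = N := (hNmin T Subgroup.normalClosure_normal hTN).resolve_left hTb
    have hconjs : Group.conjugatesOfSet ({t} : Set G) ⊆ (R.map N.subtype : Subgroup G) := by
      intro w hw
      obtain ⟨a, ha, haw⟩ := Group.mem_conjugatesOfSet_iff.1 hw
      rw [Set.mem_singleton_iff.1 ha] at haw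
      obtain ⟨g, rfl⟩ := isConj_iff.1 haw
      let α : N ≃* N := MulAut.conjNormal g⁻¹
      haveI : (R.map α.toMonoidHom).Normal := hRn.map _ α.surjective
      have h1 := htR (R.map α.toMonoidHom) inferInstance
        fun e => hb ((Subgroup.map_eq_bot_iff_of_injective _ α.injective).1 e)
      obtain ⟨x, hx, hxt⟩ := h1
      refine ⟨x, hx, ?_⟩
      have h2 : g⁻¹ * (x : G) * g⁻¹⁻¹ = t := congrArg Subtype.val hxt
      show (x : G) = g * t * g⁻¹
      rw [← h2]; group
    refine (Subgroup.eq_top_iff' R).2 fun n => ?_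
    have h1 : T ≤ R.map N.subtype := (Subgroup.closure_le _).2 hconjs
    obtain ⟨x, hx, hxn⟩ := h1 (hTeq.symm ▸ n.2 : (n : G) ∈ T)
    exact Subtype.ext hxn ▸ hx⟩
  have hncN : ∃ a ∈ N, ∃ b ∈ N, a * b ≠ b * a := by
    by_contra! hcm
    exact hNb (hs.eq_bot_of_isSolvable N (Group.isSolvable_of_comm fun a b =>
      Subtype.ext (hcm a a.2 b b.2)))
  have hd' : DihS P S t y' := ⟨hd.replace hs (h.central y' hy'S) hy'H, hy'S, h.central⟩
  refine ⟨y', N, hd', huniq, hN, hsimp, hncN, htN, hy'N, fun R hR hb => (hbig R hR hb).1, ?_⟩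
  -- one class of involutions in `N`
  obtain ⟨SN, hSN⟩ := exists_sylow_inf S N
  have hnab : ¬ IsMulCommutative N := fun hc => by
    obtain ⟨a, ha, b, hb, hab⟩ := hncN
    exact hab (congrArg Subtype.val (hc.1.1 ⟨a, ha⟩ ⟨b, hb⟩))
  have hin : ∀ w : N, w ∈ (SN : Subgroup N) → orderOf (w : G) = 2 → ∃ n : N, n * ⟨t, htN⟩ * n⁻¹ = w := by
    intro w hw hw2
    have hwS : (w : G) ∈ (S : Subgroup G) := Subgroup.mem_subgroupOf.1 (hSN ▸ hw)
    by_cases hwH : (w : G) ∈ P.comp t
    · exact ⟨1, by rw [one_mul, inv_one, mul_one]; exact Subtype.ext (huniq _ hwH hw2).symm⟩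
    let M : Subgroup (SN : Subgroup N) := ((P.comp t).subgroupOf N).subgroupOf SN
    have hM : M.index = 2 := by
      rw [Subgroup.index_eq_two_iff]
      refine ⟨⟨w, hw⟩, fun b => ?_⟩
      simp only [Xor, M, Subgroup.mem_subgroupOf, Subgroup.coe_mul]
      have hbS : ((b : N) : G) ∈ (S : Subgroup G) := Subgroup.mem_subgroupOf.1 (hSN ▸ b.2)
      by_cases hb : ((b : N) : G) ∈ P.comp t
      · exact Or.inr ⟨hb, fun h' => hwH ((Subgroup.mul_mem_cancel_left _ hb).1 h')⟩
      · exact Or.inl ⟨hd.mul_mem_comp (h.central _ hbS) hb (h.central _ hwS) hwH, hb⟩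
    obtain ⟨a, ha, haM⟩ := CfsgLib.SectRank.exists_conj_mem_of_index_two
      (fun K => CfsgLib.SectRank.index_ne_two_of_simple hnab K) SN M hM ⟨w, hw⟩
      (Subtype.ext (by simpa [pow_two] using sq_of_orderOf_eq_two hw2))
      (fun e => hwH (Subgroup.mem_subgroupOf.1 (Subgroup.mem_subgroupOf.1 e)))
    have h1 : (a : G) * w * (a : G)⁻¹ = t := huniq _
      (by simpa [M, Subgroup.mem_subgroupOf] using haM)
      (hw2 ▸ (MulAut.conj (a : G)).orderOf_eq (w : G))
    exact ⟨a⁻¹, Subtype.ext (by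
      show (a : G)⁻¹ * t * ((a : G)⁻¹)⁻¹ = (w : G)
      rw [← h1]; group)⟩
  intro u hu hu2
  obtain ⟨R, hR⟩ := (IsPGroup.of_card (n := 1) (by
      rw [Nat.card_zpowers, Subgroup.orderOf_mk, hu2, pow_one]) :
    IsPGroup 2 (Subgroup.zpowers (⟨u, hu⟩ : N))).exists_le_sylow
  obtain ⟨g, hg⟩ := MulAction.exists_smul_eq N R SN
  have h1 : g * ⟨u, hu⟩ * g⁻¹ ∈ (SN : Subgroup N) := by
    rw [← hg]
    exact Subgroup.smul_mem_pointwise_smul _ (MulAut.conj g) _ (hR (Subgroup.mem_zpowers _))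
  obtain ⟨n, hn⟩ := hin _ h1 (hu2 ▸ (MulAut.conj (g : G)).orderOf_eq u)
  refine ⟨(g : G)⁻¹ * n, N.mul_mem (N.inv_mem g.2) n.2, ?_⟩
  have h2 : (n : G) * t * (n : G)⁻¹ = g * u * (g : G)⁻¹ := congrArg Subtype.val hn
  calc (g : G)⁻¹ * n * t * ((g : G)⁻¹ * n)⁻¹ = (g : G)⁻¹ * ((n : G) * t * (n : G)⁻¹) * g := by group
    _ = u := by rw [h2]; group

variable {N : Subgroup G}

/-- Every element is a product of an element of `N` and one of the component. -/
theorem DihData.exists_eq_mul (h : DihData P S t y N) (g : G) :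
    ∃ n ∈ N, ∃ a ∈ P.comp t, g = n * a := by
  haveI := h.normN
  have hd := h.base.dih
  obtain ⟨n, hn, hnt⟩ := h.conjN (g * t * g⁻¹) (h.normN.conj_mem t h.tN g)
    (hd.ord ▸ (MulAut.conj g).orderOf_eq t)
  have hc : Commute (n⁻¹ * g) t := by
    refine mul_inv_eq_iff_eq_mul.1 ?_
    calc n⁻¹ * g * t * (n⁻¹ * g)⁻¹ = n⁻¹ * (g * t * g⁻¹) * n := by group
      _ = t := by rw [← hnt]; group
  rcases (hd.cent _).1 hc with h1 | h1
  · exact ⟨n, hn, _, h1, by group⟩
  · have hy2 := sq_of_orderOf_eq_two hd.ordY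
    refine ⟨n * y, N.mul_mem hn h.yN, y * (n⁻¹ * g * y) * y⁻¹, ?_, ?_⟩
    · rw [hd.inv _ h1]
      exact inv_mem h1
    · rw [inv_eq_of_mul_eq_one_right hy2]
      calc g = n * (y * y) * n⁻¹ * g * (y * y) := by rw [hy2]; group
        _ = _ := by group

/-- The normal subgroup is a linear group. -/
theorem DihData.exists_psl (h : DihData P S t y N) (hs : Semi P) :
    ∃ (F : Type) (_ : Field F) (_ : Fintype F), Odd (Fintype.card F) ∧
      Nonempty (N ≃* Matrix.ProjectiveSpecialLinearGroup (Fin 2) F) := by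
  classical
  haveI : Fact (Nat.Prime 2) := ⟨Nat.prime_two⟩
  haveI := h.normN
  haveI := h.simple
  have hd := h.base.dih
  set H := P.comp t with hH
  obtain ⟨SN, hSN⟩ := exists_sylow_inf S N
  set t' : N := ⟨t, h.tN⟩ with ht'
  have hmemS : ∀ w : N, w ∈ (SN : Subgroup N) ↔ (w : G) ∈ (S : Subgroup G) := fun w => by
    rw [hSN, Subgroup.mem_subgroupOf]
  have htS : t ∈ (S : Subgroup G) := h.base.mem_sylow hd.mem_self
    (k := 1) (by rw [pow_one, pow_two, sq_of_orderOf_eq_two hd.ord])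
  -- the cyclic part
  let X : Subgroup (SN : Subgroup N) := (H.subgroupOf N).subgroupOf SN
  have hXmem : ∀ w : (SN : Subgroup N), w ∈ X ↔ ((w : N) : G) ∈ H := fun w => Iff.rfl
  haveI : IsMulCommutative X :=
    ⟨⟨fun a b => Subtype.ext (Subtype.ext (Subtype.ext (hd.comm _ a.2 _ b.2).eq))⟩⟩
  have hXcyc : IsCyclic X := by
    refine CfsgLib.TwoGroups.isCyclic_of_uniqueOrderP_comm (p := 2) (SN.2.to_subgroup X) fun a b ha hb => ?_
    simp only [← Subgroup.orderOf_coe] at ha hb
    have : a = b := Subtype.ext (Subtype.ext (Subtype.ext ((h.uniq _ a.2 ha).trans (h.uniq _ b.2 hb).symm)))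
    rw [this]
    exact Subgroup.mem_zpowers b
  obtain ⟨x, hx⟩ := isCyclic_iff_exists_zpowers_eq_top.1 hXcyc
  set x' : (SN : Subgroup N) := (x : (SN : Subgroup N)) with hx'
  have hXz : X = Subgroup.zpowers x' := by
    have h1 := congrArg (fun K : Subgroup X => K.map X.subtype) hx
    simp only [← MonoidHom.range_eq_map, Subgroup.range_subtype, MonoidHom.map_zpowers] at h1
    exact h1.symm
  set yS : (SN : Subgroup N) := ⟨⟨y, h.yN⟩, (hmemS _).2 h.base.yS⟩ with hyS
  have hXidx : X.index = 2 := by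
    rw [Subgroup.index_eq_two_iff]
    refine ⟨yS, fun b => ?_⟩
    simp only [Xor, hXmem, Subgroup.coe_mul]
    have hbS : ((b : N) : G) ∈ (S : Subgroup G) := (hmemS _).1 b.2
    by_cases hb : ((b : N) : G) ∈ H
    · exact Or.inr ⟨hb, fun h' => hd.notMem ((Subgroup.mul_mem_cancel_left _ hb).1 h')⟩
    · exact Or.inl ⟨((hd.cent _).1 (h.base.central _ hbS)).resolve_left hb, hb⟩
  set m := orderOf x' with hm
  have hcard : Nat.card (SN : Subgroup N) = 2 * m := by
    rw [← X.card_mul_index, hXidx, hXz, Nat.card_zpowers, mul_comm]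
  have hxH : ((x' : N) : G) ∈ H := x.2
  have hm2 : 2 ≤ m := by
    have htX : (⟨t', (hmemS _).2 htS⟩ : (SN : Subgroup N)) ∈ X := hd.mem_self
    rw [hXz] at htX
    have h1 := orderOf_dvd_of_mem_zpowers htX
    rw [Subgroup.orderOf_mk, ← Subgroup.orderOf_coe, hd.ord] at h1
    exact Nat.le_of_dvd (orderOf_pos x') h1
  have hdih : Nonempty ((SN : Subgroup N) ≃* DihedralGroup m) := by
    refine CfsgLib.TwoGroups.nonempty_mulEquiv_dihedral (x := x') (y := yS) rfl hcard
      (fun e => hd.notMem ((hXmem yS).1 (hXz ▸ e))) ?_ ?_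
    · exact Subtype.ext (Subtype.ext (by
        show y ^ 2 = 1
        rw [pow_two, sq_of_orderOf_eq_two hd.ordY]))
    · exact Subtype.ext (Subtype.ext (hd.inv _ hxH))
  -- the odd core of the centraliser
  set O := (Cfsg.oddCore (Subgroup.centralizer ({t'} : Set N))).map
    (Subgroup.centralizer ({t'} : Set N)).subtype with hO
  have hOodd : ∀ w ∈ O, Odd (orderOf w) ∧ (w : G) ∈ H := by
    rintro _ ⟨c, hc, rfl⟩
    have h1 : Odd (orderOf c) := by
      obtain ⟨j, hj⟩ := CfsgLib.Cores.odd_card_oddCore (G := Subgroup.centralizer ({t'} : Set N))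
      exact Odd.of_dvd_nat ⟨j, hj⟩ (Subgroup.orderOf_mk c hc ▸ orderOf_dvd_natCard _)
    have h2 : orderOf ((Subgroup.centralizer ({t'} : Set N)).subtype c) = orderOf c := Subgroup.orderOf_coe c
    refine ⟨by rw [h2]; exact h1, hd.mem_of_odd hs ?_ ?_⟩
    · have h3 := Subgroup.mem_centralizer_singleton_iff.1 c.2
      exact congrArg Subtype.val h3
    · rw [Subgroup.orderOf_coe, h2]; exact h1
  have hOc : ∀ w : N, w ∈ (SN : Subgroup N) → (w : G) ∈ H → w ∈ Subgroup.centralizer (O : Set N) :=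
    fun w _ hwH => Subgroup.mem_centralizer_iff.2 fun o ho =>
      Subtype.ext (hd.comm _ (hOodd o ho).2 _ hwH).eq
  have hOinv : ∀ w : N, w ∈ (SN : Subgroup N) → w ∉ Subgroup.centralizer (O : Set N) →
      ∀ o ∈ O, w * o * w⁻¹ = o⁻¹ := fun w hw hw' o ho =>
    Subtype.ext ((hd.invert hs (h.base.central _ ((hmemS w).1 hw)) fun e => hw' (hOc w hw e)).2 _ (hOodd o ho).2)
  have hiff : O ≠ ⊥ → ∀ w : N, w ∈ (SN : Subgroup N) →
      (w ∈ Subgroup.centralizer (O : Set N) ↔ (w : G) ∈ H) := by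
    intro hOb w hw
    refine ⟨fun hwc => ?_, hOc w hw⟩
    by_contra hwH
    obtain ⟨o, ho, ho1⟩ := (Subgroup.bot_or_exists_ne_one O).resolve_left hOb
    have h1 := (hd.invert hs (h.base.central _ ((hmemS w).1 hw)) hwH).2 _ (hOodd o ho).2
    have h2 : (o : G) * w = w * o := congrArg Subtype.val (Subgroup.mem_centralizer_iff.1 hwc o ho)
    rw [← h2, mul_inv_cancel_right] at h1
    have h3 : orderOf o ∣ 2 := orderOf_dvd_of_pow_eq_one
      (Subtype.ext (by simpa [pow_two] using eq_inv_iff_mul_eq_one.1 h1))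
    obtain ⟨j, hj⟩ := (hOodd o ho).1
    rcases (Nat.dvd_prime Nat.prime_two).1 h3 with h4 | h4
    · exact ho1 (orderOf_eq_one_iff.1 h4)
    · omega
  refine Cfsg.Agent.S0508.result SN m hm2 hdih t' (by rw [ht', Subgroup.orderOf_mk, hd.ord])
    ((hmemS t').2 htS) (fun s hs' => Subtype.ext (h.base.central _ ((hmemS s).1 hs')).eq) O rfl
    (fun hOb => ?_) hOinv ?_
  · have heq : (SN : Subgroup N) ⊓ Subgroup.centralizer (O : Set N) = X.map (SN : Subgroup N).subtype := by
      ext w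
      refine ⟨fun ⟨hw, hwc⟩ => ⟨⟨w, hw⟩, (hiff hOb w hw).1 hwc, rfl⟩, ?_⟩
      rintro ⟨a, ha, rfl⟩
      exact ⟨a.2, (hiff hOb _ a.2).2 ha⟩
    rw [heq]
    refine ⟨(Subgroup.equivMapOfInjective X _ (Subgroup.subtype_injective _)).isCyclic.1 hXcyc, ?_⟩
    rw [Subgroup.relIndex, ← Subgroup.comap_subtype, Subgroup.comap_map_eq_self_of_injective
      (Subgroup.subtype_injective _), hXidx]
  · intro Y hY hYb n hn
    obtain ⟨o, ho, ho1⟩ := (Subgroup.bot_or_exists_ne_one Y).resolve_left hYb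
    have h1 := (Subgroup.mem_normalizer_iff.1 hn o).1 ho
    have hnN : (n : G) ∈ Subgroup.normalizer (H : Set G) := hd.isComp.mem_normalizer_of_conj_mem
      (hOodd o (hY ho)).2 (fun e => ho1 (Subtype.ext e)) (hOodd _ (hY h1)).2
    have h2 : (n : G) * t * (n : G)⁻¹ = t := h.uniq _ ((Subgroup.mem_normalizer_iff.1 hnN t).1 hd.mem_self)
      (hd.ord ▸ (MulAut.conj (n : G)).orderOf_eq t)
    exact Subgroup.mem_centralizer_singleton_iff.2 (Subtype.ext (mul_inv_eq_iff_eq_mul.1 h2))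

end CfsgLib.Partition
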