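import Cfsg.Agent.S4249
import Cfsg.Agent.Lib.Partition.Basic
import Cfsg.Agent.Lib.Partition.Action
import Cfsg.Agent.Lib.Partition.Tools

/-!
Baer's theorem: a partition with a normal component forces a Frobenius group or a group with proper
Hughes subgroup.
-/

set_option autoImplicit false
set_option linter.style.haveILetI false

namespace CfsgLib.Partition

universe u

variable {G : Type u} [Group G] [Finite G] {P : Part G}

theorem Part.IsComp.baer {H : Subgroup G} (hH : P.IsComp H) [hHn : H.Normal] :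
    (∃ p : ℕ, p.Prime ∧ Subgroup.closure {g : G | g ^ p ≠ 1} ≠ ⊤) ∨
      ∃ K : Subgroup G, Cfsg.IsFrobeniusComplement K := by
  classical
  by_cases hall : ∀ g ∉ H, ∀ h ∈ H, h ≠ 1 → ¬ Commute g h
  · exact Or.inr (exists_frobeniusComplement hH.ne_bot hH.ne_top hall)
  push Not at hall
  obtain ⟨g₀, hg₀, h₀, hh₀, hh₀1, hc₀⟩ := hall
  obtain ⟨ho₀, hp⟩ := hH.orderOf_eq hh₀ hh₀1 hg₀ hc₀.symm
  set p := orderOf h₀ with hpdef
  haveI := Fact.mk hp
  have hne : Subgroup.normalizer (H : Set G) ≠ H := by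
    rw [Subgroup.normalizer_eq_top]; exact hH.ne_top.symm
  haveI := hH.isNilpotent hne
  -- a minimal normal subgroup inside the centre of `H`
  let Ω : Subgroup G :=
    { carrier := {z | z ∈ H ∧ (∀ h ∈ H, Commute z h) ∧ z ^ p = 1}
      one_mem' := ⟨H.one_mem, fun h _ => Commute.one_left h, one_pow p⟩
      mul_mem' := fun {a b} ha hb => ⟨H.mul_mem ha.1 hb.1, fun h hh => (ha.2.1 h hh).mul_left (hb.2.1 h hh),
        by rw [(ha.2.1 b hb.1).mul_pow, ha.2.2, hb.2.2, one_mul]⟩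
      inv_mem' := fun {a} ha => ⟨H.inv_mem ha.1, fun h hh => (ha.2.1 h hh).inv_left,
        by rw [inv_pow, ha.2.2, inv_one]⟩ }
  haveI hΩn : Ω.Normal := ⟨fun z hz g => ⟨hHn.conj_mem _ hz.1 g, fun h hh => by
    have h1 : g⁻¹ * h * g ∈ H := by simpa using hHn.conj_mem _ hh g⁻¹
    have := (hz.2.1 _ h1).map (MulAut.conj g).toMonoidHom
    simpa [mul_assoc] using this, by rw [conj_pow, hz.2.2]; group⟩⟩
  have hΩne : Ω ≠ ⊥ := by
    obtain ⟨z, hz, hzo⟩ := exists_central_orderOf (H := H) (p := p)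
      (by
        have : p = orderOf (⟨h₀, hh₀⟩ : H) := by rw [Subgroup.orderOf_mk]
        rw [this]; exact orderOf_dvd_natCard _)
    intro e
    have h1 : (z : G) ∈ Ω := ⟨z.2, fun h hh =>
      (congrArg Subtype.val (Subgroup.mem_center_iff.1 hz ⟨h, hh⟩)).symm, by
      rw [← hzo, ← Subgroup.orderOf_coe]; exact pow_orderOf_eq_one _⟩
    rw [e, Subgroup.mem_bot] at h1
    rw [← Subgroup.orderOf_coe, h1, orderOf_one] at hzo
    exact hp.one_lt.ne hzo
  obtain ⟨V, hVn, hVΩ, hVb, hVmin⟩ := CfsgLib.Cores.exists_minimal_normal_le hΩne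
  haveI := hVn
  have hVH : ∀ v ∈ V, v ∈ H := fun v hv => (hVΩ hv).1
  have hVc : IsMulCommutative V :=
    ⟨⟨fun a b => Subtype.ext ((hVΩ a.2).2.1 b (hVH _ b.2)).eq⟩⟩
  have hVp : IsPGroup p V := fun v => ⟨1, Subtype.ext (by simpa using (hVΩ v.2).2.2)⟩
  obtain ⟨v₀, hv₀, hv₀1⟩ := (Subgroup.bot_or_exists_ne_one V).resolve_left hVb
  set T := Subgroup.centralizer (V : Set G) with hT
  have hcent : ∀ g : G, g ∈ T ↔ ∀ v ∈ V, Commute g v := fun g =>
    ⟨fun h v hv => (Subgroup.mem_centralizer_iff.1 h v hv).symm,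
      fun h => Subgroup.mem_centralizer_iff.2 fun v hv => ((h v hv).eq).symm⟩
  have hHT : H ≤ T := fun h hh => (hcent h).2 fun v hv => ((hVΩ hv).2.1 h hh).symm
  have hfix : ∀ g ∉ H, ∀ v ∈ V, v ≠ 1 → Commute g v → orderOf g = p := fun g hg v hv hv1 hc => by
    rw [← (hH.orderOf_eq (hVH v hv) hv1 hg hc.symm).1]
    exact orderOf_eq_prime (hVΩ hv).2.2 hv1
  have hTp : ∀ g ∈ T, g ∉ H → orderOf g = p := fun g hg hgH =>
    hfix g hgH v₀ hv₀ hv₀1 ((hcent g).1 hg v₀ hv₀)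
  have hfpf : ∀ g : G, g ∉ T → (orderOf g).Coprime p → ∀ v ∈ V, Commute g v → v = 1 := by
    intro g hg hcop v hv hc
    by_contra hv1
    have := hfix g (fun h => hg (hHT h)) v hv hv1 hc
    rw [this, Nat.coprime_self] at hcop
    exact hp.one_lt.ne' hcop
  have hnormp : ∀ y : G, y ∉ T → (∃ k : ℕ, y ^ p ^ k = 1) → y ^ p = 1 ∧ (∀ v ∈ V, (v * y) ^ p = 1) ∧
      ∃ v ∈ V, v ≠ 1 ∧ Commute y v := by
    intro y hy ⟨k, hk⟩
    have hyp : IsPGroup p (Subgroup.zpowers y) := by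
      obtain ⟨j, -, hj⟩ := (Nat.dvd_prime_pow hp).1 (orderOf_dvd_of_pow_eq_one hk)
      exact IsPGroup.of_card (n := j) (by rw [Nat.card_zpowers, hj])
    obtain ⟨v, hv, hv1, hc⟩ := exists_fixed hyp hVp hVb
      (fun g _ => Subgroup.normalizer_eq_top (H := V) ▸ Subgroup.mem_top g)
    have hcy := hc y (Subgroup.mem_zpowers y)
    refine ⟨?_, fun w hw => ?_, v, hv, hv1, hcy⟩
    · rw [← hfix y (fun h => hy (hHT h)) v hv hv1 hcy]; exact pow_orderOf_eq_one y
    · have hwy : w * y ∉ H := fun h => hy (hHT ((H.mul_mem_cancel_left (hVH w hw)).1 h))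
      rw [← hfix (w * y) hwy v hv hv1 (Commute.mul_left ((hVΩ hw).2.1 v (hVH v hv)) hcy)]
      exact pow_orderOf_eq_one _
  by_cases hdiv : p ∣ T.index
  · exfalso
    by_cases hp2 : p = 2
    · obtain ⟨ybar, hybar⟩ := exists_prime_orderOf_dvd_card' p (G := G ⧸ T) (by rwa [← Subgroup.index_eq_card])
      obtain ⟨y₁, rfl⟩ := QuotientGroup.mk_surjective ybar
      obtain ⟨a, c, hac, -, -, hc', hk, hcop⟩ := exists_parts p y₁
      have hcT : (c : G ⧸ T) = 1 := by
        obtain ⟨z, hz⟩ := Subgroup.mem_zpowers_iff.1 hc'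
        rw [← orderOf_eq_one_iff]
        refine Nat.eq_one_of_dvd_coprimes hcop (orderOf_map_dvd (QuotientGroup.mk' T) c) ?_
        refine orderOf_dvd_of_pow_eq_one ?_
        rw [← hz, QuotientGroup.mk_zpow, ← zpow_natCast, ← zpow_mul, mul_comm, zpow_mul, zpow_natCast,
          ← hybar, pow_orderOf_eq_one, one_zpow]
      have ha : a ∉ T := fun ha => by
        rw [← hac, QuotientGroup.mk_mul, hcT, mul_one, (QuotientGroup.eq_one_iff a).2 ha, orderOf_one] at hybar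
        exact hp.one_lt.ne hybar
      obtain ⟨ha2, hva, -⟩ := hnormp a ha hk
      refine ha ((hcent a).2 fun v hv => ?_)
      have h1 := hva v hv
      rw [hp2, sq] at h1 ha2
      have hai : a⁻¹ = a := inv_eq_of_mul_eq_one_right ha2
      have hvi : v⁻¹ = v := by
        have := (hVΩ hv).2.2
        rw [hp2, sq] at this
        exact inv_eq_of_mul_eq_one_right this
      have h2 : v * a = (v * a)⁻¹ := (inv_eq_of_mul_eq_one_right h1).symm
      rw [mul_inv_rev, hai, hvi] at h2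
      exact h2.symm
    · have hyp : Hyp p V T := ⟨hp, hp2, hVn, inferInstance, hVc, fun v hv => (hVΩ hv).2.2, hVb, hVmin,
        hcent, hfpf, fun y hy hk => ⟨(hnormp y hy hk).1, (hnormp y hy hk).2.1⟩⟩
      obtain ⟨b, y, -, -, -, hby, hy1, hyT, hbT, hcop, -, -⟩ := hyp.exists_pair hdiv
      obtain ⟨-, -, v, hv, hv1, hyv⟩ := hnormp y hyT ⟨1, by rwa [pow_one]⟩
      have hyo : orderOf y = p := orderOf_eq_prime hy1 fun e => hyT (e ▸ T.one_mem)
      have hpow : (b * y) ^ orderOf b = y ^ orderOf b := by rw [hby.mul_pow, pow_orderOf_eq_one, one_mul]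
      have hne1 : y ^ orderOf b ≠ 1 := fun e =>
        hp.one_lt.ne' (Nat.eq_one_of_dvd_coprimes hcop.symm dvd_rfl (hyo ▸ orderOf_dvd_of_pow_eq_one e))
      have hgH : b * y ∉ H := fun h => by
        have h1 : y ^ orderOf b ∈ T := hpow ▸ hHT (H.pow_mem h _)
        obtain ⟨m, hm⟩ := exists_pow_eq_self_of_coprime (x := y) (n := orderOf b) (hyo.symm ▸ hcop)
        exact hyT (hm ▸ T.pow_mem h1 m)
      have h2 := (hH.fixes_of_pow_fixes (g := b * y) (h := v) (k := orderOf b)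
        (Subgroup.normalizer_eq_top (H := H) ▸ Subgroup.mem_top _) hgH (hVH v hv) hv1
        (hpow.symm ▸ hne1) (hpow.symm ▸ (hyv.pow_left _).symm)).1
      have h3 : Commute b v := by simpa using h2.mul_left hyv.inv_left
      exact hv1 (hfpf b hbT hcop v hv h3)
  -- `p` does not divide the index of `T`
  have hpart : ∀ a : G, (∃ k : ℕ, a ^ p ^ k = 1) → a ∈ T := fun a ⟨k, hk⟩ => by
    rw [← QuotientGroup.eq_one_iff, ← orderOf_eq_one_iff]
    exact Nat.eq_one_of_dvd_coprimes (Nat.Coprime.pow_left k (hp.coprime_iff_not_dvd.2 hdiv))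
      (orderOf_dvd_of_pow_eq_one (by rw [← QuotientGroup.mk_pow, hk]; rfl))
      (Subgroup.index_eq_card T ▸ orderOf_dvd_natCard _)
  have hg₀T : g₀ ∈ T := hpart g₀ ⟨1, by rw [pow_one, ho₀, pow_orderOf_eq_one]⟩
  by_cases hTtop : T = ⊤
  · refine Or.inl ⟨p, hp, fun e => hH.ne_top (top_le_iff.1 (e ▸ (Subgroup.closure_le H).2 fun g hg => ?_))⟩
    by_contra hgH
    exact hg (hTp g (hTtop ▸ Subgroup.mem_top g) hgH ▸ pow_orderOf_eq_one g)
  have hTb : T ≠ ⊥ := fun e => hH.ne_bot (le_bot_iff.1 (e ▸ hHT))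
  by_cases hHp : IsPGroup p H
  · -- `T` is the kernel of a Frobenius group
    refine Or.inr (exists_frobeniusComplement hTb hTtop fun g hg t ht ht1 hgt => ?_)
    obtain ⟨a, c, hac, -, -, hc', hk, hcop⟩ := exists_parts p g
    have hcT : c ∉ T := fun h => hg (hac ▸ T.mul_mem (hpart a hk) h)
    obtain ⟨z, hz⟩ := Subgroup.mem_zpowers_iff.1 hc'
    have hct : Commute c t := hz ▸ hgt.zpow_left z
    have htk : ∃ k, orderOf t = p ^ k := by
      by_cases htH : t ∈ H
      · obtain ⟨k, hk⟩ := IsPGroup.iff_orderOf.1 hHp ⟨t, htH⟩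
        exact ⟨k, by rwa [Subgroup.orderOf_mk] at hk⟩
      · exact ⟨1, by rw [pow_one, hTp t ht htH]⟩
    obtain ⟨k, hk'⟩ := htk
    by_cases htH : t ∈ H
    · obtain ⟨e, -⟩ := hH.orderOf_eq htH ht1 (fun h => hcT (hHT h)) hct.symm
      rw [← e, hk'] at hcop
      have : p ^ k = 1 := Nat.eq_one_of_dvd_coprimes (hcop.pow_right k) dvd_rfl dvd_rfl
      exact ht1 (orderOf_eq_one_iff.1 (hk'.trans this))
    · have hpow : (c * t) ^ orderOf c = t ^ orderOf c := by
        rw [hct.mul_pow, pow_orderOf_eq_one, one_mul]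
      have hto : orderOf t = p := hTp t ht htH
      obtain ⟨m, hm⟩ := exists_pow_eq_self_of_coprime (x := t) (n := orderOf c) (hto.symm ▸ hcop)
      have hctH : c * t ∉ H := fun h => htH (hm ▸ H.pow_mem (hpow ▸ H.pow_mem h _) m)
      have hne1 : (c * t) ^ orderOf c ≠ 1 := fun e => ht1 (by rw [← hm, ← hpow, e, one_pow])
      have h2 := (hH.fixes_of_pow_fixes (g := c * t) (h := v₀) (k := orderOf c)
        (Subgroup.normalizer_eq_top (H := H) ▸ Subgroup.mem_top _) hctH (hVH _ hv₀) hv₀1 hne1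
        (hpow.symm ▸ (((hcent t).1 ht v₀ hv₀).pow_left _).symm)).1
      have h3 : Commute c v₀ := by simpa using h2.mul_left ((hcent t).1 ht v₀ hv₀).inv_left
      exact hv₀1 (hfpf c hcT hcop v₀ hv₀ h3)
  exfalso
  -- the index of `H` in `T` is `p`
  set X : Set T := {g : T | g ^ p ≠ 1} with hX
  have hXle : Subgroup.closure X ≤ H.subgroupOf T := (Subgroup.closure_le _).2 fun g hg => by
    by_contra hgH
    refine hg (Subtype.ext ?_)
    rw [SubgroupClass.coe_pow, ← hTp g g.2 hgH, pow_orderOf_eq_one]; rfl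
  have hHTne : H.subgroupOf T ≠ ⊤ := fun e => hg₀ (Subgroup.subgroupOf_eq_top.1 e hg₀T)
  have hTnp : ¬ IsPGroup p T := fun h => hHp (h.to_le hHT)
  obtain ⟨-, hidx⟩ := Cfsg.Agent.S4249.result p hp hTnp
    (fun e => hHTne (top_le_iff.1 (e ▸ hXle)))
  have hrel : (H.subgroupOf T).index = p := ((Nat.dvd_prime hp).1 (hidx ▸ Subgroup.index_dvd_of_le hXle)).resolve_left
    fun e => hHTne (Subgroup.index_eq_one.1 e)
  obtain ⟨S⟩ : Nonempty (Sylow p T) := inferInstance
  set S' := (S : Subgroup T).map T.subtype with hS'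
  have hfr : Subgroup.normalizer (S' : Set G) ⊔ T = ⊤ := S.normalizer_sup_eq_top
  have hSH : ¬ S' ≤ H := fun h => by
    have h1 : (S : Subgroup T) ≤ H.subgroupOf T := fun x hx => h ⟨x, hx, rfl⟩
    exact S.not_dvd_index (hrel.symm.dvd.trans (Subgroup.index_dvd_of_le h1))
  obtain ⟨t, htS, htH⟩ := SetLike.not_le_iff_exists.1 hSH
  have htT : t ∈ T := by obtain ⟨x, -, rfl⟩ := htS; exact x.2
  have hto : orderOf t = p := hTp t htT htH
  -- an element `b` of prime order modulo `T`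
  obtain ⟨r, hr, hrT⟩ := Nat.exists_prime_and_dvd (n := T.index) (fun e => hTtop (Subgroup.index_eq_one.1 e))
  haveI := Fact.mk hr
  have hrp : r ≠ p := fun e => hdiv (e ▸ hrT)
  obtain ⟨bbar, hbbar⟩ := exists_prime_orderOf_dvd_card' r (G := G ⧸ T) (by rwa [← Subgroup.index_eq_card])
  obtain ⟨n₁, rfl⟩ := QuotientGroup.mk_surjective bbar
  have hn₁ : n₁ ∈ ((Subgroup.normalizer (S' : Set G) ⊔ T : Subgroup G) : Set G) := by
    rw [hfr]; trivial
  rw [Subgroup.mul_normal] at hn₁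
  obtain ⟨n, hn, w, hw, hnw⟩ := Set.mem_mul.1 hn₁
  obtain ⟨b, c, hbc, -, hb', hc', ⟨k, hbk⟩, hcop⟩ := exists_parts r n
  have hnn : (n₁ : G ⧸ T) = (n : G ⧸ T) := by
    rw [← hnw, QuotientGroup.mk_mul, (QuotientGroup.eq_one_iff w).2 hw, mul_one]
  have hnr : (n : G ⧸ T) ^ r = 1 := by rw [← hnn, ← hbbar, pow_orderOf_eq_one]
  have hcT : (c : G ⧸ T) = 1 := by
    obtain ⟨z, hz⟩ := Subgroup.mem_zpowers_iff.1 hc'
    rw [← orderOf_eq_one_iff]
    refine Nat.eq_one_of_dvd_coprimes hcop (orderOf_map_dvd (QuotientGroup.mk' T) c) ?_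
    refine orderOf_dvd_of_pow_eq_one ?_
    rw [← hz, QuotientGroup.mk_zpow, ← zpow_natCast, ← zpow_mul, mul_comm, zpow_mul, zpow_natCast, hnr, one_zpow]
  have hbT : b ∉ T := fun h => by
    rw [hnn, ← hbc, QuotientGroup.mk_mul, hcT, mul_one, (QuotientGroup.eq_one_iff b).2 h, orderOf_one] at hbbar
    exact hr.one_lt.ne hbbar
  have hbN : b ∈ Subgroup.normalizer (S' : Set G) := Subgroup.zpowers_le.2 hn hb'
  have hbrT : b ^ r ∈ T := by
    rw [← QuotientGroup.eq_one_iff, QuotientGroup.mk_pow]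
    obtain ⟨z, hz⟩ := Subgroup.mem_zpowers_iff.1 hb'
    rw [← hz, QuotientGroup.mk_zpow, ← zpow_natCast, ← zpow_mul, mul_comm, zpow_mul, zpow_natCast, hnr, one_zpow]
  have hbH : b ∉ H := fun h => hbT (hHT h)
  have hbr : b ^ r = 1 := by
    refine hH.pow_eq_one hbH ?_
    by_contra h
    have h1 := hTp _ hbrT h
    have h2 : orderOf (b ^ r) ∣ r ^ k := (orderOf_pow_dvd r).trans (orderOf_dvd_of_pow_eq_one hbk)
    rw [h1] at h2
    exact hrp ((Nat.prime_dvd_prime_iff_eq hp hr).1 (hp.dvd_of_dvd_pow h2)).symm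
  have hbo : orderOf b = r := orderOf_eq_prime hbr fun e => hbT (e ▸ T.one_mem)
  let π := QuotientGroup.mk' H
  have hπ : ∀ g, π g = 1 ↔ g ∈ H := fun g => QuotientGroup.eq_one_iff g
  -- `T` modulo `H` is generated by `t`
  have hgen : ∀ x ∈ T, ∃ i : ℕ, π x = π t ^ i := by
    intro x hx
    haveI : (H.subgroupOf T).Normal := inferInstance
    have hcard : Nat.card (T ⧸ H.subgroupOf T) = p := hrel
    have ht1 : ((⟨t, htT⟩ : T) : T ⧸ H.subgroupOf T) ≠ 1 := fun e =>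
      htH (Subgroup.mem_subgroupOf.1 ((QuotientGroup.eq_one_iff _).1 e))
    have hmem : ((⟨x, hx⟩ : T) : T ⧸ H.subgroupOf T) ∈
        Subgroup.zpowers (((⟨t, htT⟩ : T) : T ⧸ H.subgroupOf T)) :=
      mem_zpowers_of_prime_card hcard ht1
    obtain ⟨i, -, hi⟩ := Finset.mem_image.1 (mem_zpowers_iff_mem_range_orderOf.1 hmem)
    refine ⟨i, ?_⟩
    rw [← QuotientGroup.mk_pow, QuotientGroup.eq, Subgroup.mem_subgroupOf] at hi
    rw [← map_pow, eq_comm, ← inv_mul_eq_one, ← map_inv, ← map_mul]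
    exact (hπ _).2 (by simpa using hi)
  by_cases hcm : Commute (π t) (π b)
  · -- `b` fixes an element of the coset
    let Y : Set G := {x | x ∈ S' ∧ π x = π t}
    have hYb : ∀ x ∈ Y, ∀ z ∈ Subgroup.zpowers b, z * x * z⁻¹ ∈ Y := by
      intro x hx z hz
      refine ⟨(Subgroup.mem_normalizer_iff.1 (Subgroup.zpowers_le.2 hbN hz) x).1 hx.1, ?_⟩
      obtain ⟨m, rfl⟩ := Subgroup.mem_zpowers_iff.1 hz
      rw [map_mul, map_mul, map_inv, hx.2, map_zpow, ← (hcm.zpow_right m).eq, mul_inv_cancel_right]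
    let act : MulAction (Subgroup.zpowers b) Y :=
      { smul := fun z x => ⟨z * x * (z : G)⁻¹, hYb x x.2 z z.2⟩
        one_smul := fun x => Subtype.ext (show ((1 : G) * x * (1 : G)⁻¹ = (x : G)) by group)
        mul_smul := fun z z' x => Subtype.ext
          (show ((z : G) * z' * x * ((z : G) * z')⁻¹ = z * (z' * x * (z' : G)⁻¹) * (z : G)⁻¹) by group) }
    have hB : IsPGroup r (Subgroup.zpowers b) :=
      IsPGroup.of_card (n := 1) (by rw [Nat.card_zpowers, hbo, pow_one])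
    have hS'p : IsPGroup p S' := S.2.map _
    have hY : ¬ r ∣ Nat.card Y := by
      let e : Y ≃ (S' ⊓ H : Subgroup G) :=
        { toFun := fun x => ⟨t⁻¹ * x, S'.mul_mem (S'.inv_mem htS) x.2.1,
            (hπ _).1 (by rw [map_mul, map_inv, x.2.2, inv_mul_cancel])⟩
          invFun := fun x => ⟨t * x, S'.mul_mem htS x.2.1, by rw [map_mul, (hπ _).2 x.2.2, mul_one]⟩
          left_inv := fun x => Subtype.ext (mul_inv_cancel_left t _)
          right_inv := fun x => Subtype.ext (inv_mul_cancel_left t _) }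
      rw [Nat.card_congr e]
      obtain ⟨j, hj⟩ := IsPGroup.iff_card.1 (hS'p.to_le (inf_le_left : S' ⊓ H ≤ S'))
      rw [hj]
      exact fun h => hrp ((Nat.prime_dvd_prime_iff_eq hr hp).1 (hr.dvd_of_dvd_pow h))
    obtain ⟨x, hx⟩ := (@IsPGroup.nonempty_fixed_point_of_prime_not_dvd_card r _ _ hB _ Y act hY :)
    have hbx : Commute b x := by
      have := congrArg Subtype.val (hx ⟨b, Subgroup.mem_zpowers b⟩)
      exact mul_inv_eq_iff_eq_mul.1 (this : b * (x : G) * b⁻¹ = x)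
    have hxT : (x : G) ∈ T := by obtain ⟨y, -, e⟩ := x.2.1; rw [← e]; exact y.2
    have hxH : (x : G) ∉ H := fun h => htH ((hπ t).1 (x.2.2 ▸ (hπ _).2 h))
    have hxo := hTp x hxT hxH
    have hcopr : (orderOf b).Coprime p := hbo.symm ▸ (Nat.coprime_primes hr hp).2 hrp
    obtain ⟨m, hm⟩ := exists_pow_eq_self_of_coprime (x := (x : G)) (n := orderOf b) (hxo.symm ▸ hcopr)
    have hpow : (b * x) ^ orderOf b = (x : G) ^ orderOf b := by
      rw [hbx.mul_pow, pow_orderOf_eq_one, one_mul]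
    have hne1 : (b * x) ^ orderOf b ≠ 1 := fun e => hxH (by rw [← hm, ← hpow, e, one_pow]; exact H.one_mem)
    have h2 := (hH.fixes_of_pow_fixes (g := b * x) (h := v₀) (k := orderOf b)
      (Subgroup.normalizer_eq_top (H := H) ▸ Subgroup.mem_top _)
      (fun h => hxH (hm ▸ H.pow_mem (hpow ▸ H.pow_mem h _) m)) (hVH _ hv₀) hv₀1 hne1
      (hpow.symm ▸ (((hcent _).1 hxT v₀ hv₀).pow_left _).symm)).1
    have h3 : Commute b v₀ := by simpa using h2.mul_left ((hcent _).1 hxT v₀ hv₀).inv_left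
    exact hv₀1 (hfpf b hbT hcopr v₀ hv₀ h3)
  -- `b` inverts nothing: norms
  obtain ⟨i, hi⟩ := hgen (b * t * b⁻¹) ((inferInstance : T.Normal).conj_mem t htT b)
  have hπt : π t ^ p = 1 := by rw [← map_pow, ← hto, pow_orderOf_eq_one, map_one]
  have hπb : π b ^ r = 1 := by rw [← map_pow, hbr, map_one]
  rw [map_mul, map_mul, map_inv] at hi
  obtain ⟨hco, hbyp⟩ := kernel_facts hp hr hπt hπb hi hcm
  obtain ⟨q, hq, hqH⟩ : ∃ q : ℕ, q.Prime ∧ q ∣ Nat.card H ∧ q ≠ p := by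
    by_contra! h
    exact hHp (IsPGroup.of_card (n := _) (Nat.eq_prime_pow_of_unique_prime_dvd Nat.card_pos.ne'
      fun {d} hd hd' => h d hd hd'))
  haveI := Fact.mk hq
  let W : Subgroup G :=
    { carrier := {z | z ∈ H ∧ (∀ h ∈ H, Commute z h) ∧ z ^ q = 1}
      one_mem' := ⟨H.one_mem, fun h _ => Commute.one_left h, one_pow q⟩
      mul_mem' := fun {a b} ha hb => ⟨H.mul_mem ha.1 hb.1, fun h hh => (ha.2.1 h hh).mul_left (hb.2.1 h hh),
        by rw [(ha.2.1 b hb.1).mul_pow, ha.2.2, hb.2.2, one_mul]⟩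
      inv_mem' := fun {a} ha => ⟨H.inv_mem ha.1, fun h hh => (ha.2.1 h hh).inv_left,
        by rw [inv_pow, ha.2.2, inv_one]⟩ }
  haveI hWn : W.Normal := ⟨fun z hz g => ⟨hHn.conj_mem _ hz.1 g, fun h hh => by
    have h1 : g⁻¹ * h * g ∈ H := by simpa using hHn.conj_mem _ hh g⁻¹
    have := (hz.2.1 _ h1).map (MulAut.conj g).toMonoidHom
    simpa [mul_assoc] using this, by rw [conj_pow, hz.2.2]; group⟩⟩
  haveI : IsMulCommutative W := ⟨⟨fun a b => Subtype.ext (a.2.2.1 b b.2.1).eq⟩⟩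
  have hWnorm : ∀ g : G, g ∈ Subgroup.normalizer (W : Set G) :=
    fun g => Subgroup.normalizer_eq_top (H := W) ▸ Subgroup.mem_top g
  obtain ⟨z, hz, hzo⟩ := exists_central_orderOf (H := H) (p := q) hqH.1
  have hzW : (z : G) ∈ W := ⟨z.2, fun h hh =>
    (congrArg Subtype.val (Subgroup.mem_center_iff.1 hz ⟨h, hh⟩)).symm, by
    rw [← hzo, ← Subgroup.orderOf_coe]; exact pow_orderOf_eq_one _⟩
  have hWv := pow_eq_one_of_norms (V := W) (hWnorm t) (hWnorm b) hp hr.pos i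
    (fun v hv => ((hv.2.1 _ ((hπ _).1 (by
      rw [map_mul, map_inv, map_mul, map_mul, map_pow]
      rw [(mul_inv_eq_iff_eq_mul.1 hi), inv_mul_cancel]))).symm))
    (fun v hv => by rw [← hto, pow_orderOf_eq_one]; exact Commute.one_left v)
    hco
    (fun v hv => by
      have h1 : v * t ∉ H := fun h => htH ((H.mul_mem_cancel_left hv.1).1 h)
      rw [← hto, pow_orderOf_eq_one, hto, ← hTp _ (T.mul_mem (hHT hv.1) htT) h1, pow_orderOf_eq_one])
    (fun j v hv => by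
      have h1 : t ^ j * b ∉ H := fun h => hbT ((T.mul_mem_cancel_left (T.pow_mem htT j)).1 (hHT h))
      have h2 : v * (t ^ j * b) ∉ H := fun h => h1 ((H.mul_mem_cancel_left hv.1).1 h)
      rw [hH.pow_eq_one h2 ((hπ _).1 (by
          rw [map_pow, map_mul, (hπ v).2 hv.1, one_mul, map_mul, map_pow, hbyp])),
        hH.pow_eq_one h1 ((hπ _).1 (by rw [map_pow, map_mul, map_pow, hbyp]))])
  have h1 : orderOf (z : G) ∣ p := orderOf_dvd_of_pow_eq_one (hWv _ hzW)
  rw [Subgroup.orderOf_coe, hzo] at h1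
  exact hqH.2 ((Nat.prime_dvd_prime_iff_eq hq hp).1 h1)

end CfsgLib.Partition
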